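import Cfsg.Agent.CoOneGolay.Params

/-!
The conjugates of `z` in the centraliser: 759 of them, one orbit under the normaliser.
-/

set_option autoImplicit false
set_option maxHeartbeats 4000000

open Cfsg Cfsg.Agent.ThreeTrans.OrthCohom Cfsg.Agent.Classical.Quad QuadraticMap Cfsg.Agent.LargeExtra
open Cfsg.Agent.CoOneType Cfsg.Agent.CoOneType.CoOne

namespace Cfsg.Agent.CoOneGolay

/-- One step towards the representative. -/
def stepP (v : ℕ) : ℕ :=
  if (parTab >>> (4 * v)) % 16 < 10 then appL (finalIm (Fin.ofNat 10 ((parTab >>> (4 * v)) % 16))) v else v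

/-- The representative. -/
def rootP (v : ℕ) : ℕ :=
  stepP (stepP (stepP (stepP (stepP (stepP (stepP (stepP (stepP (stepP (stepP v))))))))))

/-- The pfaffian. -/
def pfaff (a : ℕ) : Bool :=
  ((a.testBit 0 && a.testBit 5) != (a.testBit 1 && a.testBit 4)) != (a.testBit 2 && a.testBit 3)

theorem root_code : ∀ v : Fin 2048, rootP v.val ∈ [0, 1, 2, 32, 40, 384, 385] ∧
    zTab.testBit v.val = zTab.testBit (rootP v.val) ∧ zTab'.testBit v.val = zTab'.testBit (rootP v.val) ∧
    (v.val >>> 5 = 0 ↔ rootP v.val ∈ [0, 1, 2]) ∧ (rootP v.val = 0 ↔ v.val = 0) ∧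
    (pfaff (v.val >>> 5) = true ↔ rootP v.val ∈ [384, 385]) := by decide +kernel

theorem root_points : rootP 4 = 2 ∧ rootP 256 = 32 ∧ rootP 257 = 32 ∧ rootP 258 = 40 ∧ rootP 259 = 40 := by
  decide +kernel

theorem rep_bits : zTab.testBit 0 = false ∧ zTab.testBit 1 = true ∧ zTab.testBit 2 = true ∧
    zTab.testBit 32 = true ∧ zTab.testBit 40 = false ∧ zTab.testBit 384 = true ∧ zTab.testBit 385 = false ∧
    zTab'.testBit 0 = false ∧ zTab'.testBit 1 = true ∧ zTab'.testBit 2 = true ∧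
    zTab'.testBit 32 = true ∧ zTab'.testBit 40 = false ∧ zTab'.testBit 384 = false ∧ zTab'.testBit 385 = true := by
  decide +kernel

theorem final_lt : ∀ n : Fin 10, ∀ x ∈ finalIm n, x < 2048 := by decide +kernel

theorem decomposable_code : ∀ a : Fin 64,
    (∀ y : Fin 256, Bn y.val 1 = false → altn a.val y.val ^^^ y.val < 2) → pfaff a.val = false := by
  decide +kernel

theorem twelve_pfaff : pfaff 12 = true := by decide +kernel

theorem other_count :
    (Finset.univ.filter fun v : Fin 2048 => zTab'.testBit v.val && zTab'.testBit (1 ^^^ v.val)).card ≠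
      (Finset.univ.filter fun v : Fin 2048 => zTab'.testBit v.val && zTab'.testBit (385 ^^^ v.val)).card := by
  decide +kernel

variable {G : Type*} [Group G] [Finite G] {z : G} {S : CoOne z} {w : G}

/-- The normaliser. -/
abbrev Nm (S : CoOne z) : Subgroup G := Subgroup.normalizer (Au S : Set G)

/-- The finished model. -/
structure Mdl (D : Frm S w) (g : G) (s : ℕ) : Prop where
  mir : Mir D g
  good : D.X 2 * D.X 3 = D.X 3 * D.X 2
  g_mem : g ∈ Nm S
  gen_mem : ∀ n : Fin 10, genEl D n ∈ Nm S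
  gen : ∀ n : Fin 10, ∀ v, v < 2048 →
    genEl D n * D.psi s v * (genEl D n)⁻¹ = D.psi s (appL (finalIm n) v)
  conj_iff : ∀ v, v < 2048 → (IsConj z (D.psi s v) ↔ zTab.testBit v = true)
  orbit : ∀ v, v < 2048 → zTab.testBit v = true → ∃ n ∈ Nm S, n * z * n⁻¹ = D.psi s v
  orbit' : ∀ v, v < 2048 → v ≠ 0 → zTab.testBit v = false → ∃ n ∈ Nm S, n * D.psi s 385 * n⁻¹ = D.psi s v

theorem exists_model (z : G) (S₀ : CoOne z) : ∃ (S : CoOne z) (w : G) (D : Frm S w) (g : G) (s : ℕ), Mdl D g s := by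
  classical
  obtain ⟨w, F⟩ := S₀.exists_fr
  obtain ⟨D₀⟩ := exists_frm F
  obtain ⟨S, D, g, M⟩ := exists_mir_eight D₀
  obtain ⟨s, hgen⟩ := exists_final M
  obtain ⟨hgood, hnorm⟩ := M.good
  have hgi : g⁻¹ ∈ Nm S := mem_normalizer_of fun x hx => by rw [inv_inv]; exact hnorm x hx
  have hgN : g ∈ Nm S := inv_inv g ▸ inv_mem hgi
  have hgenN : ∀ n, genEl D n ∈ Nm S := fun n => mem_normalizer_of fun x hx => by
    obtain ⟨v, rfl⟩ := D.psi_surj s.val hx
    rw [hgen n v.val v.isLt]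
    exact D.psi_mem _ _
  let P : ℕ → Prop := fun v => IsConj z (D.psi s.val v)
  let Rel : ℕ → ℕ → Prop := fun a b => ∃ n ∈ Nm S, n * D.psi s.val a * n⁻¹ = D.psi s.val b
  have rel_symm : ∀ {a b}, Rel a b → Rel b a := fun {a b} ⟨n, hn, e⟩ => ⟨n⁻¹, inv_mem hn, by rw [← e]; group⟩
  have rel_trans : ∀ {a b c}, Rel a b → Rel b c → Rel a c := fun {a b c} ⟨n, hn, e⟩ ⟨m, hm, e'⟩ =>
    ⟨m * n, mul_mem hm hn, by rw [← e', ← e]; group⟩
  have rel_P : ∀ {a b}, Rel a b → (P a ↔ P b) := fun {a b} ⟨n, _, e⟩ =>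
    ⟨fun h => h.trans (isConj_iff.2 ⟨n, e⟩), fun h => h.trans (isConj_iff.2 ⟨n, e⟩).symm⟩
  have hstep : ∀ v, v < 2048 → stepP v < 2048 ∧ Rel v (stepP v) := by
    intro v hv
    unfold stepP
    split_ifs
    · exact ⟨appL_lt (final_lt _) v, genEl D _, hgenN _, hgen _ v hv⟩
    · exact ⟨hv, 1, one_mem _, by group⟩
  have hroot : ∀ v, v < 2048 → rootP v < 2048 ∧ Rel v (rootP v) := by
    have h2 : ∀ (f : ℕ → ℕ), (∀ v, v < 2048 → f v < 2048 ∧ Rel v (f v)) →
        ∀ v, v < 2048 → stepP (f v) < 2048 ∧ Rel v (stepP (f v)) := fun f hf v hv =>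
      ⟨(hstep _ (hf v hv).1).1, rel_trans (hf v hv).2 (hstep _ (hf v hv).1).2⟩
    exact h2 _ (h2 _ (h2 _ (h2 _ (h2 _ (h2 _ (h2 _ (h2 _ (h2 _ (h2 _ hstep)))))))))
  -- the small representatives
  have hgau : ∀ v, v >>> 5 = 0 → gau s.val v = v := fun v h => by simp [gau, h, pty6]
  have hgau2 : ∀ v, v < 2048 → gau s.val v = v ∨ gau s.val v = v ^^^ 1 := fun v _ => by
    unfold gau; split_ifs <;> simp
  have hp1 : D.psi s.val 1 = z := D.psi_one _
  have hp2 : D.psi s.val 2 = w := by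
    rw [Frm.psi, hgau 2 rfl, show (2 : ℕ) = 2 ^ (1 + (0 : Fin 8).val) from rfl, D.phi_E 0 (by decide), D.E_zero]
  have hP1 : P 1 := by show IsConj z _; rw [hp1]
  have hP0 : ¬ P 0 := fun h => by
    have h0 : D.psi s.val 0 = 1 := by rw [Frm.psi, hgau 0 rfl, D.phi_zero]
    have h' : IsConj z (D.psi s.val 0) := h
    rw [h0] at h'
    obtain ⟨c, hc⟩ := isConj_iff.1 h'
    exact S.zne (conj_eq_one_iff.1 hc)
  have hP2 : P 2 := by
    show IsConj z _
    rw [hp2]
    exact isConj_iff.2 ⟨g, M.gz⟩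
  have hX0 := D.X_spec 0
  obtain ⟨-, -, -, -, e5, e6, -, -⟩ := pair_three
  rw [e5, e6] at hX0
  have h32 : D.phi 32 = D.X 0 := D.phi_X 0
  have h8 : D.phi 8 = D.E 2 := D.phi_E 2 (by decide)
  have hP32 : P 32 := by
    show IsConj z _
    rcases hgau2 32 (by norm_num) with e | e <;> rw [Frm.psi, e]
    · rw [h32]; exact D.line_conj (by decide) (by decide) hX0
    · rw [D.phi_xor hgood _ _ (by norm_num) (by norm_num), h32, D.phi_z]
      exact D.line_conj (by decide) (by decide) (D.line_mul_z hX0)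
  have hP40 : ¬ P 40 := by
    obtain ⟨a, ha, hpa, hae⟩ : ∃ a : G, a ∈ oc z ∧ S.pr a = dc 4 ∧ D.psi s.val 40 = a * D.X 0 := by
      have h40 : D.phi 40 = D.E 2 * D.X 0 := by
        rw [show (40 : ℕ) = 8 ^^^ 32 from rfl, D.phi_xor hgood _ _ (by norm_num) (by norm_num), h8, h32]
      rcases hgau2 40 (by norm_num) with e | e
      · exact ⟨D.E 2, D.E_mem 2, D.E_pr 2, by rw [Frm.psi, e, h40]⟩
      · refine ⟨D.E 2 * z, mul_mem (D.E_mem 2) S.zmem,
          by rw [S.pr_mul _ (D.E_mem 2) _ S.zmem, S.pr_z, add_zero]; exact D.E_pr 2, ?_⟩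
        rw [Frm.psi, e, D.phi_xor hgood _ _ (by norm_num) (by norm_num), h40, D.phi_z, mul_assoc, mul_assoc,
          hX0.2.2.1]
    show ¬ IsConj z _
    rw [hae]
    exact not_conj_z D.F false ⟨a, D.X 0, ha, Or.inl hpa, (by have h := hX0.1; rwa [D.E_zero] at h), hX0.2.2.1, hX0.2.2.2, rfl⟩
  -- the rank four element
  have hX3 := D.X_Au 3
  obtain ⟨v, hv⟩ := D.psi_surj s.val (hnorm _ hX3)
  have hv12 : v.val >>> 5 = 12 := by
    rw [← gau_shift s.val]
    exact mirror_code M (v := ⟨gau s.val v.val, gau_lt v.isLt⟩) hv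
  have hPv : P v.val := by
    show IsConj z (D.psi s.val v.val)
    rw [← hv]; exact M.conj
  have hvz : D.psi s.val (v.val ^^^ 1) = g⁻¹ * D.X 3 * g * z := by
    rw [D.psi_xor hgood s.val v.isLt (by norm_num), ← hv, hp1]
  have hnPv : ¬ P (v.val ^^^ 1) := by
    show ¬ IsConj z _
    rw [hvz]; exact M.nconj
  have hv1lt : v.val ^^^ 1 < 2048 := Nat.xor_lt_two_pow (n := 11) v.isLt (by norm_num)
  have hv1s : (v.val ^^^ 1) >>> 5 = 12 := by
    rw [Nat.shiftRight_xor_distrib, hv12]; rfl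
  have rv : rootP v.val ∈ [384, 385] := ((root_code v).2.2.2.2.2).1 (by rw [hv12]; exact twelve_pfaff)
  have rv' : rootP (v.val ^^^ 1) ∈ [384, 385] :=
    ((root_code ⟨_, hv1lt⟩).2.2.2.2.2).1 (by show pfaff ((v.val ^^^ 1) >>> 5) = true; rw [hv1s]; exact twelve_pfaff)
  have hPr : P (rootP v.val) := (rel_P (hroot _ v.isLt).2).1 hPv
  have hnPr : ¬ P (rootP (v.val ^^^ 1)) := fun h => hnPv ((rel_P (hroot _ hv1lt).2).2 h)
  simp only [List.mem_cons, List.not_mem_nil, or_false] at rv rv'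
  -- the orbit of `z`
  have hR2 : Rel 1 2 := ⟨g, hgN, by rw [hp1, hp2]; exact M.gz⟩
  obtain ⟨u, hu⟩ := D.psi_surj s.val ((Subgroup.mem_normalizer_iff.1 hgN _).1 (D.E_Au (i := 1) (by decide)))
  have hp4 : D.psi s.val 4 = D.E 1 := by
    rw [Frm.psi, hgau 4 rfl]; exact D.phi_E 1 (by decide)
  have hR4 : Rel 1 4 := rel_trans hR2 (rel_symm (by
    have := (hroot 4 (by norm_num)).2
    rwa [root_points.1] at this))
  have hR1u : Rel 1 u.val := rel_trans hR4 ⟨g, hgN, by rw [hp4, ← hu]⟩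
  have hE1w : D.E 1 * w = w * D.E 1 := by
    have h := D.E_comm (i := 1) (j := 0) (by decide)
    rwa [D.E_zero] at h
  have hgw : g * D.E 1 * g⁻¹ ∈ oc w := by
    have h := conj_mem_oc (g := g) (D.E_mem 1)
    rwa [M.gz] at h
  have hgz : g * D.E 1 * g⁻¹ * z = z * (g * D.E 1 * g⁻¹) := by
    have haw : D.E 1 * (g⁻¹ * z * g) = g⁻¹ * z * g * D.E 1 :=
      comm_of_perp M.fr (D.E_mem 1) (by
        rw [D.E_pr, show dc 1 = un 0 by simp [un]]
        exact B_un_zero (by decide))
    calc g * D.E 1 * g⁻¹ * z = g * (D.E 1 * (g⁻¹ * z * g)) * g⁻¹ := by group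
      _ = z * (g * D.E 1 * g⁻¹) := by rw [haw]; group
  have hru : rootP u.val = 32 := by
    have hPu : P u.val := (rel_P hR1u).1 hP1
    have hu5 : u.val >>> 5 ≠ 0 := fun h => by
      have hk : g * D.E 1 * g⁻¹ ∈ oc z := by
        rw [hu, Frm.psi, hgau _ h,
          show D.phi u.val = ex z (u.val.testBit 0) * D.phiU (u.val >>> 1 % 16) * D.phiX (u.val >>> 5) from rfl, h,
          show D.phiX 0 = 1 by simp [Frm.phiX, ex], mul_one]
        refine mul_mem ?_ (D.phiU_spec ⟨_, Nat.mod_lt _ (by norm_num)⟩).1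
        cases u.val.testBit 0
        · exact one_mem _
        · exact S.zmem
      have hp : S.pr (D.E 1) = 0 ∨ S.pr (D.E 1) = dc 1 := by
        have hw' : g⁻¹ * w * g = z := mirror_w M.gz
        have e0 : D.E 1 = g⁻¹ * (g * D.E 1 * g⁻¹) * g := by group
        rcases inter D.F hk hgw with e | e | e | e
        · exact Or.inl (by rw [conj_eq_one_iff.1 e, S.pr_one])
        · exact Or.inr (by rw [e0, e, M.fr.pr_eq])
        · exact Or.inl (by rw [e0, e, hw', S.pr_z])
        · exact Or.inr (by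
            rw [e0, e, show g⁻¹ * (w * z) * g = g⁻¹ * w * g * (g⁻¹ * z * g) by group, hw',
              S.pr_mul _ S.zmem _ M.fr.mem, S.pr_z, M.fr.pr_eq, zero_add])
      rcases hp with e | e <;> rw [D.E_pr] at e
      · exact un_ne e
      · rw [show dc 1 = un 0 by simp [un]] at e
        exact absurd (un_inj e) (by decide)
    have hpf : pfaff (u.val >>> 5) = false := by
      have hlt := (top_part u).1
      refine decomposable_code ⟨_, hlt⟩ fun y hy => ?_
      obtain ⟨r, hr, hra⟩ := act_sg D.F hgw hgz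
      have hoc : ex z ((gau s.val u.val).testBit 0) * D.phiU (gau s.val u.val >>> 1 % 16) ∈ oc z := by
        refine mul_mem ?_ (D.phiU_spec ⟨_, Nat.mod_lt _ (by norm_num)⟩).1
        cases (gau s.val u.val).testBit 0
        · exact one_mem _
        · exact S.zmem
      have e := hra (dc y.val)
      rw [hu, Frm.psi, show D.phi (gau s.val u.val) = ex z ((gau s.val u.val).testBit 0) *
          D.phiU (gau s.val u.val >>> 1 % 16) * D.phiX (gau s.val u.val >>> 5) from rfl,
        S.act_mul (S.comm hoc) (Au_z (D.phiX_mem _)), S.act_inner hoc, one_mul, gau_shift,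
        D.act_phiX _ y.isLt, sg_perp (dc_perp _ y.isLt hy)] at e
      have hl := altn_lt ⟨_, hlt⟩ y
      rcases zmod_cases (Bp (dc y.val) r) with c | c <;> rw [c] at e
      · rw [zero_smul, add_zero] at e
        rw [dc_inj hl y.isLt e, Nat.xor_self]
        norm_num
      · rw [one_smul, ← dc_xor] at e
        rw [dc_inj hl (xor_lt y.isLt (by norm_num)) e, Nat.xor_comm, ← Nat.xor_assoc, Nat.xor_self]
        norm_num
    obtain ⟨hmem, -, -, hz5, -, hpi⟩ := root_code u
    simp only [List.mem_cons, List.not_mem_nil, or_false] at hmem hz5 hpi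
    rcases hmem with e | e | e | e | e | e | e
    · exact absurd (hz5.2 (Or.inl e)) hu5
    · exact absurd (hz5.2 (Or.inr (Or.inl e))) hu5
    · exact absurd (hz5.2 (Or.inr (Or.inr e))) hu5
    · exact e
    · exact absurd ((rel_P (hroot _ u.isLt).2).1 hPu) (e ▸ hP40)
    · exact absurd (hpi.2 (Or.inl e)) (by rw [hpf]; simp)
    · exact absurd (hpi.2 (Or.inr e)) (by rw [hpf]; simp)
  have hR32 : Rel 1 32 := rel_trans hR1u (hru ▸ (hroot _ u.isLt).2)
  obtain ⟨c3, hc3lt, hc3, hc3r, hc3r'⟩ : ∃ c, c < 2048 ∧ D.psi s.val c = D.X 3 ∧ rootP c = 32 ∧ rootP (c ^^^ 2) = 40 := by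
    obtain ⟨-, r1, r2, r3, r4⟩ := root_points
    have h256 : D.phi 256 = D.X 3 := D.phi_X 3
    rcases hgau2 256 (by norm_num) with e | e
    · exact ⟨256, by norm_num, by rw [Frm.psi, e, h256], r1, r3⟩
    · refine ⟨257, by norm_num, ?_, r2, r4⟩
      rw [Frm.psi, show (257 : ℕ) = 256 ^^^ 1 from rfl, gau_xor, e, hgau 1 rfl, Nat.xor_assoc, Nat.xor_self,
        Nat.xor_zero, h256]
  have hRv : Rel 1 (rootP v.val) := by
    refine rel_trans (rel_trans hR32 (rel_symm (hc3r ▸ (hroot c3 hc3lt).2))) ?_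
    refine rel_trans ⟨g⁻¹, hgi, ?_⟩ (hroot _ v.isLt).2
    rw [hc3, ← hv, inv_inv]
  have hR40 : Rel 40 (rootP (v.val ^^^ 1)) := by
    have hlt : c3 ^^^ 2 < 2048 := Nat.xor_lt_two_pow (n := 11) hc3lt (by norm_num)
    refine rel_trans (rel_symm (hc3r' ▸ (hroot _ hlt).2)) (rel_trans ⟨g⁻¹, hgi, ?_⟩ (hroot _ hv1lt).2)
    rw [D.psi_xor hgood s.val hc3lt (by norm_num), hc3, hp2, hvz, inv_inv]
    calc g⁻¹ * (D.X 3 * w) * g = g⁻¹ * D.X 3 * g * (g⁻¹ * w * g) := by group
      _ = g⁻¹ * D.X 3 * g * z := by rw [mirror_w M.gz]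
  -- classification with either table
  have hclass : ∀ T : ℕ, (∀ v : Fin 2048, T.testBit v.val = T.testBit (rootP v.val)) →
      T.testBit 0 = false → T.testBit 1 = true → T.testBit 2 = true → T.testBit 32 = true → T.testBit 40 = false →
      (∀ r, (r = 384 ∨ r = 385) → (P r ↔ T.testBit r = true)) →
      ∀ v, v < 2048 → (P v ↔ T.testBit v = true) := by
    intro T hT t0 t1 t2 t32 t40 t3 v hv
    rw [rel_P (hroot v hv).2, hT ⟨v, hv⟩]
    have hmem := (root_code ⟨v, hv⟩).1
    simp only [List.mem_cons, List.not_mem_nil, or_false] at hmem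
    rcases hmem with e | e | e | e | e | e | e <;> rw [e]
    · simp [hP0, t0]
    · simp [hP1, t1]
    · simp [hP2, t2]
    · simp [hP32, t32]
    · simp [hP40, t40]
    · exact t3 _ (Or.inl rfl)
    · exact t3 _ (Or.inr rfl)
  obtain ⟨b0, b1, b2, b32, b40, b384, b385, c0, c1, c2, c32, c40, c384, c385⟩ := rep_bits
  have hne : rootP v.val ≠ rootP (v.val ^^^ 1) := fun e => hnPr (e ▸ hPr)
  rcases rv with rv | rv
  swap
  · exfalso
    have rv'' : rootP (v.val ^^^ 1) = 384 := rv'.resolve_right fun e => hne (rv.trans e.symm)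
    have hZ := hclass zTab' (fun v => (root_code v).2.2.1) c0 c1 c2 c32 c40 fun r hr => by
      rcases hr with rfl | rfl
      · simp only [c384, Bool.false_eq_true, iff_false]; exact rv'' ▸ hnPr
      · simp only [c385, iff_true]; exact rv ▸ hPr
    obtain ⟨n, hn, hne'⟩ := hRv
    rw [rv, hp1] at hne'
    choose f hf using fun x : Fin 2048 =>
      D.psi_surj s.val ((Subgroup.mem_normalizer_iff.1 hn _).1 (D.psi_mem s.val x.val))
    have hfinj : Function.Injective f := fun x y e => by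
      have h := hf x
      rw [e, ← hf y] at h
      exact D.psi_inj s.val (mul_left_cancel (mul_right_cancel h))
    have hfP : ∀ x, P x.val ↔ P (f x).val := fun x => rel_P ⟨n, hn, hf x⟩
    have hfx : ∀ x : Fin 2048, (f ⟨1 ^^^ x.val, Nat.xor_lt_two_pow (n := 11) (by norm_num) x.isLt⟩).val =
        385 ^^^ (f x).val := fun x => by
      have hlt : 385 ^^^ (f x).val < 2048 := Nat.xor_lt_two_pow (n := 11) (by norm_num) (f x).isLt
      refine congrArg Fin.val (D.psi_inj s.val (v' := ⟨_, hlt⟩) ?_)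
      rw [D.psi_xor hgood s.val (by norm_num) (f x).isLt, ← hf, ← hf, ← hne',
        D.psi_xor hgood s.val (by norm_num) x.isLt, hp1]
      group
    refine other_count (Finset.card_equiv (Equiv.ofBijective f (Finite.injective_iff_bijective.1 hfinj)) fun x => ?_)
    simp only [Finset.mem_filter, Finset.mem_univ, true_and, Bool.and_eq_true, Equiv.ofBijective_apply]
    rw [← hZ _ x.isLt, ← hZ _ (Nat.xor_lt_two_pow (n := 11) (by norm_num) x.isLt), ← hZ _ (f x).isLt,
      ← hfx, ← hZ _ (Fin.isLt _), ← hfP, ← hfP]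
  have rv'' : rootP (v.val ^^^ 1) = 385 := rv'.resolve_left fun e => hne (rv.trans e.symm)
  have hZ := hclass zTab (fun v => (root_code v).2.1) b0 b1 b2 b32 b40 fun r hr => by
    rcases hr with rfl | rfl
    · simp only [b384, iff_true]; exact rv ▸ hPr
    · simp only [b385, Bool.false_eq_true, iff_false]; exact rv'' ▸ hnPr
  refine ⟨S, w, D, g, s.val, M, hgood, hgN, hgenN, hgen, hZ, fun x hx hz => ?_, fun x hx h0 hz => ?_⟩
  · suffices Rel 1 x by
      obtain ⟨n, hn, e⟩ := this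
      rw [hp1] at e
      exact ⟨n, hn, e⟩
    refine rel_trans ?_ (rel_symm (hroot x hx).2)
    have hb := (root_code ⟨x, hx⟩).2.1
    rw [hz] at hb
    have hmem := (root_code ⟨x, hx⟩).1
    simp only [List.mem_cons, List.not_mem_nil, or_false] at hmem
    rcases hmem with e | e | e | e | e | e | e <;> rw [e] at hb ⊢
    · rw [b0] at hb; exact Bool.noConfusion hb
    · exact ⟨1, one_mem _, by group⟩
    · exact hR2
    · exact hR32
    · rw [b40] at hb; exact Bool.noConfusion hb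
    · exact rv ▸ hRv
    · rw [b385] at hb; exact Bool.noConfusion hb
  · show Rel 385 x
    refine rel_trans ?_ (rel_symm (hroot x hx).2)
    have hb := (root_code ⟨x, hx⟩).2.1
    rw [hz] at hb
    have hmem := (root_code ⟨x, hx⟩).1
    simp only [List.mem_cons, List.not_mem_nil, or_false] at hmem
    rcases hmem with e | e | e | e | e | e | e <;> rw [e] at hb ⊢
    · exact absurd ((root_code ⟨x, hx⟩).2.2.2.2.1.1 e) h0
    · rw [b1] at hb; exact Bool.noConfusion hb
    · rw [b2] at hb; exact Bool.noConfusion hb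
    · rw [b32] at hb; exact Bool.noConfusion hb
    · exact rel_symm (rv'' ▸ hR40)
    · rw [b384] at hb; exact Bool.noConfusion hb
    · exact ⟨1, one_mem _, by group⟩

end Cfsg.Agent.CoOneGolay
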