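import Cfsg.Agent.CoOneGolay.Order
import Cfsg.Agent.LargeFischer.MatPerm

/-!
Functionals on the eleven bits and the pairs of points.
-/

set_option autoImplicit false
set_option maxRecDepth 20000

open Cfsg Cfsg.Agent

namespace Cfsg.Agent.CoOneGolay

/-- Parity of eleven bits. -/
def pty11 (x : ℕ) : Bool := pty6 x != pty6 (x >>> 6)

/-- The value of a functional. -/
def chi (m v : ℕ) : Bool := pty11 (m &&& v)

/-- The mask of a functional. -/
def mkMask (h : ℕ → Bool) : ℕ :=
  (if h (2 ^ 0) then 2 ^ 0 else 0) ^^^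
  (if h (2 ^ 1) then 2 ^ 1 else 0) ^^^
  (if h (2 ^ 2) then 2 ^ 2 else 0) ^^^
  (if h (2 ^ 3) then 2 ^ 3 else 0) ^^^
  (if h (2 ^ 4) then 2 ^ 4 else 0) ^^^
  (if h (2 ^ 5) then 2 ^ 5 else 0) ^^^
  (if h (2 ^ 6) then 2 ^ 6 else 0) ^^^
  (if h (2 ^ 7) then 2 ^ 7 else 0) ^^^
  (if h (2 ^ 8) then 2 ^ 8 else 0) ^^^
  (if h (2 ^ 9) then 2 ^ 9 else 0) ^^^
  (if h (2 ^ 10) then 2 ^ 10 else 0)

/-- The weight of a functional on the distinguished class. -/
def wt (m : ℕ) : ℕ := (Finset.univ.filter fun v : Fin 2048 => zTab.testBit v.val && chi m v.val).card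

/-- One step towards the representative of a functional. -/
def stepD (v : ℕ) : ℕ :=
  if (dparTab >>> (4 * v)) % 16 < 10 then appL (dualIm (Fin.ofNat 10 ((dparTab >>> (4 * v)) % 16))) v else v

/-- The representative of a functional. -/
def rootD (v : ℕ) : ℕ := stepD (stepD (stepD (stepD (stepD (stepD (stepD (stepD (stepD v))))))))

theorem pty11_xor (a b : ℕ) : pty11 (a ^^^ b) = (pty11 a != pty11 b) := by
  simp only [pty11, Nat.shiftRight_xor_distrib, pty6_xor]
  cases pty6 a <;> cases pty6 b <;> cases pty6 (a >>> 6) <;> cases pty6 (b >>> 6) <;> rfl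

theorem chi_xor (m x y : ℕ) : chi m (x ^^^ y) = (chi m x != chi m y) := by
  simp only [chi, Nat.and_xor_distrib_left, pty11_xor]

theorem chi_xor_left (m m' x : ℕ) : chi (m ^^^ m') x = (chi m x != chi m' x) := by
  simp only [chi, Nat.and_xor_distrib_right, pty11_xor]

theorem mask_code : ∀ k : Fin 11, ∀ m : Fin 2048, chi m.val (2 ^ k.val) = m.val.testBit k.val := by
  intro k m
  have h : pty11 (2 ^ k.val) = true ∧ pty11 0 = false := by revert k; decide +kernel
  rw [chi, Nat.and_two_pow]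
  cases m.val.testBit k.val <;> simp [h.1, h.2]

theorem mask_lt (h : ℕ → Bool) : mkMask h < 2048 := by
  unfold mkMask
  repeat' (first | apply Nat.xor_lt_two_pow (n := 11) | split | norm_num)

theorem bit_ite (b : Bool) (i k : ℕ) : (if b then 2 ^ i else 0).testBit k = (b && decide (i = k)) := by
  cases b
  · simp
  · simp [Nat.testBit_two_pow]

theorem mask_bit (h : ℕ → Bool) : ∀ k : Fin 11, (mkMask h).testBit k.val = h (2 ^ k.val) := by
  intro k
  simp only [mkMask, Nat.testBit_xor, bit_ite]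
  fin_cases k <;> simp

/-- A functional is given by its mask. -/
theorem chi_mask (h : ℕ → Bool) (hadd : ∀ x y, x < 2048 → y < 2048 → h (x ^^^ y) = (h x != h y)) {v : ℕ}
    (hv : v < 2048) : chi (mkMask h) v = h v := by
  refine bit_induction (P := fun v => chi (mkMask h) v = h v) ?_ (fun x y hx hy e1 e2 => ?_) (fun k => ?_) hv
  · have := hadd 0 0 (by norm_num) (by norm_num)
    rw [Nat.xor_self] at this
    rw [show chi (mkMask h) 0 = false by simp [chi, pty11, pty6], this]
    simp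
  · rw [chi_xor, hadd x y hx hy, e1, e2]
  · rw [mask_code k ⟨_, mask_lt h⟩, mask_bit]

/-- Functionals separate. -/
theorem mask_ext {m m' : ℕ} (hm : m < 2048) (hm' : m' < 2048) (h : ∀ v, v < 2048 → chi m v = chi m' v) :
    m = m' := by
  refine Nat.eq_of_testBit_eq fun i => ?_
  by_cases hi : i < 11
  · have hp : 2 ^ i < 2048 := lt_of_lt_of_le (Nat.pow_lt_pow_right (by norm_num) hi) (by norm_num)
    have := h _ hp
    rwa [show chi m (2 ^ i) = m.testBit i from mask_code ⟨i, hi⟩ ⟨m, hm⟩,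
      show chi m' (2 ^ i) = m'.testBit i from mask_code ⟨i, hi⟩ ⟨m', hm'⟩] at this
  · have hp : 2048 ≤ 2 ^ i := Nat.le_trans (by norm_num) (Nat.pow_le_pow_right (by norm_num : 1 ≤ 2) (show 11 ≤ i by omega))
    rw [Nat.testBit_lt_two_pow (lt_of_lt_of_le hm hp), Nat.testBit_lt_two_pow (lt_of_lt_of_le hm' hp)]

theorem point_ext {v v' : ℕ} (hv : v < 2048) (hv' : v' < 2048) (h : ∀ m, m < 2048 → chi m v = chi m v') : v = v' :=
  mask_ext hv hv' fun m hm => by
    have := h m hm
    simpa only [chi, Nat.land_comm] using this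

theorem dual_code : ∀ n : Fin 10, ∀ j k : Fin 11,
    chi (2 ^ j.val) (appL (finalIm n) (2 ^ k.val)) = chi (appL (dualIm n) (2 ^ j.val)) (2 ^ k.val) ∧
    appL (finalIm n) (appL (finalIm n) (2 ^ k.val)) = 2 ^ k.val := by decide +kernel

theorem dual_lt : ∀ n : Fin 10, ∀ x ∈ dualIm n, x < 2048 := by decide +kernel

theorem map_lt : (∀ x ∈ dMap, x < 2048) ∧ (∀ x ∈ dInv, x < 2048) ∧
    ∀ k : Fin 11, appL dInv (appL dMap (2 ^ k.val)) = 2 ^ k.val ∧ appL dMap (appL dInv (2 ^ k.val)) = 2 ^ k.val := by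
  decide +kernel

theorem droot_code : ∀ k : Fin 2048, rootD k.val ∈ [0, 1, 2, 7, 14, 32, 384] := by decide +kernel

theorem dtmask_code : ∀ k : Fin 2048, LargeFischer.tmask.testBit k.val =
    (rootD (appL dMap k.val) == 2 || rootD (appL dMap k.val) == 7 || rootD (appL dMap k.val) == 384) := by
  decide +kernel

theorem wt_reps : wt 0 = 0 ∧ wt 1 = 384 ∧ wt 2 = 352 ∧ wt 7 = 352 ∧ wt 14 = 384 ∧ wt 32 = 384 ∧ wt 384 = 352 := by
  decide +kernel

theorem appL_zero (l : List ℕ) : appL l 0 = 0 := by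
  have := appL_xor l 1 1
  rwa [Nat.xor_self, Nat.xor_self] at this

theorem final_invol (n : Fin 10) {v : ℕ} (hv : v < 2048) : appL (finalIm n) (appL (finalIm n) v) = v := by
  refine bit_induction (P := fun v => appL (finalIm n) (appL (finalIm n) v) = v) ?_ (fun x y _ _ e1 e2 => ?_)
    (fun k => (dual_code n 0 k).2) hv
  · rw [appL_zero, appL_zero]
  · rw [appL_xor, appL_xor, e1, e2]

theorem transpose (n : Fin 10) {m v : ℕ} (hm : m < 2048) (hv : v < 2048) :
    chi m (appL (finalIm n) v) = chi (appL (dualIm n) m) v := by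
  refine bit_induction (P := fun v => chi m (appL (finalIm n) v) = chi (appL (dualIm n) m) v) ?_
    (fun x y _ _ e1 e2 => by rw [appL_xor, chi_xor, chi_xor, e1, e2]) (fun k => ?_) hv
  · rw [appL_zero]; simp [chi, pty11, pty6]
  · refine bit_induction (P := fun m => chi m (appL (finalIm n) (2 ^ k.val)) = chi (appL (dualIm n) m) (2 ^ k.val))
      ?_ (fun x y _ _ e1 e2 => by rw [appL_xor, chi_xor_left, chi_xor_left, e1, e2]) (fun j => (dual_code n j k).1) hm
    rw [appL_zero]; simp [chi, pty11, pty6]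

theorem map_inv {m : ℕ} (hm : m < 2048) : appL dInv (appL dMap m) = m ∧ appL dMap (appL dInv m) = m := by
  refine ⟨bit_induction (P := fun m => appL dInv (appL dMap m) = m) ?_ (fun x y _ _ e1 e2 => ?_)
      (fun k => (map_lt.2.2 k).1) hm,
    bit_induction (P := fun m => appL dMap (appL dInv m) = m) ?_ (fun x y _ _ e1 e2 => ?_)
      (fun k => (map_lt.2.2 k).2) hm⟩
  · rw [appL_zero, appL_zero]
  · rw [appL_xor, appL_xor, e1, e2]
  · rw [appL_zero, appL_zero]
  · rw [appL_xor, appL_xor, e1, e2]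

theorem bv_surj : ∀ x : LargeFischer.W11, ∃ k : Fin 2048, LargeFischer.bv k.val = x := by
  have hinj : Function.Injective fun k : Fin 2048 => LargeFischer.bv k.val :=
    fun a b h => Fin.ext (LargeFischer.bv_inj a.isLt b.isLt h)
  exact ((Fintype.bijective_iff_injective_and_card _).2 ⟨hinj, by simp [LargeFischer.W11]⟩).surjective

theorem isDuad_bv {k : ℕ} (hk : k < 2048) :
    LargeFischer.IsDuad (LargeFischer.bv k) ↔ LargeFischer.tmask.testBit k = true := by
  constructor
  · rintro ⟨i, j, hij, e⟩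
    obtain ⟨a, rfl⟩ := Compute.e24.surjective i
    obtain ⟨b, rfl⟩ := Compute.e24.surjective j
    have hl : ∀ u, LargeFischer.vp24 u < 2048 := fun u => LargeFischer.pn_e24 u ▸ LargeFischer.pn_lt _
    rw [LargeFischer.pt, LargeFischer.pt, LargeFischer.pn_e24, LargeFischer.pn_e24, ← LargeFischer.bv_xor] at e
    rw [LargeFischer.bv_inj hk (LargeFischer.xor_lt11 (hl a) (hl b)) e]
    exact LargeFischer.duad_mem a b fun h => hij (by rw [h])
  · intro h
    obtain ⟨a, b, rfl⟩ := LargeFischer.duad_cover hk h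
    refine ⟨Compute.e24 a, Compute.e24 b, fun e => ?_, ?_⟩
    · rw [Compute.e24.injective e, Nat.xor_self] at h
      exact absurd ((LargeFischer.tmask_spec (by norm_num)).1 h).1 (fun h0 => h0 rfl)
    · rw [LargeFischer.pt, LargeFischer.pt, LargeFischer.pn_e24, LargeFischer.pn_e24, ← LargeFischer.bv_xor]

theorem wt_invariant (n : Fin 10) {m : ℕ} (hm : m < 2048)
    (hZ : ∀ v, v < 2048 → zTab.testBit (appL (finalIm n) v) = zTab.testBit v) :
    wt (appL (dualIm n) m) = wt m := by
  classical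
  let f : Fin 2048 → Fin 2048 := fun v => ⟨appL (finalIm n) v.val, appL_lt (final_lt n) _⟩
  have hf : Function.Bijective f :=
    Function.Involutive.bijective fun v => Fin.ext (final_invol n v.isLt)
  refine Finset.card_equiv (Equiv.ofBijective f hf) fun v => ?_
  simp only [Finset.mem_filter, Finset.mem_univ, true_and, Equiv.ofBijective_apply, f, hZ _ v.isLt,
    transpose n hm v.isLt]

/-- Pairs of points are the functionals of weight 352. -/
theorem wt_duad (hZ : ∀ n : Fin 10, ∀ v, v < 2048 → zTab.testBit (appL (finalIm n) v) = zTab.testBit v)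
    {k : ℕ} (hk : k < 2048) : LargeFischer.IsDuad (LargeFischer.bv k) ↔ wt (appL dMap k) = 352 := by
  have hstep : ∀ m, m < 2048 → stepD m < 2048 ∧ wt (stepD m) = wt m := by
    intro m hm
    unfold stepD
    split_ifs
    · exact ⟨appL_lt (dual_lt _) m, wt_invariant _ hm (hZ _)⟩
    · exact ⟨hm, rfl⟩
  have h2 : ∀ (f : ℕ → ℕ), (∀ v, v < 2048 → f v < 2048 ∧ wt (f v) = wt v) →
      ∀ v, v < 2048 → stepD (f v) < 2048 ∧ wt (stepD (f v)) = wt v := fun f hf v hv =>
    ⟨(hstep _ (hf v hv).1).1, (hstep _ (hf v hv).1).2.trans (hf v hv).2⟩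
  have hd : appL dMap k < 2048 := appL_lt map_lt.1 k
  have hr := (h2 _ (h2 _ (h2 _ (h2 _ (h2 _ (h2 _ (h2 _ (h2 _ hstep)))))))) (appL dMap k) hd
  rw [isDuad_bv hk, show LargeFischer.tmask.testBit k = _ from dtmask_code ⟨k, hk⟩]
  show _ ↔ wt (appL dMap k) = 352
  rw [← hr.2]
  have hmem := droot_code ⟨appL dMap k, hd⟩
  obtain ⟨w0, w1, w2, w7, w14, w32, w384⟩ := wt_reps
  simp only [List.mem_cons, List.not_mem_nil, or_false] at hmem
  show _ ↔ wt (rootD (appL dMap k)) = 352
  rcases hmem with e | e | e | e | e | e | e <;> simp only [e] <;> simp [w0, w1, w2, w7, w14, w32, w384]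

end Cfsg.Agent.CoOneGolay
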