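import Cfsg.Agent.CoOneGolay.Sub

/-!
The other family of maximal totally singular subspaces: composing with a reflection.
-/

set_option autoImplicit false

open Cfsg Cfsg.Agent.ThreeTrans.OrthCohom Cfsg.Agent.Classical.Quad QuadraticMap Cfsg.Agent.LargeExtra
open Cfsg.Agent.CoOneType Cfsg.Agent.CoOneType.CoOne

namespace Cfsg.Agent.CoOneGolay

theorem q136 : qP 4 (dc 136) ≠ 0 := by
  rw [q_dc (by norm_num)]; decide

/-- The reflection exchanging the last partners. -/
noncomputable def swp : O := rO q136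

theorem swp_apply (x : V) : swp.1 x = x + Bp x (dc 136) • dc 136 :=
  refl_apply (zmod_ne_zero _ q136) x

theorem swp_sq : swp * swp = 1 := ext_oG fun x => by
  rw [oG_mul_apply, oG_one_apply, swp_apply, swp_apply, Bp_add_left, Bp_smul_left, Bp_self, mul_zero, add_zero,
    add_assoc, v_add_self, add_zero]

theorem swp_two (x : V) : swp.1 (swp.1 x) = x := by rw [← oG_mul_apply, swp_sq, oG_one_apply]

theorem dsign_swp_conj (g : O) : dsign (swp * g * swp) = dsign g := by
  have hex : Nat.card (ZMod 2) ≠ 2 ∨ Module.finrank (ZMod 2) V ≠ 4 := Or.inr (by simp)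
  have h : dsign swp = -1 := by
    rw [← one_mul swp, swp, dsign_mul_rO nondegP4, dsign_one]
  rw [dsign_mul nondegP4 hex, dsign_mul nondegP4 hex, h]
  simp

/-- The exchanged index. -/
def sig : Fin 8 → Fin 8 := ![0, 1, 2, 7, 4, 5, 6, 3]

theorem sig_code : ∀ i : Fin 8, ∀ j : Fin 8, (if Bn (2 ^ (sig i).val) 136 then 2 ^ (sig i).val ^^^ 136 else 2 ^ (sig i).val) = 2 ^ i.val ∧
    sig (sig i) = i ∧ (j = i + 4 ↔ sig j = sig i + 4) := by decide +kernel

theorem swp_un (i : Fin 8) : swp.1 (un (sig i)) = un i := by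
  rw [swp_apply, Bp_dc (un_code _).1 (by norm_num), bz_smul, ← dc_xor]
  refine congrArg dc ?_
  rw [← (sig_code i i).1]
  split_ifs <;> simp

variable {G : Type*} [Group G] [Finite G] {z : G}

/-- The setting seen through the reflection. -/
noncomputable def flipS (S : CoOne z) : CoOne z where
  sett := S.sett
  card := S.card
  pr := fun a => swp.1 (S.pr a)
  pr_mul := fun a ha b hb => by simp only [S.pr_mul a ha b hb, map_add]
  pr_ker := fun a ha h => S.pr_ker a ha (swp.1.map_eq_zero_iff.1 h)
  pr_z := by simp only [S.pr_z, map_zero]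
  pr_surj := fun v => by
    obtain ⟨a, ha, h⟩ := S.pr_surj (swp.1 v)
    exact ⟨a, ha, by simp only [h, swp_two]⟩
  pr_sq := fun a ha => by simp only [swp.2 (S.pr a), S.pr_sq a ha]
  act := fun c => swp * S.act c * swp
  act_spec := fun c hc a ha => by
    simp only [S.act_spec c hc a ha, oG_mul_apply, swp_two]
  act_even := fun c hc => by rw [dsign_swp_conj, S.act_even c hc]
  act_surj := fun g hg => by
    obtain ⟨c, hc, he⟩ := S.act_surj (swp * g * swp) (by rw [dsign_swp_conj, hg])
    refine ⟨c, hc, ?_⟩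
    rw [he, show swp * (swp * g * swp) * swp = swp * swp * g * (swp * swp) by group, swp_sq, one_mul, mul_one]
  act_ker := fun c hc h => S.act_ker c hc (by
    calc S.act c = swp * swp * S.act c * (swp * swp) := by rw [swp_sq, one_mul, mul_one]
      _ = swp * (swp * S.act c * swp) * swp := by group
      _ = 1 := by rw [h, mul_one, swp_sq])
  cent_card := S.cent_card
  nwc := S.nwc

variable {S : CoOne z} {w : G}

theorem flip_act (c : G) (y : V) : ((flipS S).act c).1 y = swp.1 ((S.act c).1 (swp.1 y)) := rfl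

theorem flip_fr (F : S.Fr w) : (flipS S).Fr w := by
  refine ⟨F.mem, F.conj, ?_⟩
  show swp.1 (S.pr w) = dc 1
  rw [F.pr_eq]
  exact swp_un 0

namespace Frm

variable (D : Frm S w)
include D

/-- The lifts seen through the reflection. -/
noncomputable def flip : Frm (flipS S) w where
  F := flip_fr D.F
  E := fun i => D.E (sig i)
  E_mem := fun i => D.E_mem _
  E_pr := fun i => by
    show swp.1 (S.pr (D.E (sig i))) = un i
    rw [D.E_pr, swp_un]
  E_conj := fun i => D.E_conj _
  E_zero := D.E_zero

theorem flip_line {i j : Fin 8} {x : G} : D.flip.IsLine i j x ↔ D.IsLine (sig i) (sig j) x := by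
  have key : ∀ y, swp.1 (tl (un (sig i)) (un (sig j)) (swp.1 y)) = tl (un i) (un j) y := fun y => by
    rw [tl_map, swp_un, swp_un, swp_two]
  constructor
  · rintro ⟨h1, h2, h3, h4⟩
    refine ⟨h1, h2, h3, fun y => swp.1.injective ?_⟩
    have := h4 (swp.1 y)
    rw [flip_act, swp_two] at this
    rw [this, ← key, swp_two]
  · rintro ⟨h1, h2, h3, h4⟩
    exact ⟨h1, h2, h3, fun y => by rw [flip_act, h4, key]⟩

end Frm

end Cfsg.Agent.CoOneGolay
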