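import Cfsg.Agent.CoOneGolay.Good
import Cfsg.Agent.CoOneGolay.Tables

/-!
Ten elements normalising the centraliser and their action on the eleven coordinates.
-/

set_option autoImplicit false

open Cfsg Cfsg.Agent.ThreeTrans.OrthCohom Cfsg.Agent.Classical.Quad QuadraticMap Cfsg.Agent.LargeExtra
open Cfsg.Agent.CoOneType Cfsg.Agent.CoOneType.CoOne

namespace Cfsg.Agent.CoOneGolay

/-- Images of the basis under a moving line with three signs. -/
def sgnIm (n : Fin 6) (m : ℕ) : List ℕ :=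
  (List.range 11).map fun b => (baseIm ⟨n.val, by omega⟩).getD b 0 ^^^
    (if (List.range 3).any (fun j => m.testBit j && (tpos n).getD j 0 == b) then 1 else 0)

theorem split_pow : ∀ k : Fin 11, ∀ v : Fin 2048, v.val < 2 ^ (k.val + 1) → 2 ^ k.val ≤ v.val →
    v.val = 2 ^ k.val ^^^ (v.val - 2 ^ k.val) := by
  intro k v h1 h2
  obtain ⟨r, hr⟩ := Nat.exists_eq_add_of_le h2
  have h3 : r < 2 ^ k.val := by rw [pow_succ] at h1; omega
  rw [hr, Nat.add_sub_cancel_left]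
  refine Nat.eq_of_testBit_eq fun i => ?_
  rw [Nat.testBit_xor, Nat.testBit_two_pow]
  rcases lt_trichotomy i k.val with h | rfl | h
  · rw [Nat.testBit_two_pow_add_gt h, decide_eq_false (by omega)]
    simp
  · rw [Nat.testBit_two_pow_add_eq, Nat.testBit_lt_two_pow h3]
    simp
  · have hp : 2 ^ (k.val + 1) ≤ 2 ^ i := Nat.pow_le_pow_right (by norm_num) h
    rw [Nat.testBit_lt_two_pow (by omega), Nat.testBit_lt_two_pow (show r < 2 ^ i by omega), decide_eq_false (by omega)]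
    simp

/-- Induction over the basis of eleven bits. -/
theorem bit_induction {P : ℕ → Prop} (h0 : P 0)
    (hadd : ∀ x y, x < 2048 → y < 2048 → P x → P y → P (x ^^^ y)) (hb : ∀ k : Fin 11, P (2 ^ k.val))
    {v : ℕ} (hv : v < 2048) : P v := by
  suffices h : ∀ n : ℕ, n ≤ 11 → ∀ v, v < 2 ^ n → P v from h 11 le_rfl v hv
  intro n
  induction n with
  | zero => intro _ v hv; simp at hv; exact hv ▸ h0
  | succ n ih =>
    intro hn v hv
    by_cases h : v < 2 ^ n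
    · exact ih (by omega) v h
    · have hp : (2 : ℕ) ^ (n + 1) ≤ 2048 := (Nat.pow_le_pow_right (by norm_num : 1 ≤ 2) hn).trans (by norm_num)
      have hlt : v < 2048 := lt_of_lt_of_le hv hp
      have h2 : v - 2 ^ n < 2 ^ n := by rw [pow_succ] at hv; omega
      rw [show v = 2 ^ n ^^^ (v - 2 ^ n) from split_pow ⟨n, by omega⟩ ⟨v, hlt⟩ hv (not_lt.1 h)]
      exact hadd _ _ (lt_of_le_of_lt (not_lt.1 h) hlt) (lt_of_le_of_lt (Nat.sub_le _ _) hlt) (hb ⟨n, by omega⟩) (ih (by omega) _ h2)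

theorem appL_xor : ∀ (l : List ℕ) (x y : ℕ), appL l (x ^^^ y) = appL l x ^^^ appL l y := by
  intro l
  induction l with
  | nil => intro x y; simp [appL]
  | cons a l ih =>
    intro x y
    simp only [appL]
    rw [show (x ^^^ y) / 2 = x / 2 ^^^ y / 2 by
      rw [← Nat.shiftRight_one, ← Nat.shiftRight_one, ← Nat.shiftRight_one, Nat.shiftRight_xor_distrib], ih]
    have h2 : (x ^^^ y) % 2 = x % 2 ^^^ y % 2 := Nat.xor_mod_two_pow (n := 1)
    rw [h2]
    rcases Nat.mod_two_eq_zero_or_one x with e | e <;> rcases Nat.mod_two_eq_zero_or_one y with e' | e' <;>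
      simp [e, e', Nat.xor_assoc, Nat.xor_left_comm]

theorem appL_lt {l : List ℕ} (hl : ∀ a ∈ l, a < 2048) : ∀ v, appL l v < 2048 := by
  induction l with
  | nil => intro v; simp [appL]
  | cons a l ih =>
    intro v
    simp only [appL]
    refine Nat.xor_lt_two_pow (n := 11) ?_ (ih (fun b hb => hl b (List.mem_cons_of_mem _ hb)) _)
    split_ifs
    · exact hl a List.mem_cons_self
    · norm_num

theorem basis_appL : ∀ k : Fin 11, ∀ n : Fin 6, ∀ m : Fin 8,
    appL (sgnIm n m.val) (2 ^ k.val) = (baseIm ⟨n.val, by omega⟩).getD k.val 0 ^^^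
      (if (List.range 3).any (fun j => m.val.testBit j && (tpos n).getD j 0 == k.val) then 1 else 0) ∧
    (∀ a ∈ sgnIm n m.val, a < 2048) := by decide +kernel

theorem gen_facts : ∀ n : Fin 6, (gI n).val < 4 ∧ (gJ n).val < 4 ∧ gI n ≠ gJ n ∧ gI n ≠ gJ n + 4 ∧
    gJ n + 4 ≠ gI n + 4 := by decide +kernel

theorem E_code : ∀ n : Fin 6, ∀ i : Fin 4,
    (tpos n).all (fun t => t != 1 + i.val) = true ∧
    (baseIm ⟨n.val, by omega⟩).getD (1 + i.val) 0 = (if i.val = (gJ n).val then 2 ^ (1 + (gI n).val) ^^^ 1 ^^^ 2 ^ (1 + i.val)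
      else 2 ^ (1 + i.val)) ∧
    (tpos n).all (fun t => t != 0) = true ∧ (baseIm ⟨n.val, by omega⟩).getD 0 0 = 1 := by decide +kernel

/-- The four positions of a line relative to a moving line. -/
theorem X_code : ∀ n : Fin 6, ∀ p : Fin 6,
    ((tpos n).all (fun t => t != 5 + p.val) = true ∧
      (((pI p = gI n ∧ pJ p = gJ n ∨ pI p = gJ n ∧ pJ p = gI n) ∧
          (baseIm ⟨n.val, by omega⟩).getD (5 + p.val) 0 = 2 ^ (1 + (gI n).val) ^^^ 2 ^ (5 + p.val)) ∨
        ((pI p = gI n ∧ pJ p ≠ gJ n ∨ pJ p = gI n ∧ pI p ≠ gJ n) ∧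
          (baseIm ⟨n.val, by omega⟩).getD (5 + p.val) 0 = 2 ^ (5 + p.val)))) ∨
    ((pI p ≠ gI n ∧ pJ p ≠ gI n ∧ pI p ≠ gJ n ∧ pJ p ≠ gJ n) ∧
      (baseIm ⟨n.val, by omega⟩).getD (5 + p.val) 0 = 2 ^ (5 + p.val)) ∨
    (∃ q : Fin 6, ∃ m : Fin 8, m.val < 4 ∧ m ≠ gI n ∧ m ≠ gJ n ∧
      (pI p = gJ n ∧ pJ p = m ∨ pJ p = gJ n ∧ pI p = m) ∧ (pI q = gI n ∧ pJ q = m ∨ pJ q = gI n ∧ pI q = m) ∧
      (baseIm ⟨n.val, by omega⟩).getD (5 + p.val) 0 = 2 ^ (5 + q.val) ^^^ 2 ^ (5 + p.val)) := by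
  decide +kernel

theorem Y_code : ∀ i : Fin 4, ∀ k : Fin 11,
    (baseIm ⟨6 + i.val, by omega⟩).getD k.val 0 =
      if k.val = 0 then 1 else
      if h : k.val < 5 then (if k.val = 1 + i.val then 1 ^^^ 2 ^ k.val else 2 ^ k.val) else
      if (pI ⟨k.val - 5, by omega⟩).val = i.val then
        2 ^ (1 + (pJ ⟨k.val - 5, by omega⟩).val) ^^^ 1 ^^^ 2 ^ k.val
      else if (pJ ⟨k.val - 5, by omega⟩).val = i.val then
        2 ^ (1 + (pI ⟨k.val - 5, by omega⟩).val) ^^^ 1 ^^^ 2 ^ k.val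
      else 2 ^ k.val := by decide +kernel

theorem Y_appL : ∀ i : Fin 4, ∀ k : Fin 11,
    appL (baseIm ⟨6 + i.val, by omega⟩) (2 ^ k.val) = (baseIm ⟨6 + i.val, by omega⟩).getD k.val 0 ∧
    (∀ a ∈ baseIm ⟨6 + i.val, by omega⟩, a < 2048) := by decide +kernel

theorem tpos_cases : ∀ n : Fin 6, ∀ k : Fin 11, ∀ m : Fin 8,
    ((List.range 3).any (fun j => m.val.testBit j && (tpos n).getD j 0 == k.val) =
      ((m.val.testBit 0 && (tpos n).getD 0 0 == k.val) || (m.val.testBit 1 && (tpos n).getD 1 0 == k.val) ||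
        (m.val.testBit 2 && (tpos n).getD 2 0 == k.val))) := by decide +kernel

theorem bits3 : ∀ a b c : Bool, ∃ m : Fin 8, m.val.testBit 0 = a ∧ m.val.testBit 1 = b ∧ m.val.testBit 2 = c := by
  intro a b c
  refine ⟨⟨a.toNat + 2 * b.toNat + 4 * c.toNat, ?_⟩, ?_⟩ <;> cases a <;> cases b <;> cases c <;> decide

theorem sign_code : ∀ n : Fin 6, ∀ k : Fin 11, ∀ c0 c1 c2 : Bool,
    (tpos n).getD 0 0 ≠ (tpos n).getD 1 0 ∧ (tpos n).getD 0 0 ≠ (tpos n).getD 2 0 ∧
    (tpos n).getD 1 0 ≠ (tpos n).getD 2 0 ∧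
    ((tpos n).all (fun t => t != k.val) = true →
      ((c0 && (tpos n).getD 0 0 == k.val) || (c1 && (tpos n).getD 1 0 == k.val) ||
        (c2 && (tpos n).getD 2 0 == k.val)) = false) ∧
    (k.val = (tpos n).getD 0 0 ∨ k.val = (tpos n).getD 1 0 ∨ k.val = (tpos n).getD 2 0 ∨
      (tpos n).all (fun t => t != k.val) = true) := by decide +kernel

variable {G : Type*} [Group G] [Finite G] {z : G} {S : CoOne z} {w : G}

/-- An element mapping a finite subgroup into itself normalises it. -/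
theorem mem_normalizer_of {H : Subgroup G} {c : G} (h : ∀ x ∈ H, c * x * c⁻¹ ∈ H) :
    c ∈ Subgroup.normalizer (H : Set G) := by
  classical
  have hsurj : Function.Surjective (fun x : ↥H => (⟨c * x.1 * c⁻¹, h _ x.2⟩ : ↥H)) :=
    Finite.surjective_of_injective fun x y e => by
      have e := congrArg Subtype.val e
      simp only at e
      exact Subtype.ext (mul_left_cancel (mul_right_cancel e))
  refine Subgroup.mem_normalizer_iff.2 fun x => ⟨fun hx => h x hx, fun hx => ?_⟩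
  obtain ⟨⟨y, hy⟩, e⟩ := hsurj ⟨_, hx⟩
  have e := congrArg Subtype.val e
  simp only at e
  rwa [← mul_left_cancel (mul_right_cancel e)]

namespace Frm

variable (D : Frm S w)
include D

/-- The moving line. -/
noncomputable def T (n : Fin 6) : G :=
  (D.exists_line (gen_facts n).2.2.2.1 (gen_facts n).2.2.2.2).choose

theorem T_spec (n : Fin 6) : D.IsLine (gI n) (gJ n + 4) (D.T n) :=
  (D.exists_line (gen_facts n).2.2.2.1 (gen_facts n).2.2.2.2).choose_spec

theorem phi_zero : D.phi 0 = 1 := by simp [phi, phiU, phiX, ex]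

theorem phi_z : D.phi 1 = z := by simp [phi, phiU, phiX, ex]

theorem phi_E : ∀ i : Fin 8, i.val < 4 → D.phi (2 ^ (1 + i.val)) = D.E i := by
  intro i hi
  fin_cases i <;> first
    | (exfalso; revert hi; decide)
    | simp [phi, phiU, phiX, ex, Nat.testBit, Nat.shiftRight_eq_div_pow]

theorem phi_X : ∀ p : Fin 6, D.phi (2 ^ (5 + p.val)) = D.X p := by
  intro p
  fin_cases p <;> simp [phi, phiU, phiX, ex, Nat.testBit, Nat.shiftRight_eq_div_pow]

theorem phi_basis (k : Fin 11) : D.phi (2 ^ k.val) = z ∨ (∃ i : Fin 8, i.val < 4 ∧ k.val = 1 + i.val) ∨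
    ∃ p : Fin 6, k.val = 5 + p.val := by
  by_cases h0 : k.val = 0
  · exact Or.inl (by rw [h0, pow_zero, D.phi_z])
  by_cases h5 : k.val < 5
  · exact Or.inr (Or.inl ⟨⟨k.val - 1, by omega⟩, by simp only; omega, by simp only; omega⟩)
  · exact Or.inr (Or.inr ⟨⟨k.val - 5, by omega⟩, by simp only; omega⟩)

theorem T_E (n : Fin 6) {i : Fin 8} (hi : i.val < 4) :
    D.T n * D.E i * (D.T n)⁻¹ = if i = gJ n then D.E (gI n) * z * D.E i else D.E i := by
  obtain ⟨h1, h2, h3, h4, h5⟩ := gen_facts n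
  split_ifs with h
  · have e := (D.line_move h4 h5 (D.T_spec n)).2
    rw [← add44, ← h] at e
    exact e
  · refine mul_inv_eq_iff_eq_mul.2 (D.line_E h5 (low_facts _ _ h1 hi) ?_ (D.T_spec n)).symm
    rw [← add44]
    exact h

theorem T_same (n : Fin 6) {x : G} (hx : D.IsLine (gI n) (gJ n) x) :
    D.T n * x * (D.T n)⁻¹ = D.E (gI n) * x :=
  D.line_comm_partner (low_facts _ _ (gen_facts n).1 (gen_facts n).2.1) (gen_facts n).2.2.1 hx (D.T_spec n)

theorem T_share (n : Fin 6) {m : Fin 8} (hm : m.val < 4) (hne : m ≠ gJ n) {x : G}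
    (hx : D.IsLine (gI n) m x) : D.T n * x * (D.T n)⁻¹ = x := by
  obtain ⟨h1, h2, h3, h4, h5⟩ := gen_facts n
  refine mul_inv_eq_iff_eq_mul.2 (D.line_comm h5 (low_facts _ _ h1 hm) ?_ (D.T_spec n) hx)
  rw [← add44]
  exact hne

theorem T_skew (n : Fin 6) {k l : Fin 8} (hk : k.val < 4) (hl : l.val < 4) (hkl : k ≠ l)
    (k1 : k ≠ gI n) (l1 : l ≠ gI n) (k2 : k ≠ gJ n) (l2 : l ≠ gJ n) {x : G} (hx : D.IsLine k l x) :
    D.T n * x * (D.T n)⁻¹ = x ∨ D.T n * x * (D.T n)⁻¹ = x * z := by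
  obtain ⟨h1, h2, h3, h4, h5⟩ := gen_facts n
  have hTk : D.E k * D.T n = D.T n * D.E k :=
    D.line_E h5 (low_facts _ _ h1 hk) (by rw [← add44]; exact k2) (D.T_spec n)
  have hTl : D.E l * D.T n = D.T n * D.E l :=
    D.line_E h5 (low_facts _ _ h1 hl) (by rw [← add44]; exact l2) (D.T_spec n)
  have hxi : D.E (gI n) * x = x * D.E (gI n) :=
    D.line_E (low_facts _ _ hk hl) (low_facts _ _ hk h1) (low_facts _ _ hl h1) hx
  obtain ⟨-, -, T3, T4⟩ := D.T_spec n
  obtain ⟨x1, x2, x3, x4⟩ := hx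
  have hTi := (Commute.inv_left T3).eq
  have hy : D.T n * x * (D.T n)⁻¹ * z = z * (D.T n * x * (D.T n)⁻¹) :=
    (Commute.mul_left (Commute.mul_left T3 x3) hTi).eq
  have hline : D.IsLine k l (D.T n * x * (D.T n)⁻¹) := by
    refine ⟨?_, ?_, hy, fun y => ?_⟩
    · have := conj_mem_oc (g := D.T n) x1
      rwa [← hTk, mul_inv_cancel_right] at this
    · have := conj_mem_oc (g := D.T n) x2
      rwa [← hTl, mul_inv_cancel_right] at this
    · obtain ⟨u, rfl⟩ := (S.act (D.T n)).1.surjective y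
      rw [S.act_mul (Commute.mul_left T3 x3).eq hTi, S.act_mul T3 x3, S.act_inv T3, oG_mul_apply, oG_mul_apply,
        oG_inv_apply, x4, ← dc_cd u, tl_dc _ _ (cd u).isLt, T4, T4]
      have hlt := tln_lt
      rw [tl_dc _ _ (hlt k l (cd u)), tl_dc _ _ (cd u).isLt, tl_dc _ _ (hlt _ _ (cd u))]
      exact congrArg dc ((show ∀ n : Fin 6, ∀ k l : Fin 8, k.val < 4 → l.val < 4 → k ≠ gI n → l ≠ gI n →
        k ≠ gJ n → l ≠ gJ n → ∀ y : Fin 256,
          tln (2 ^ (gI n).val) (2 ^ (gJ n + 4).val) (tln (2 ^ k.val) (2 ^ l.val) y.val) =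
            tln (2 ^ k.val) (2 ^ l.val) (tln (2 ^ (gI n).val) (2 ^ (gJ n + 4).val) y.val) by decide +kernel)
        n k l hk hl k1 l1 k2 l2 (cd u))
  exact D.line_unique hkl ⟨x1, x2, x3, x4⟩ hline

variable (hgood : D.X 2 * D.X 3 = D.X 3 * D.X 2)
include hgood

theorem T_basis (n : Fin 6) (k : Fin 11) :
    ∃ c : Bool, ((tpos n).all (fun t => t != k.val) = true → c = false) ∧
      D.T n * D.phi (2 ^ k.val) * (D.T n)⁻¹ =
        D.phi ((baseIm ⟨n.val, by omega⟩).getD k.val 0 ^^^ (if c then 1 else 0)) := by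
  have hlt : ∀ m : ℕ, m < 11 → 2 ^ m < 2048 := fun m hm =>
    lt_of_lt_of_le (Nat.pow_lt_pow_right (by norm_num) hm) (by norm_num)
  have h2 : ∀ {a b : ℕ}, a < 11 → b < 11 → D.phi (2 ^ a ^^^ 2 ^ b) = D.phi (2 ^ a) * D.phi (2 ^ b) :=
    fun ha hb => D.phi_xor hgood _ _ (hlt _ ha) (hlt _ hb)
  obtain ⟨g1, g2, g3, g4, g5⟩ := gen_facts n
  rcases D.phi_basis k with e | ⟨i, hi, hk⟩ | ⟨p, hk⟩
  · refine ⟨false, fun _ => rfl, ?_⟩
    have hk0 : k.val = 0 := by
      have h1 : 2 ^ k.val < 2048 := hlt _ k.isLt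
      have := D.phi_inj (v := ⟨2 ^ k.val, h1⟩) (v' := ⟨1, by norm_num⟩) (by rw [e, D.phi_z])
      exact Nat.pow_right_injective (le_refl 2) (by simpa using congrArg Fin.val this : 2 ^ k.val = 2 ^ 0)
    rw [e, hk0, (E_code n 0).2.2.2]
    simp only [Bool.false_eq_true, if_false, Nat.xor_zero]
    rw [D.phi_z, (D.T_spec n).2.2.1, mul_inv_cancel_right]
  · refine ⟨false, fun _ => rfl, ?_⟩
    rw [hk, D.phi_E i hi, D.T_E n hi, (E_code n ⟨i.val, hi⟩).2.1]
    simp only [Bool.false_eq_true, if_false, Nat.xor_zero]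
    by_cases h : i = gJ n
    · rw [if_pos h, if_pos (congrArg Fin.val h)]
      rw [D.phi_xor hgood _ _ (Nat.xor_lt_two_pow (n := 11) (hlt _ (by omega)) (by norm_num)) (hlt _ (by omega)),
        D.phi_xor hgood _ _ (hlt _ (by omega)) (by norm_num), D.phi_E _ g1, D.phi_E i hi, D.phi_z]
    · rw [if_neg h, if_neg (fun e => h (Fin.ext e)), D.phi_E i hi]
  · have hX := D.X_spec p
    obtain ⟨p1, p2, p3, -⟩ := pair_facts p
    have hb5 : 5 + p.val < 11 := by omega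
    have hfalse : ∀ {v : ℕ}, v ^^^ (if (false : Bool) then 1 else 0) = v := fun {v} => by simp
    have hone : ∀ {v : ℕ}, v < 2048 → D.phi (v ^^^ (if (true : Bool) then 1 else 0)) = D.phi v * z :=
      fun {v} hv => by
        rw [if_pos rfl, D.phi_xor hgood _ _ hv (by norm_num), D.phi_z]
    rw [hk, D.phi_X]
    rcases X_code n p with ⟨hall, ⟨hc, e⟩ | ⟨hc, e⟩⟩ | ⟨⟨c1, c2, c3, c4⟩, e⟩ | ⟨q, m, hm, m1, m2, hp, hq, e⟩
    · refine ⟨false, fun _ => rfl, ?_⟩
      rw [hfalse, e, h2 (by omega) hb5, D.phi_E _ g1, D.phi_X]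
      refine D.T_same n ?_
      rcases hc with ⟨e1, e2⟩ | ⟨e1, e2⟩ <;> rw [e1, e2] at hX
      exacts [hX, D.line_symm hX]
    · refine ⟨false, fun _ => rfl, ?_⟩
      rw [hfalse, e, D.phi_X]
      rcases hc with ⟨e1, e2⟩ | ⟨e1, e2⟩ <;> rw [e1] at hX
      exacts [D.T_share n p2 e2 hX, D.T_share n p1 e2 (D.line_symm hX)]
    · have hall : ¬ (tpos n).all (fun t => t != 5 + p.val) = true :=
        (show ∀ n p : Fin 6, pI p ≠ gI n → pJ p ≠ gI n → pI p ≠ gJ n → pJ p ≠ gJ n →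
          ¬ (tpos n).all (fun t => t != 5 + p.val) = true by decide +kernel) n p c1 c2 c3 c4
      rcases D.T_skew n p1 p2 p3 c1 c2 c3 c4 hX with h | h
      · exact ⟨false, fun _ => rfl, by rw [hfalse, e, D.phi_X, h]⟩
      · exact ⟨true, fun h' => absurd h' hall, by rw [hone (by rw [e]; exact hlt _ hb5), e, D.phi_X, h]⟩
    · have hall : ¬ (tpos n).all (fun t => t != 5 + p.val) = true :=
        (show ∀ n p : Fin 6, ∀ m : Fin 8, m.val < 4 → m ≠ gI n → m ≠ gJ n →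
          (pI p = gJ n ∧ pJ p = m ∨ pJ p = gJ n ∧ pI p = m) →
          ¬ (tpos n).all (fun t => t != 5 + p.val) = true by decide +kernel) n p m hm m1 m2 hp
      have hxj : D.IsLine (gJ n) m (D.X p) := by
        rcases hp with ⟨e1, e2⟩ | ⟨e1, e2⟩ <;> rw [e1, e2] at hX
        exacts [hX, D.line_symm hX]
      have hq' : D.IsLine (gI n) m (D.X q) := by
        have h := D.X_spec q
        rcases hq with ⟨e1, e2⟩ | ⟨e1, e2⟩ <;> rw [e1, e2] at h
        exacts [h, D.line_symm h]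
      have hl := D.move_line g1 g2 hm g3 (Ne.symm m1) (Ne.symm m2) (D.T_spec n) hxj
      have hxz := (D.X_spec p).2.2.1
      rcases D.line_unique (Ne.symm m1) hq' hl with h | h
      · refine ⟨false, fun _ => rfl, ?_⟩
        rw [hfalse, e, h2 (by omega) hb5, D.phi_X, D.phi_X, ← h, inv_mul_cancel_right]
      · refine ⟨true, fun h' => absurd h' hall, ?_⟩
        rw [hone (by rw [e]; exact Nat.xor_lt_two_pow (n := 11) (hlt _ (by omega)) (hlt _ hb5)), e, h2 (by omega) hb5,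
          D.phi_X, D.phi_X]
        calc D.T n * D.X p * (D.T n)⁻¹ = (D.T n * D.X p * (D.T n)⁻¹ * (D.X p)⁻¹) * D.X p := by group
          _ = D.X q * (z * D.X p) := by rw [h, mul_assoc]
          _ = D.X q * D.X p * z := by rw [← hxz, mul_assoc]

omit hgood in
theorem conj_of_basis (hgood : D.X 2 * D.X 3 = D.X 3 * D.X 2) {c : G} {l : List ℕ} (hl : ∀ a ∈ l, a < 2048)
    (h : ∀ k : Fin 11, c * D.phi (2 ^ k.val) * c⁻¹ = D.phi (appL l (2 ^ k.val))) {v : ℕ} (hv : v < 2048) :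
    c * D.phi v * c⁻¹ = D.phi (appL l v) := by
  refine bit_induction (P := fun v => c * D.phi v * c⁻¹ = D.phi (appL l v)) ?_ (fun x y hx hy h1 h2 => ?_) h hv
  · have h0 : appL l 0 = 0 := by
      have := appL_xor l 1 1
      rwa [Nat.xor_self, Nat.xor_self] at this
    rw [h0, D.phi_zero, mul_one, mul_inv_cancel]
  · rw [appL_xor, D.phi_xor hgood _ _ hx hy, D.phi_xor hgood _ _ (appL_lt hl x) (appL_lt hl y), ← h1, ← h2]
    group

theorem T_conj (n : Fin 6) : ∃ m : Fin 8, ∀ v, v < 2048 →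
    D.T n * D.phi v * (D.T n)⁻¹ = D.phi (appL (sgnIm n m.val) v) := by
  choose c hc1 hc2 using D.T_basis hgood n
  have hpos : ∀ n : Fin 6, ∀ j : Fin 3, (tpos n).getD j.val 0 < 11 := by decide +kernel
  obtain ⟨m, m0, m1, m2⟩ := bits3 (c ⟨_, hpos n 0⟩) (c ⟨_, hpos n 1⟩) (c ⟨_, hpos n 2⟩)
  refine ⟨m, fun v hv => D.conj_of_basis hgood (basis_appL 0 n m).2 (fun k => ?_) hv⟩
  rw [hc2 k, (basis_appL k n m).1, tpos_cases n k m, m0, m1, m2]
  congr 2
  have hs := sign_code n k (c ⟨_, hpos n 0⟩) (c ⟨_, hpos n 1⟩) (c ⟨_, hpos n 2⟩)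
  obtain ⟨d1, d2, d3, hall, hk⟩ := hs
  rcases hk with e | e | e | e
  · have : k = ⟨(tpos n).getD (0 : Fin 3).val 0, hpos n 0⟩ := Fin.ext e
    subst this
    simp [-List.getD_eq_getElem?_getD, d1, d2, Ne.symm d1, Ne.symm d2]
  · have : k = ⟨(tpos n).getD (1 : Fin 3).val 0, hpos n 1⟩ := Fin.ext e
    subst this
    simp [-List.getD_eq_getElem?_getD, d1, d3, Ne.symm d1, Ne.symm d3]
  · have : k = ⟨(tpos n).getD (2 : Fin 3).val 0, hpos n 2⟩ := Fin.ext e
    subst this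
    simp [-List.getD_eq_getElem?_getD, d2, d3, Ne.symm d2, Ne.symm d3]
  · rw [hall e, hc1 k e]

theorem Y_conj (i : Fin 4) : ∀ v, v < 2048 →
    D.E (⟨i.val, by omega⟩ + 4) * D.phi v * (D.E (⟨i.val, by omega⟩ + 4))⁻¹ =
      D.phi (appL (baseIm ⟨6 + i.val, by omega⟩) v) := by
  intro v hv
  refine D.conj_of_basis hgood (Y_appL i 0).2 (fun k => ?_) hv
  have hlt : ∀ m : ℕ, m < 11 → 2 ^ m < 2048 := fun m hm =>
    lt_of_lt_of_le (Nat.pow_lt_pow_right (by norm_num) hm) (by norm_num)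
  set i8 : Fin 8 := ⟨i.val, by omega⟩ with hi8
  have hi : i8.val < 4 := i.isLt
  rw [(Y_appL i k).1, Y_code i k]
  by_cases h0 : k.val = 0
  · rw [if_pos h0, h0, pow_zero, D.phi_z, D.E_z, mul_inv_cancel_right]
  rw [if_neg h0]
  by_cases h5 : k.val < 5
  · rw [dif_pos h5]
    obtain ⟨a, ha, hk⟩ : ∃ a : Fin 8, a.val < 4 ∧ k.val = 1 + a.val :=
      ⟨⟨k.val - 1, by omega⟩, by simp only; omega, by simp only; omega⟩
    have hb : 1 + a.val < 11 := by omega
    rw [hk, D.phi_E a ha]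
    have e := S.commutator_eq (D.E_mem (i8 + 4)) (D.E_mem a)
    rw [D.E_pr, D.E_pr, B_un, ← add44] at e
    by_cases hai : a = i8
    · rw [if_pos (by rw [hai]), D.phi_xor hgood _ _ (by norm_num) (hlt _ hb), D.phi_z, D.phi_E a ha]
      rw [decide_eq_true hai, show bz true = 1 from rfl, zp_one, mul_inv_eq_iff_eq_mul] at e
      exact e
    · rw [if_neg (fun h => hai (Fin.ext (by simp only [hi8]; omega))), D.phi_E a ha]
      rw [decide_eq_false hai, show bz false = 0 from rfl, zp_zero, mul_inv_eq_one] at e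
      exact e
  rw [dif_neg h5]
  obtain ⟨p, hk⟩ : ∃ p : Fin 6, k.val = 5 + p.val := ⟨⟨k.val - 5, by omega⟩, by simp only; omega⟩
  have hp' : (⟨k.val - 5, by omega⟩ : Fin 6) = p := Fin.ext (by simp only; omega)
  rw [hp', hk, D.phi_X]
  obtain ⟨p1, p2, p3, p4⟩ := pair_facts p
  have hX := D.X_spec p
  have hbp : 5 + p.val < 11 := by omega
  have h3 : ∀ j : Fin 8, j.val < 4 →
      D.phi (2 ^ (1 + j.val) ^^^ 1 ^^^ 2 ^ (5 + p.val)) = D.E j * z * D.X p := fun j hj => by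
    rw [D.phi_xor hgood _ _ (Nat.xor_lt_two_pow (n := 11) (hlt _ (by omega)) (by norm_num)) (hlt _ hbp),
      D.phi_xor hgood _ _ (hlt _ (by omega)) (by norm_num), D.phi_E _ hj, D.phi_z, D.phi_X]
  split_ifs with c1 c2
  · rw [h3 _ p2]
    have e := (D.line_move p3.symm (low_facts _ _ p2 p1) (D.line_symm hX)).1
    rwa [show pI p = i8 from Fin.ext c1] at e
  · rw [h3 _ p1]
    have e := (D.line_move p3 p4 hX).1
    rwa [show pJ p = i8 from Fin.ext c2] at e
  · rw [D.phi_X]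
    refine mul_inv_eq_iff_eq_mul.2 (D.line_E p4 ?_ ?_ hX)
    · exact fun h => c1 (congrArg Fin.val (add_right_cancel h).symm)
    · exact fun h => c2 (congrArg Fin.val (add_right_cancel h).symm)

end Frm

end Cfsg.Agent.CoOneGolay
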