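import Cfsg.Agent.CoOneGolay.Flip

/-!
A setting in which the centraliser is abelian, with an element moving `z` inside it.
-/

set_option autoImplicit false

open Cfsg Cfsg.Agent.ThreeTrans.OrthCohom Cfsg.Agent.Classical.Quad QuadraticMap Cfsg.Agent.LargeExtra
open Cfsg.Agent.CoOneType Cfsg.Agent.CoOneType.CoOne

namespace Cfsg.Agent.CoOneGolay

theorem s0_tl : ∀ y : Fin 256, tln (2 ^ (1 : Fin 8).val) (2 ^ (2 : Fin 8).val) y.val = s0n y.val := by
  decide +kernel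

theorem pair_three : pI 3 = 1 ∧ pJ 3 = 2 ∧ pI 2 = 0 ∧ pJ 2 = 3 ∧ pI 0 = 0 ∧ pJ 0 = 1 ∧ pI 1 = 0 ∧ pJ 1 = 2 := by
  decide

theorem fix_U_code : ∀ u : Fin 16, sgn 8 (s0n u.val) = u.val := by decide +kernel

theorem span_code : ∀ v : Fin 256, Bn v.val 1 = false → Bn v.val 2 = false → Bn v.val 4 = false →
    qn v.val = false → ∃ p q : Bool, v.val &&& 136 = 0 ∧
        ((v.val = (if p then 2 else 0) ^^^ (if q then 4 else 0)) ∨
          (v.val = (if p then 2 else 0) ^^^ (if q then 4 else 0) ^^^ 1)) ∨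
      v.val &&& 136 = 8 ∧
        ((v.val = (if p then 2 else 0) ^^^ (if q then 4 else 0) ^^^ 8) ∨
          (v.val = (if p then 2 else 0) ^^^ (if q then 4 else 0) ^^^ 8 ^^^ 1)) ∨
      v.val &&& 136 = 128 ∧
        ((v.val = (if p then 2 else 0) ^^^ (if q then 4 else 0) ^^^ 128) ∨
          (v.val = (if p then 2 else 0) ^^^ (if q then 4 else 0) ^^^ 128 ^^^ 1)) := by decide +kernel

theorem U_cls : ∀ v : Fin 256, Bn v.val 1 = false → Bn v.val 2 = false → Bn v.val 4 = false →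
    qn v.val = false → (v.val &&& 136 = 0 ∨ v.val &&& 136 = 8) → v.val < 16 := by decide +kernel

theorem U_cls' : ∀ v : Fin 256, Bn v.val 1 = false → Bn v.val 2 = false → Bn v.val 4 = false →
    qn v.val = false → (v.val &&& 136 = 0 ∨ v.val &&& 136 = 128) →
    ∀ u : Fin 16, Bn v.val (if Bn u.val 136 then u.val ^^^ 136 else u.val) = false := by decide +kernel

theorem three_low : ∀ p q p' q' p'' q'' : Bool,
    let f : Bool → Bool → ℕ := fun p q => (if p then 2 else 0) ^^^ (if q then 4 else 0)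
    f p q = 0 ∨ f p' q' = 0 ∨ f p'' q'' = 0 ∨ f p q ^^^ f p' q' = 0 ∨ f p q ^^^ f p'' q'' = 0 ∨
      f p' q' ^^^ f p'' q'' = 0 ∨ f p q ^^^ f p' q' ^^^ f p'' q'' = 0 := by decide +kernel

theorem cls136_code : ∀ v : Fin 256, Bn v.val 1 = false → Bn v.val 2 = false → Bn v.val 4 = false →
    qn v.val = true → Bn v.val 8 = true := by decide +kernel

variable {G : Type*} [Group G] [Finite G] {z : G} {S : CoOne z} {w : G}

/-- The data coming from the exchange of `z` and `w`. -/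
structure Mir (D : Frm S w) (g : G) : Prop where
  gz : g * z * g⁻¹ = w
  fr : S.Fr (g⁻¹ * z * g)
  act : ∀ y, (S.act (g⁻¹ * D.X 3 * g)).1 y = sg (dc 8) (s0 y)
  conj : IsConj z (g⁻¹ * D.X 3 * g)
  nconj : ¬ IsConj z (g⁻¹ * D.X 3 * g * z)

namespace Frm

variable (D : Frm S w)
include D

theorem s_act {s : G} (hX : D.IsLine (pI 3) (pJ 3) s) (y : V) : (S.act s).1 y = s0 y := by
  obtain ⟨e1, e2, -⟩ := pair_three
  rw [hX.2.2.2, e1, e2, ← dc_cd y, tl_dc _ _ (cd y).isLt, s0_dc (cd y).isLt]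
  exact congrArg dc (s0_tl (cd y))

theorem X3_act (y : V) : (S.act (D.X 3)).1 y = s0 y := D.s_act (D.X_spec 3) y

theorem line_conj {i j : Fin 8} (hij : i ≠ j) (hp : j ≠ i + 4) {x : G} (h : D.IsLine i j x) : IsConj z x := by
  obtain ⟨c, hc, hcw, hce⟩ := D.carry i
  have hb : c⁻¹ * x * c ∈ oc w := by
    have := conj_mem_oc (g := c⁻¹) h.1
    rwa [show c⁻¹ * D.E i * c⁻¹⁻¹ = w by rw [← hcw]; group, inv_inv] at this
  have h1 : c⁻¹ * x * c ≠ 1 := fun e => by
    have hx : x = 1 := by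
      calc x = c * (c⁻¹ * x * c) * c⁻¹ := by group
        _ = 1 := by rw [e]; group
    have h4 := h.2.2.2 (un (j + 4))
    rw [hx, S.act_one, oG_one_apply, tl, B_un, B_un, decide_eq_true (add44 j), decide_eq_false (ne4' hij).1,
      show bz true = 1 from rfl, show bz false = 0 from rfl, one_smul, zero_smul,
        add_zero, eq_comm, add_eq_left] at h4
    exact un_ne h4
  refine (conj_of_invol D.F hb ?_ h1).trans (isConj_iff.2 ⟨c, by group⟩)
  calc c⁻¹ * x * c * (c⁻¹ * x * c) = c⁻¹ * (x * x) * c := by group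
    _ = 1 := by rw [D.line_sq hp h]; group

theorem s_conj {s : G} (hX : D.IsLine (pI 3) (pJ 3) s) :
    ∃ n, InT S w n (dc 4) (dc 2) ∧ IsConj (s * w) n := by
  obtain ⟨e1, e2, -⟩ := pair_three
  obtain ⟨hy1, hy2, hy4, hcyc⟩ := cyc_code
  obtain ⟨g1, hg1, hg1x⟩ := exists_rrn (a := 49) (b := 50) (by norm_num) (by norm_num) rfl rfl
  obtain ⟨g2, hg2, hg2x⟩ := exists_rrn (a := 81) (b := 84) (by norm_num) (by norm_num) rfl rfl
  obtain ⟨c1, hc1, rfl⟩ := S.act_surj g1 hg1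
  obtain ⟨c2, hc2, rfl⟩ := S.act_surj g2 hg2
  have hc0 : c2 * c1 * z = z * (c2 * c1) := (Commute.mul_left hc2 hc1).eq
  have hc0x : ∀ x : Fin 256, (S.act (c2 * c1)).1 (dc x.val) = dc (cyc x.val) := fun x => by
    rw [S.act_mul hc2 hc1, oG_mul_apply, hg1x _ x.isLt, hg2x _ (hcyc x).1]
    rfl
  obtain ⟨c, hc, hcw, hcx⟩ : ∃ c, c * z = z * c ∧ c * w * c⁻¹ = D.E 1 ∧
      ∀ x : Fin 256, (S.act c).1 (dc x.val) = dc (cyc x.val) := by
    have hp : S.pr (D.E 1) = S.pr (c2 * c1 * w * (c2 * c1)⁻¹) := by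
      rw [D.E_pr, S.act_spec _ hc0 _ D.F.mem, D.F.pr_eq,
        show dc 1 = dc ((⟨1, by norm_num⟩ : Fin 256) : ℕ) from rfl, hc0x, hy1]
      rfl
    rcases S.pr_eq (D.E_mem 1) (S.nrm hc0 D.F.mem) hp with e | e
    · exact ⟨_, hc0, e, hc0x⟩
    · have hne : D.E 1 ≠ 1 := fun h => by
        have := D.E_pr 1
        rw [h, S.pr_one] at this
        exact un_ne this.symm
      have hnz : D.E 1 ≠ z := fun h => by
        have := D.E_pr 1
        rw [h, S.pr_z] at this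
        exact un_ne this.symm
      obtain ⟨y, hy, hye⟩ := S.sett.exists_mover (D.E_mem 1) hne hnz
      refine ⟨y * (c2 * c1), (Commute.mul_left (S.comm hy) hc0).eq, ?_, fun x => by
        rw [S.act_mul (S.comm hy) hc0, S.act_inner hy, one_mul, hc0x]⟩
      calc y * (c2 * c1) * w * (y * (c2 * c1))⁻¹ = y * (D.E 1 * z) * y⁻¹ := by rw [← e]; group
        _ = y * D.E 1 * y⁻¹ * (y * z * y⁻¹) := by group
        _ = D.E 1 := by rw [hye, mul_inv_eq_of_eq_mul (S.comm hy), mul_assoc, S.zz, mul_one]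
  have hsz : s * z = z * s := hX.2.2.1
  have hb : c⁻¹ * s * c ∈ oc w := by
    have := conj_mem_oc (g := c⁻¹) (e1 ▸ hX.1)
    rwa [show c⁻¹ * D.E 1 * c⁻¹⁻¹ = w by rw [← hcw]; group, inv_inv] at this
  have hci := (Commute.inv_left hc).eq
  have hbz : c⁻¹ * s * c * z = z * (c⁻¹ * s * c) := (Commute.mul_left (Commute.mul_left hci hsz) hc).eq
  have hbA : ∀ y, (S.act (c⁻¹ * s * c)).1 y = sg (dc 2) y := fun y => by
    refine (S.act c).1.injective ?_
    rw [S.act_mul (Commute.mul_left hci hsz).eq hc, S.act_mul hci hsz, S.act_inv hc, oG_mul_apply, oG_mul_apply,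
      oG_apply_inv, D.s_act hX, ← dc_cd y, sg_dc (by norm_num) (cd y).isLt, hcx,
      show dc (sgn 2 (cd y).val) = dc ((⟨sgn 2 (cd y).val, (hcyc (cd y)).2.2.2.1⟩ : Fin 256) : ℕ) from rfl,
      hcx, s0_dc (hcyc (cd y)).2.1]
    exact congrArg dc (hcyc (cd y)).2.2.2.2.symm
  have ha : c⁻¹ * w * c ∈ oc z := by
    have := S.nrm hci D.F.mem
    rwa [inv_inv] at this
  have hpa : S.pr (c⁻¹ * w * c) = dc 4 := by
    refine (S.act c).1.injective ?_
    rw [← S.act_spec c hc _ ha, show c * (c⁻¹ * w * c) * c⁻¹ = w by group, D.F.pr_eq,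
      show dc 4 = dc ((⟨4, by norm_num⟩ : Fin 256) : ℕ) from rfl, hcx, hy4]
  exact ⟨_, T_swap D.F (dc_perp 4 (by norm_num) rfl) (dc_perp 2 (by norm_num) rfl) ha (Or.inl hpa) hb hbz hbA,
    isConj_iff.2 ⟨c⁻¹, by group⟩⟩

theorem mirror_facts {s g : G} (hX : D.IsLine (pI 3) (pJ 3) s) (hg : g * z * g⁻¹ = w) :
    IsConj z (g⁻¹ * s * g) ∧ ¬ IsConj z (g⁻¹ * s * g * z) := by
  refine ⟨(D.line_conj (pair_facts 3).2.2.1 (pair_facts 3).2.2.2 hX).trans (isConj_iff.2 ⟨g⁻¹, by rw [inv_inv]⟩),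
    fun h => ?_⟩
  obtain ⟨n, hn, hsn⟩ := D.s_conj hX
  exact not_conj_z D.F false hn ((h.trans (isConj_iff.2 ⟨g, by rw [← hg]; group⟩)).trans hsn)

theorem exists_mir : ∃ g : G, g * z * g⁻¹ = w ∧ S.Fr (g⁻¹ * z * g) ∧
    ∃ k, (k = 8 ∨ k = 128) ∧ ∀ y, (S.act (g⁻¹ * D.X 3 * g)).1 y = sg (dc k) (s0 y) := by
  have hX := D.X_spec 3
  obtain ⟨n, hn, hsn⟩ := D.s_conj hX
  have hsw : D.X 3 * w = w * D.X 3 := by
    have h := D.line_E (pair_facts 3).2.2.2 (low_facts (pI 3) 0 (pair_facts 3).1 (by decide))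
      (low_facts (pJ 3) 0 (pair_facts 3).2.1 (by decide)) hX
    rw [D.E_zero] at h
    exact h.symm
  obtain ⟨g, hg, F', k, hk, hA⟩ := mirror_s D.F hX.2.2.1 hsw (D.line_sq (pair_facts 3).2.2.2 hX)
    (D.line_conj (pair_facts 3).2.2.1 (pair_facts 3).2.2.2 hX) hn hsn
  exact ⟨g, hg, F', k, hk, hA⟩

end Frm

/-- Normalising the mirror. -/
theorem exists_mir_eight (D : Frm S w) : ∃ (S' : CoOne z) (D' : Frm S' w) (g : G), Mir D' g := by
  obtain ⟨g, hg, F', k, hk, hA⟩ := D.exists_mir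
  rcases hk with rfl | rfl
  · exact ⟨S, D, g, hg, F', hA, (D.mirror_facts (D.X_spec 3) hg).1, (D.mirror_facts (D.X_spec 3) hg).2⟩
  obtain ⟨e1, e2, -⟩ := pair_three
  have hflip : ∀ x : G, (∀ y, (S.act x).1 y = sg (dc 128) (s0 y)) →
      ∀ y, ((flipS S).act x).1 y = sg (dc 8) (s0 y) := fun x hx y => by
    have hlt : ∀ i : Fin 256, s0n i.val < 256 ∧ sgn 128 (s0n i.val) < 256 ∧
        (if Bn i.val 136 then i.val ^^^ 136 else i.val) < 256 := by decide +kernel
    have hsw : ∀ i : ℕ, i < 256 → swp.1 (dc i) = dc (if Bn i 136 then i ^^^ 136 else i) := fun i hi => by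
      rw [swp_apply, Bp_dc hi (by norm_num), bz_smul, ← dc_xor]
      congr 1
      split_ifs <;> simp
    rw [flip_act, hx, ← dc_cd y, hsw _ (cd y).isLt, s0_dc (hlt (cd y)).2.2,
      sg_dc (by norm_num) (hlt ⟨_, (hlt (cd y)).2.2⟩).1, hsw _ (hlt ⟨_, (hlt (cd y)).2.2⟩).2.1,
      s0_dc (cd y).isLt, sg_dc (by norm_num) (hlt (cd y)).1]
    exact congrArg dc ((show ∀ i : Fin 256,
      (if Bn (sgn 128 (s0n (if Bn i.val 136 then i.val ^^^ 136 else i.val))) 136 then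
        sgn 128 (s0n (if Bn i.val 136 then i.val ^^^ 136 else i.val)) ^^^ 136
       else sgn 128 (s0n (if Bn i.val 136 then i.val ^^^ 136 else i.val))) = sgn 8 (s0n i.val) by decide +kernel) (cd y))
  have hX' := D.flip.X_spec 3
  have hX : D.IsLine (pI 3) (pJ 3) (D.flip.X 3) := by
    rw [D.flip_line, e1, e2] at hX'
    rw [e1, e2]
    exact hX'
  have hA' : ∀ y, (S.act (g⁻¹ * D.flip.X 3 * g)).1 y = sg (dc 128) (s0 y) := fun y => by
    rcases D.line_unique (pair_facts 3).2.2.1 (D.X_spec 3) hX with e | e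
    · rw [e]; exact hA y
    · have hm : g⁻¹ * z * g ∈ oc z := F'.mem
      have hs : g⁻¹ * D.X 3 * g * z = z * (g⁻¹ * D.X 3 * g) := by
        have h := D.line_E (pair_facts 3).2.2.2 (low_facts (pI 3) 0 (pair_facts 3).1 (by decide))
          (low_facts (pJ 3) 0 (pair_facts 3).2.1 (by decide)) (D.X_spec 3)
        rw [D.E_zero] at h
        exact (mirror_mem D.F hg).2.2.1 h.symm
      rw [e, show g⁻¹ * (D.X 3 * z) * g = g⁻¹ * D.X 3 * g * (g⁻¹ * z * g) by group,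
        S.act_mul hs (S.comm hm), S.act_inner hm, mul_one]
      exact hA y
  exact ⟨_, D.flip, g, hg, flip_fr F', hflip _ hA', (D.mirror_facts hX hg).1, (D.mirror_facts hX hg).2⟩


/-- An abelian centraliser pulls back. -/
theorem pull_back {S' : CoOne z} {D : Frm S w} (D' : Frm S' w) (h' : D'.X 2 * D'.X 3 = D'.X 3 * D'.X 2) {g : G}
    (himg : ∀ a ∈ Uset S, g * a * g⁻¹ ∈ Au S') :
    (∀ x ∈ Au S', g⁻¹ * x * g ∈ Au S) ∧ D.X 2 * D.X 3 = D.X 3 * D.X 2 := by
  classical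
  have hmap : ∀ x ∈ Au S', g⁻¹ * x * g ∈ Au S := fun x hx => Subgroup.mem_centralizer_iff.2 fun a ha => by
    calc a * (g⁻¹ * x * g) = g⁻¹ * (g * a * g⁻¹ * x) * g := by group
      _ = g⁻¹ * x * g * a := by rw [D'.Au_comm h' (himg a ha) hx]; group
  refine ⟨hmap, ?_⟩
  have hsurj : Function.Surjective (fun x : ↥(Au S') => (⟨g⁻¹ * x.1 * g, hmap _ x.2⟩ : ↥(Au S))) := by
    refine ((Nat.bijective_iff_injective_and_card _).2 ⟨fun x y h => ?_, ?_⟩).2
    · have h := congrArg Subtype.val h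
      simp only at h
      exact Subtype.ext (mul_left_cancel (mul_right_cancel h))
    · rw [D.card_Au, D'.card_Au]
  obtain ⟨x, hx⟩ := hsurj ⟨_, D.X_Au 2⟩
  obtain ⟨y, hy⟩ := hsurj ⟨_, D.X_Au 3⟩
  have hx : g⁻¹ * x.1 * g = D.X 2 := congrArg Subtype.val hx
  have hy : g⁻¹ * y.1 * g = D.X 3 := congrArg Subtype.val hy
  rw [← hx, ← hy]
  show g⁻¹ * x.1 * g * (g⁻¹ * y.1 * g) = g⁻¹ * y.1 * g * (g⁻¹ * x.1 * g)
  calc g⁻¹ * x.1 * g * (g⁻¹ * y.1 * g) = g⁻¹ * (x.1 * y.1) * g := by group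
    _ = g⁻¹ * y.1 * g * (g⁻¹ * x.1 * g) := by rw [D'.Au_comm h' x.2 y.2]; group

variable {D : Frm S w} {g : G}

/-- Elements of `oc w` seen from the other side. -/
theorem Mir.image (M : Mir D g) {a : G} (ha : a ∈ Uset S) : g * a * g⁻¹ ∈ oc w ∧
    g * a * g⁻¹ * z = z * (g * a * g⁻¹) ∧ g * a * g⁻¹ * D.X 3 = D.X 3 * (g * a * g⁻¹) ∧
    ∃ u : Fin 256, Bn u.val 1 = false ∧ Bn u.val 2 = false ∧ Bn u.val 4 = false ∧ qn u.val = false ∧
      ∀ y, (S.act (g * a * g⁻¹)).1 y = sg (dc u.val) y := by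
  obtain ⟨ha, v, hv⟩ := ha
  set b := g * a * g⁻¹ with hb
  have hbm : b ∈ oc w := M.gz ▸ conj_mem_oc ha
  have haw : a * (g⁻¹ * z * g) = g⁻¹ * z * g * a :=
    comm_of_perp M.fr ha (by rw [hv, Bp_dc (by omega) (by norm_num), bz_eq_zero]; exact U_perp v 0 (by decide))
  have hbz : b * z = z * b := by
    calc b * z = g * (a * (g⁻¹ * z * g)) * g⁻¹ := by rw [hb]; group
      _ = z * b := by rw [haw, hb]; group
  have hsw : D.X 3 * w = w * D.X 3 := by
    have h := D.line_E (pair_facts 3).2.2.2 (low_facts (pI 3) 0 (pair_facts 3).1 (by decide))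
      (low_facts (pJ 3) 0 (pair_facts 3).2.1 (by decide)) (D.X_spec 3)
    rw [D.E_zero] at h
    exact h.symm
  have hs'z := (mirror_mem D.F M.gz).2.2.1 hsw
  set s' := g⁻¹ * D.X 3 * g with hs'
  have hs'a : s' * a = a * s' := by
    have hp : S.pr a = S.pr (s' * a * s'⁻¹) := by
      rw [S.act_spec s' hs'z a ha, M.act, hv, s0_dc (by omega), sg_dc (by norm_num)
        ((cyc_code.2.2.2 ⟨v.val, by omega⟩).2.2.1), fix_U_code]
    rcases S.pr_eq ha (S.nrm hs'z ha) hp with e | e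
    · exact mul_inv_eq_iff_eq_mul.1 e
    · exfalso
      refine M.nconj (M.conj.trans (isConj_iff.2 ⟨a⁻¹, ?_⟩))
      have e' : s' * a = a * z * s' := mul_inv_eq_iff_eq_mul.1 e
      calc a⁻¹ * s' * a⁻¹⁻¹ = a⁻¹ * (s' * a) := by group
        _ = z * s' := by rw [e']; group
        _ = g⁻¹ * D.X 3 * g * z := hs'z.symm
  have hbs : b * D.X 3 = D.X 3 * b := by
    calc b * D.X 3 = g * (a * s') * g⁻¹ := by rw [hb, hs']; group
      _ = D.X 3 * b := by rw [← hs'a, hb, hs']; group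
  obtain ⟨u, hu, hub⟩ := act_sg D.F hbm hbz
  have ha2 : a * a = 1 := by
    rw [S.pr_sq a ha, hv, q_dc (by omega), show qn v.val = false from
      (show ∀ v : Fin 16, qn v.val = false by decide +kernel) v]
    exact zp_zero z
  have hq : qP 4 u = 0 := zp_inj (wne D.F) (by
    rw [← sq_X D.F hbm hbz hu hub, zp_zero, hb]
    calc g * a * g⁻¹ * (g * a * g⁻¹) = g * (a * a) * g⁻¹ := by group
      _ = 1 := by rw [ha2]; group)
  have hs0 : Bp u (dc 2) = 0 ∧ Bp u (dc 4) = 0 := by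
    refine s0_fix ?_
    have hsu : Bp (s0 u) (dc 1) = 0 := by rw [s0_Bp_one, hu]
    refine sg_inj (by rw [Bp_add_left, hu, hsu, add_zero]) fun y => ?_
    have e1 : (S.act (b * D.X 3)).1 (s0 y) = (S.act (D.X 3 * b)).1 (s0 y) := by rw [hbs]
    rw [S.act_mul hbz (D.X_spec 3).2.2.1, S.act_mul (D.X_spec 3).2.2.1 hbz, oG_mul_apply, oG_mul_apply,
      hub, hub, D.X3_act, D.X3_act, s0_sg, s0_invol] at e1
    rw [← sg_comp hu hsu, ← e1, sg_invol hu]
  refine ⟨hbm, hbz, hbs, cd u, code_Bn (by norm_num) hu, code_Bn (by norm_num) hs0.1,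
    code_Bn (by norm_num) hs0.2, code_qn hq, fun y => by rw [hub, dc_cd]⟩

/-- Commutation with the line reduces to the class of the vector. -/
theorem Mir.reduce (_M : Mir D g) {b : G} {u : Fin 256} (hb : b ∈ oc w) (hbz : b * z = z * b)
    (h1 : Bn u.val 1 = false) (h2 : Bn u.val 2 = false) (h4 : Bn u.val 4 = false) (hq : qn u.val = false)
    (hact : ∀ y, (S.act b).1 y = sg (dc u.val) y) (hbs : b * D.X 3 = D.X 3 * b) (m : Fin 8)
    (hm : m = 3 ∨ m = 7) (hc : u.val &&& 136 = 2 ^ m.val) {Y : G} (hY : D.IsLine 0 m Y) :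
    Y * D.X 3 = D.X 3 * Y := by
  obtain ⟨e1, e2, -, -, e5, e6, e7, e8⟩ := pair_three
  have hX := D.X_spec 3
  have h0 := D.X_spec 0
  have h1' := D.X_spec 1
  rw [e1, e2] at hX
  rw [e5, e6] at h0
  rw [e7, e8] at h1'
  have c0 : D.X 0 * D.X 3 = D.X 3 * D.X 0 :=
    D.line_comm (i := 1) (j := 0) (k := 2) (by decide) (by decide) (by decide) (D.line_symm h0) hX
  have c1 : D.X 1 * D.X 3 = D.X 3 * D.X 1 :=
    D.line_comm (i := 2) (j := 0) (k := 1) (by decide) (by decide) (by decide) (D.line_symm h1') (D.line_symm hX)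
  have hE : ∀ (i : Fin 8) {x : G}, D.IsLine 0 i x → x ∈ oc w ∧ x * z = z * x ∧
      ∀ y, (S.act x).1 y = sg (dc (2 ^ i.val)) y := by
    intro i x hx
    exact ⟨D.E_zero ▸ hx.1, hx.2.2.1, hx.2.2.2⟩
  obtain ⟨p, q, hpq⟩ := span_code u h1 h2 h4 hq
  have hm8 : 2 ^ m.val = 8 ∨ 2 ^ m.val = 128 := by rcases hm with rfl | rfl <;> simp
  have hu : u.val = (if p then 2 else 0) ^^^ (if q then 4 else 0) ^^^ 2 ^ m.val ∨
      u.val = (if p then 2 else 0) ^^^ (if q then 4 else 0) ^^^ 2 ^ m.val ^^^ 1 := by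
    rcases hpq with ⟨r, h⟩ | ⟨r, h⟩ | ⟨r, h⟩ <;> rw [r] at hc <;> rcases hm8 with e | e <;> rw [e] at hc ⊢ <;>
      first | exact h | omega
  obtain ⟨hY1, hY2, hY3⟩ := hE m hY
  obtain ⟨hA1, hA2, hA3⟩ := hE 1 h0
  obtain ⟨hB1, hB2, hB3⟩ := hE 2 h1'
  have hex : ∀ (x : G) (t : Bool) (n : ℕ), n < 256 → Bn n 1 = false → x ∈ oc w → x * z = z * x →
      (∀ y, (S.act x).1 y = sg (dc n) y) → ex x t ∈ oc w ∧ ex x t * z = z * ex x t ∧
        ∀ y, (S.act (ex x t)).1 y = sg (dc (if t then n else 0)) y := by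
    intro x t n hn hn1 hx hxz hxa
    cases t
    · refine ⟨one_mem _, (Commute.one_left z).eq, fun y => ?_⟩
      rw [show ex x false = 1 from rfl, S.act_one, oG_one_apply]
      simp [dc_zero, sg_zero]
    · exact ⟨hx, hxz, hxa⟩
  obtain ⟨hP1, hP2, hP3⟩ := hex (D.X 0) p 2 (by norm_num) rfl hA1 hA2 hA3
  obtain ⟨hQ1, hQ2, hQ3⟩ := hex (D.X 1) q 4 (by norm_num) rfl hB1 hB2 hB3
  have hbn : ∀ p q : Bool, Bn (if p then 2 else 0) 1 = false ∧ Bn (if q then 4 else 0) 1 = false ∧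
      Bn ((if p then 2 else 0) ^^^ (if q then 4 else 0)) 1 = false ∧ (if p then 2 else 0 : ℕ) < 256 ∧
      (if q then 4 else 0 : ℕ) < 256 ∧ ((if p then 2 else 0) ^^^ (if q then 4 else 0)) < 256 := by decide +kernel
  obtain ⟨n1, n2, n3, l1, l2, l3⟩ := hbn p q
  have hperp : ∀ {n : ℕ}, n < 256 → Bn n 1 = false → Bp (dc n) (dc 1) = 0 := fun hn h => dc_perp _ hn h
  have hPQ : ex (D.X 0) p * ex (D.X 1) q * z = z * (ex (D.X 0) p * ex (D.X 1) q) := (Commute.mul_left hP2 hQ2).eq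
  have hprod : ∀ y, (S.act (ex (D.X 0) p * ex (D.X 1) q * Y)).1 y = (S.act b).1 y := fun y => by
    have hmlt : 2 ^ m.val < 256 ∧ Bn (2 ^ m.val) 1 = false := by rcases hm with rfl | rfl <;> decide
    rw [S.act_mul hPQ hY2, S.act_mul hP2 hQ2, oG_mul_apply, oG_mul_apply, hY3, hQ3, hP3, hact,
      sg_comp (hperp l2 n2) (hperp hmlt.1 hmlt.2),
      sg_comp (hperp l1 n1) (by rw [Bp_add_left, hperp l2 n2, hperp hmlt.1 hmlt.2, add_zero]),
      ← dc_xor, ← dc_xor, ← Nat.xor_assoc]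
    rcases hu with e | e <;> rw [e]
    conv_rhs => rw [dc_xor]
    rw [sg_shift]
    exact hperp (xor_lt l3 hmlt.1) ((show ∀ p q : Bool, ∀ m : Fin 8, m = 3 ∨ m = 7 →
      Bn ((if p then 2 else 0) ^^^ (if q then 4 else 0) ^^^ 2 ^ m.val) 1 = false by decide +kernel) p q m hm)
  obtain ⟨k, hk, hk', e⟩ := same_act D.F hb hbz (mul_mem (mul_mem hP1 hQ1) hY1)
    (Commute.mul_left hPQ hY2).eq fun y => (hprod y).symm
  have hX3w : D.X 3 * w = w * D.X 3 := by
    have h := D.line_E (i := 1) (j := 2) (l := 0) (by decide) (by decide) (by decide) hX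
    rw [D.E_zero] at h
    exact h.symm
  have cK : Commute k (D.X 3) := (inter_comm D.F hk hk' hX.2.2.1 hX3w).symm
  have cE : ∀ (x : G) (t : Bool), Commute x (D.X 3) → Commute (ex x t) (D.X 3) := fun x t h => by
    cases t
    · exact Commute.one_left _
    · exact h
  have hYe : Y = (ex (D.X 0) p * ex (D.X 1) q)⁻¹ * (b * k) := by
    rw [← e]; group
  rw [hYe]
  exact ((Commute.mul_left (cE _ p c0) (cE _ q c1)).inv_left.mul_left (Commute.mul_left hbs cK)).eq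

/-- Both families cannot commute with the line. -/
theorem Mir.not_both (M : Mir D g) {Y Y' : G} (hY : D.IsLine 0 3 Y) (hY' : D.IsLine 0 7 Y')
    (h : Y * D.X 3 = D.X 3 * Y) (h' : Y' * D.X 3 = D.X 3 * Y') : False := by
  have hm1 : Y ∈ oc w := D.E_zero ▸ hY.1
  have hm2 : Y' ∈ oc w := D.E_zero ▸ hY'.1
  set b := Y * Y' with hb
  have hbm : b ∈ oc w := mul_mem hm1 hm2
  have hbz : b * z = z * b := (Commute.mul_left hY.2.2.1 hY'.2.2.1).eq
  have hbu : ∀ y, (S.act b).1 y = sg (dc 136) y := fun y => by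
    rw [hb, S.act_mul hY.2.2.1 hY'.2.2.1, oG_mul_apply, hY'.2.2.2, hY.2.2.2,
      show ∀ t r, tl (un (0 : Fin 8)) t r = sg t r from fun t r => rfl,
      show ∀ t r, tl (un (0 : Fin 8)) t r = sg t r from fun t r => rfl,
      sg_comp (dc_perp _ (by decide) (by decide)) (dc_perp _ (by decide) (by decide)), ← dc_xor]
    rfl
  have hb2 : b * b = w := by
    rw [sq_X D.F hbm hbz (dc_perp 136 (by norm_num) rfl) hbu, q_dc (by norm_num)]
    exact zp_one w
  have hbs : b * D.X 3 = D.X 3 * b := (Commute.mul_left h h').eq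
  obtain ⟨ha, -, -, -⟩ := mirror_mem D.F M.gz (x := b)
  set a := g⁻¹ * b * g with hadef
  have ha' : a ∈ oc z := ha hbm
  have haq : qP 4 (S.pr a) = 1 := by
    refine zp_inj S.zne ?_
    rw [← S.pr_sq a ha', zp_one, hadef, show g⁻¹ * b * g * (g⁻¹ * b * g) = g⁻¹ * (b * b) * g by group, hb2]
    exact mirror_w M.gz
  have haw : a * (g⁻¹ * z * g) = g⁻¹ * z * g * a := (mirror_mem D.F M.gz).2.2.2 hbz
  have hv1 : Bp (S.pr a) (dc 1) = 0 := perp_of_comm M.fr ha' haw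
  have hsw : D.X 3 * w = w * D.X 3 := by
    have h := D.line_E (pair_facts 3).2.2.2 (low_facts (pI 3) 0 (pair_facts 3).1 (by decide))
      (low_facts (pJ 3) 0 (pair_facts 3).2.1 (by decide)) (D.X_spec 3)
    rw [D.E_zero] at h
    exact h.symm
  have hs'z := (mirror_mem D.F M.gz).2.2.1 hsw
  have hfix : sg (dc 8) (s0 (S.pr a)) = S.pr a := by
    rw [← M.act, ← S.act_spec _ hs'z a ha']
    congr 1
    calc g⁻¹ * D.X 3 * g * a * (g⁻¹ * D.X 3 * g)⁻¹ = g⁻¹ * (D.X 3 * b) * (D.X 3)⁻¹ * g := by rw [hadef]; group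
      _ = a := by rw [← hbs, hadef]; group
  have h24 : Bp (S.pr a) (dc 2) = 0 ∧ Bp (S.pr a) (dc 4) = 0 := by
    refine s0_fix ?_
    have hs1 : Bp (s0 (S.pr a)) (dc 1) = 0 := by rw [s0_Bp_one, hv1]
    rw [sg_perp hs1] at hfix
    rcases zmod_cases (Bp (s0 (S.pr a)) (dc 8)) with e | e <;> rw [e] at hfix
    · rw [zero_smul, add_zero] at hfix
      exact Or.inl (by rw [hfix, v_add_self])
    · rw [one_smul] at hfix
      exact Or.inr (by
        conv_lhs => arg 1; rw [← hfix]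
        rw [add_right_comm, v_add_self, zero_add])
  rw [s0_eq h24.1 h24.2, sg_perp hv1] at hfix
  have h8 : Bn (cd (S.pr a)).val 8 = true := cls136_code _ (code_Bn (by norm_num) hv1)
    (code_Bn (by norm_num) h24.1) (code_Bn (by norm_num) h24.2) (code_qn haq)
  rw [← dc_cd (S.pr a), Bp_dc (cd _).isLt (by norm_num), h8, show bz true = 1 from rfl, one_smul, add_eq_left]
    at hfix
  exact un_ne (i := 0) hfix

/-- The centraliser is abelian, and the mirror normalises it. -/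
theorem Mir.good (M : Mir D g) :
    D.X 2 * D.X 3 = D.X 3 * D.X 2 ∧ ∀ x ∈ Au S, g⁻¹ * x * g ∈ Au S := by
  classical
  obtain ⟨e1, e2, e3, e4, -⟩ := pair_three
  have hX2 : D.IsLine 0 3 (D.X 2) := by
    have h := D.X_spec 2; rw [e3, e4] at h; exact h
  obtain ⟨Y, hY⟩ := D.exists_line (i := 0) (j := 7) (by decide) (by decide)
  choose! hb1 hb2 hb3 u hu1 hu2 hu4 huq hua using fun a (ha : a ∈ Uset S) => M.image ha
  have hcls : ∀ a ∈ Uset S, (u a).val &&& 136 = 0 ∨ (u a).val &&& 136 = 8 ∨ (u a).val &&& 136 = 128 :=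
    fun a ha => by
      obtain ⟨p, q, h⟩ := span_code _ (hu1 a ha) (hu2 a ha) (hu4 a ha) (huq a ha)
      rcases h with ⟨r, -⟩ | ⟨r, -⟩ | ⟨r, -⟩
      exacts [Or.inl r, Or.inr (Or.inl r), Or.inr (Or.inr r)]
  have himg : ∀ (m : ℕ), (m = 8 ∨ m = 128) → (∀ a ∈ Uset S, (u a).val &&& 136 ≠ m) →
      ∀ a ∈ Uset S, (u a).val &&& 136 = 0 ∨ (u a).val &&& 136 = 136 - m := fun m hm h a ha => by
    rcases hcls a ha with e | e | e
    · exact Or.inl e
    · exact Or.inr (by rcases hm with rfl | rfl; · exact absurd e (h a ha)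
                       rw [e])
    · exact Or.inr (by rcases hm with rfl | rfl; · rw [e]
                       exact absurd e (h a ha))
  -- no vector of the second family
  by_cases h128 : ∃ a ∈ Uset S, (u a).val &&& 136 = 128
  · exfalso
    obtain ⟨a, ha, hc⟩ := h128
    have hYs := M.reduce (hb1 a ha) (hb2 a ha) (hu1 a ha) (hu2 a ha) (hu4 a ha) (huq a ha) (hua a ha) (hb3 a ha)
      7 (Or.inr rfl) hc hY
    by_cases h8 : ∃ a ∈ Uset S, (u a).val &&& 136 = 8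
    · obtain ⟨a', ha', hc'⟩ := h8
      exact M.not_both hX2 hY (M.reduce (hb1 a' ha') (hb2 a' ha') (hu1 a' ha') (hu2 a' ha') (hu4 a' ha')
        (huq a' ha') (hua a' ha') (hb3 a' ha') 3 (Or.inl rfl) hc' hX2) hYs
    push Not at h8
    have hgood' : D.flip.X 2 * D.flip.X 3 = D.flip.X 3 * D.flip.X 2 := by
      have hl2 := D.flip.X_spec 2
      have hl3 := D.flip.X_spec 3
      rw [D.flip_line] at hl2 hl3
      rw [e3, e4] at hl2
      have k2 := D.line_unique (i := 0) (j := 7) (by decide) hY hl2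
      have hX3 := D.X_spec 3
      rw [e1, e2] at hl3 hX3
      have k3 := D.line_unique (i := 1) (j := 2) (by decide) hX3 hl3
      have hc : ∀ x, (x = Y ∨ x = Y * z) → ∀ y, (y = D.X 3 ∨ y = D.X 3 * z) → Commute x y := by
        have cz : Commute Y (D.X 3) := hYs
        have cz1 : Commute z (D.X 3) := hX3.2.2.1.symm
        have cz2 : Commute Y z := hY.2.2.1
        rintro x (rfl | rfl) y (rfl | rfl)
        exacts [cz, cz.mul_right cz2, cz.mul_left cz1, (cz.mul_left cz1).mul_right (cz2.mul_left (Commute.refl z))]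
      exact hc _ k2 _ k3
    have himg' : ∀ a ∈ Uset S, g * a * g⁻¹ ∈ Au (flipS S) := fun a ha => by
      refine Subgroup.mem_centralizer_iff.2 ?_
      rintro c ⟨hc, v, hv⟩
      have hlt : ∀ v : Fin 16, v.val < 256 ∧ (if Bn v.val 136 then v.val ^^^ 136 else v.val) < 256 ∧
          Bn (if Bn v.val 136 then v.val ^^^ 136 else v.val) 1 = false := by decide +kernel
      have hpc : S.pr c = dc (if Bn v.val 136 then v.val ^^^ 136 else v.val) := by
        rw [← swp_two (S.pr c), show swp.1 (S.pr c) = dc v.val from hv, swp_apply,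
          Bp_dc (hlt v).1 (by norm_num), bz_smul, ← dc_xor]
        congr 1
        split_ifs <;> simp
      refine commute_of_perp D.F hc ?_ (hb1 a ha) (hb2 a ha) (dc_perp _ (u a).isLt (hu1 a ha)) (hua a ha) ?_
      · rw [hpc]; exact dc_perp _ (hlt v).2.1 (hlt v).2.2
      · rw [hpc, Bp_comm, Bp_dc (u a).isLt (hlt v).2.1, bz_eq_zero]
        exact U_cls' _ (hu1 a ha) (hu2 a ha) (hu4 a ha) (huq a ha)
          (himg 8 (Or.inl rfl) h8 a ha) v
    obtain ⟨-, hg⟩ := pull_back (D := D) D.flip hgood' himg'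
    exact M.not_both hX2 hY hg hYs
  push Not at h128
  have hU : ∀ a ∈ Uset S, g * a * g⁻¹ ∈ Au S := fun a ha => by
    refine Subgroup.mem_centralizer_iff.2 ?_
    rintro c ⟨hc, v, hv⟩
    refine commute_of_perp D.F hc ?_ (hb1 a ha) (hb2 a ha) (dc_perp _ (u a).isLt (hu1 a ha)) (hua a ha) ?_
    · rw [hv]; exact dc_perp _ (by omega) (U_perp v 0 (by decide))
    · rw [hv, Bp_dc (by omega) (u a).isLt, bz_eq_zero]
      have hlt := U_cls _ (hu1 a ha) (hu2 a ha) (hu4 a ha) (huq a ha) (himg 128 (Or.inr rfl) h128 a ha)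
      exact (show ∀ u v : Fin 16, Bn u.val v.val = false by decide +kernel) v ⟨_, hlt⟩
  -- some vector lies outside the line
  obtain ⟨a, ha, hc⟩ : ∃ a ∈ Uset S, (u a).val &&& 136 = 8 := by
    by_contra hcon
    push Not at hcon
    have hlow : ∀ a ∈ Uset S, ∃ p q : Bool, dc (u a).val = dc ((if p then 2 else 0) ^^^ (if q then 4 else 0)) ∨
        dc (u a).val = dc ((if p then 2 else 0) ^^^ (if q then 4 else 0)) + dc 1 := fun a ha => by
      obtain ⟨p, q, h⟩ := span_code _ (hu1 a ha) (hu2 a ha) (hu4 a ha) (huq a ha)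
      refine ⟨p, q, ?_⟩
      rcases h with ⟨-, h | h⟩ | ⟨r, -⟩ | ⟨r, -⟩
      · exact Or.inl (congrArg dc h)
      · exact Or.inr (by rw [h, dc_xor])
      · exact absurd r (hcon a ha)
      · exact absurd r (h128 a ha)
    obtain ⟨a2, h2, p2⟩ := S.pr_surj (dc 2)
    obtain ⟨a4, h4, p4⟩ := S.pr_surj (dc 4)
    obtain ⟨a8, h8, p8⟩ := S.pr_surj (dc 8)
    have hU2 : a2 ∈ Uset S := mem_Uset (by norm_num) h2 p2
    have hU4 : a4 ∈ Uset S := mem_Uset (by norm_num) h4 p4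
    have hU8 : a8 ∈ Uset S := mem_Uset (by norm_num) h8 p8
    -- no element above the span acts trivially on the other side
    have hno : ∀ {a : G} {n : ℕ}, n < 256 → n &&& 14 = n → n ≠ 0 → a ∈ oc z → S.pr a = dc n →
        (∀ y, (S.act (g * a * g⁻¹)).1 y = y) → False := by
      intro a n hn h14 h0 ha hp hact
      have hmU : a ∈ Uset S := mem_Uset (u := n) (by rw [← h14]; exact lt_of_le_of_lt Nat.and_le_right (by norm_num)) ha hp
      have hbk : g * a * g⁻¹ ∈ oc z := S.act_ker _ (hb2 a hmU) (ext_oG fun y => by rw [hact, oG_one_apply])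
      have h01 : ∀ n : Fin 256, n.val &&& 14 = n.val → n.val ≠ 1 := by decide +kernel
      have fin : S.pr a = 0 ∨ S.pr a = dc 1 := by
        have hw' : g⁻¹ * w * g = z := mirror_w M.gz
        rcases inter D.F hbk (hb1 a hmU) with e | e | e | e
        · exact Or.inl (by rw [conj_eq_one_iff.1 e, S.pr_one])
        · exact Or.inr (by
            rw [show a = g⁻¹ * (g * a * g⁻¹) * g by group, e, M.fr.pr_eq])
        · exact Or.inl (by
            rw [show a = g⁻¹ * (g * a * g⁻¹) * g by group, e, hw', S.pr_z])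
        · exact Or.inr (by
            rw [show a = g⁻¹ * (g * a * g⁻¹) * g by group, e,
              show g⁻¹ * (w * z) * g = g⁻¹ * w * g * (g⁻¹ * z * g) by group, hw',
              S.pr_mul _ S.zmem _ M.fr.mem, S.pr_z, M.fr.pr_eq, zero_add])
      rcases fin with e | e <;> rw [hp] at e
      · exact h0 (dc_inj hn (by norm_num) (e.trans dc_zero.symm))
      · exact h01 ⟨n, hn⟩ h14 (dc_inj hn (by norm_num) e)
    have hmul : ∀ {a b : G} {i j : ℕ}, a ∈ Uset S → b ∈ Uset S → S.pr a = dc i → S.pr b = dc j →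
        (i ^^^ j < 16) → ∀ {s t : ℕ}, s < 256 → t < 256 → Bn s 1 = false → Bn t 1 = false →
        (∀ y, (S.act (g * a * g⁻¹)).1 y = sg (dc s) y) → (∀ y, (S.act (g * b * g⁻¹)).1 y = sg (dc t) y) →
        a * b ∈ Uset S ∧ S.pr (a * b) = dc (i ^^^ j) ∧
          ∀ y, (S.act (g * (a * b) * g⁻¹)).1 y = sg (dc (s ^^^ t)) y := by
      intro a b i j ha hb hpa hpb hij s t hs ht hs1 ht1 hA hB
      have hp : S.pr (a * b) = dc (i ^^^ j) := by rw [S.pr_mul _ ha.1 _ hb.1, hpa, hpb, dc_xor]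
      refine ⟨mem_Uset hij (mul_mem ha.1 hb.1) hp, hp, fun y => ?_⟩
      rw [show g * (a * b) * g⁻¹ = g * a * g⁻¹ * (g * b * g⁻¹) by group, S.act_mul (hb2 a ha) (hb2 b hb),
        oG_mul_apply, hB, hA, sg_comp (dc_perp _ hs hs1) (dc_perp _ ht ht1), dc_xor]
    have hnorm : ∀ a ∈ Uset S, ∃ p q : Bool,
        ∀ y, (S.act (g * a * g⁻¹)).1 y = sg (dc ((if p then 2 else 0) ^^^ (if q then 4 else 0))) y := fun a ha => by
      obtain ⟨p, q, h | h⟩ := hlow a ha <;> refine ⟨p, q, fun y => ?_⟩ <;> rw [hua a ha, h]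
      exact sg_shift (dc_perp _ ((show ∀ p q : Bool, (if p then 2 else 0) ^^^ (if q then 4 else 0) < 256 by decide +kernel) p q)
        ((show ∀ p q : Bool, Bn ((if p then 2 else 0) ^^^ (if q then 4 else 0)) 1 = false by decide +kernel) p q)) y
    have hb : ∀ p q : Bool, ((if p then 2 else 0) ^^^ (if q then 4 else 0) : ℕ) < 256 ∧
        Bn ((if p then 2 else 0) ^^^ (if q then 4 else 0)) 1 = false ∧
        ∀ p' q' : Bool, ((if p then 2 else 0) ^^^ (if q then 4 else 0) ^^^ ((if p' then 2 else 0) ^^^ (if q' then 4 else 0)) : ℕ) < 256 ∧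
          Bn ((if p then 2 else 0) ^^^ (if q then 4 else 0) ^^^ ((if p' then 2 else 0) ^^^ (if q' then 4 else 0))) 1 = false := by
      decide +kernel
    obtain ⟨p, q, A2⟩ := hnorm a2 hU2
    obtain ⟨p', q', A4⟩ := hnorm a4 hU4
    obtain ⟨p'', q'', A8⟩ := hnorm a8 hU8
    have hzero : ∀ {a : G} {n s : ℕ}, n < 256 → n &&& 14 = n → n ≠ 0 → a ∈ oc z → S.pr a = dc n → s = 0 →
        (∀ y, (S.act (g * a * g⁻¹)).1 y = sg (dc s) y) → False := fun hn h14 h0 ha hp hs hA =>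
      hno hn h14 h0 ha hp fun y => by rw [hA, hs, dc_zero, sg_zero]
    obtain ⟨U24, P24, A24⟩ := hmul hU2 hU4 p2 p4 (by decide) (hb p q).1 (hb p' q').1 (hb p q).2.1 (hb p' q').2.1 A2 A4
    obtain ⟨U28, P28, A28⟩ := hmul hU2 hU8 p2 p8 (by decide) (hb p q).1 (hb p'' q'').1 (hb p q).2.1 (hb p'' q'').2.1 A2 A8
    obtain ⟨U48, P48, A48⟩ := hmul hU4 hU8 p4 p8 (by decide) (hb p' q').1 (hb p'' q'').1 (hb p' q').2.1 (hb p'' q'').2.1 A4 A8
    obtain ⟨U248, P248, A248⟩ := hmul U24 hU8 P24 p8 (by decide) ((hb p q).2.2 p' q').1 (hb p'' q'').1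
      ((hb p q).2.2 p' q').2 (hb p'' q'').2.1 A24 A8
    rcases three_low p q p' q' p'' q'' with e | e | e | e | e | e | e
    · exact hzero (by norm_num) (by decide) (by decide) h2 p2 e A2
    · exact hzero (by norm_num) (by decide) (by decide) h4 p4 e A4
    · exact hzero (by norm_num) (by decide) (by decide) h8 p8 e A8
    · exact hzero (by decide) (by decide) (by decide) U24.1 P24 e A24
    · exact hzero (by decide) (by decide) (by decide) U28.1 P28 e A28
    · exact hzero (by decide) (by decide) (by decide) U48.1 P48 e A48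
    · exact hzero (by decide) (by decide) (by decide) U248.1 P248 e A248
  have hgood := M.reduce (hb1 a ha) (hb2 a ha) (hu1 a ha) (hu2 a ha) (hu4 a ha) (huq a ha) (hua a ha) (hb3 a ha)
    3 (Or.inl rfl) hc hX2
  exact ⟨hgood, (pull_back (D := D) D hgood hU).1⟩

end Cfsg.Agent.CoOneGolay
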