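import Cfsg.Agent.CoOneGolay.Cocode
import Cfsg.Agent.Compute.M24Base

/-!
The normaliser acts as the automorphism group of the code.
-/

set_option autoImplicit false
set_option maxHeartbeats 1000000

open Cfsg Cfsg.Agent Cfsg.Agent.ThreeTrans.OrthCohom Cfsg.Agent.Classical.Quad QuadraticMap Cfsg.Agent.LargeExtra
open Cfsg.Agent.CoOneType Cfsg.Agent.CoOneType.CoOne

namespace Cfsg.Agent.CoOneGolay

variable {G : Type*} [Group G] [Finite G] {z : G} {S : CoOne z} {w : G} {D : Frm S w} {g : G} {s : ℕ}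

theorem Mdl.zinv (M : Mdl D g s) (n : Fin 10) {v : ℕ} (hv : v < 2048) :
    zTab.testBit (appL (finalIm n) v) = zTab.testBit v := by
  have hc : IsConj (D.psi s v) (D.psi s (appL (finalIm n) v)) := isConj_iff.2 ⟨genEl D n, M.gen n v hv⟩
  rw [Bool.eq_iff_iff, ← M.conj_iff _ (appL_lt (final_lt n) v), ← M.conj_iff v hv]
  exact ⟨fun h => h.trans hc.symm, fun h => h.trans hc⟩

/-- The permutation of codes induced by an element of the normaliser. -/
noncomputable def permN (M : Mdl D g s) (n : ↥(Nm S)) (v : Fin 2048) : Fin 2048 :=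
  (D.psi_surj s ((Subgroup.mem_normalizer_iff.1 n.2 _).1 (D.psi_mem s v.val))).choose

theorem Mdl.perm_spec (M : Mdl D g s) (n : ↥(Nm S)) (v : Fin 2048) :
    (n : G) * D.psi s v.val * (n : G)⁻¹ = D.psi s (permN M n v).val :=
  (D.psi_surj s ((Subgroup.mem_normalizer_iff.1 n.2 _).1 (D.psi_mem s v.val))).choose_spec

theorem Mdl.perm_mul (M : Mdl D g s) (n m : ↥(Nm S)) (v : Fin 2048) :
    permN M (n * m) v = permN M n (permN M m v) := by
  refine D.psi_inj s ?_
  rw [← M.perm_spec, ← M.perm_spec, ← M.perm_spec, Subgroup.coe_mul]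
  group

theorem Mdl.perm_one (M : Mdl D g s) (v : Fin 2048) : permN M 1 v = v := by
  refine D.psi_inj s ?_
  rw [← M.perm_spec]
  simp

theorem Mdl.perm_bij (M : Mdl D g s) (n : ↥(Nm S)) : Function.Bijective (permN M n) :=
  Function.bijective_iff_has_inverse.2 ⟨permN M n⁻¹,
    fun v => by rw [← M.perm_mul, inv_mul_cancel, M.perm_one],
    fun v => by rw [← M.perm_mul, mul_inv_cancel, M.perm_one]⟩

theorem Mdl.perm_add (M : Mdl D g s) (n : ↥(Nm S)) (x y : Fin 2048) :
    (permN M n ⟨x.val ^^^ y.val, Nat.xor_lt_two_pow (n := 11) x.isLt y.isLt⟩).val =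
      (permN M n x).val ^^^ (permN M n y).val := by
  have hlt : (permN M n x).val ^^^ (permN M n y).val < 2048 :=
    Nat.xor_lt_two_pow (n := 11) (permN M n x).isLt (permN M n y).isLt
  refine congrArg Fin.val (D.psi_inj s (v' := ⟨_, hlt⟩) ?_)
  rw [← M.perm_spec, D.psi_xor M.good s x.isLt y.isLt, D.psi_xor M.good s (permN M n x).isLt (permN M n y).isLt,
    ← M.perm_spec, ← M.perm_spec]
  group

theorem Mdl.perm_z (M : Mdl D g s) (n : ↥(Nm S)) (v : Fin 2048) :
    zTab.testBit (permN M n v).val = zTab.testBit v.val := by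
  have hc : IsConj (D.psi s v.val) (D.psi s (permN M n v).val) := isConj_iff.2 ⟨n, M.perm_spec n v⟩
  rw [Bool.eq_iff_iff, ← M.conj_iff _ (permN M n v).isLt, ← M.conj_iff _ v.isLt]
  exact ⟨fun h => h.trans hc.symm, fun h => h.trans hc⟩

/-- The transposed action on masks. -/
noncomputable def maskN (M : Mdl D g s) (n : ↥(Nm S)) (m : ℕ) : ℕ :=
  mkMask fun v => chi m (permN M n⁻¹ ⟨v % 2048, Nat.mod_lt _ (by norm_num)⟩).val

theorem Mdl.mask_spec (M : Mdl D g s) (n : ↥(Nm S)) (m : ℕ) (v : Fin 2048) :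
    chi (maskN M n m) v.val = chi m (permN M n⁻¹ v).val := by
  rw [maskN, chi_mask _ (fun x y hx hy => ?_) v.isLt]
  · simp only [Nat.mod_eq_of_lt v.isLt]
  · have hxy : x ^^^ y < 2048 := Nat.xor_lt_two_pow (n := 11) hx hy
    simp only [Nat.mod_eq_of_lt hx, Nat.mod_eq_of_lt hy, Nat.mod_eq_of_lt hxy]
    rw [M.perm_add n⁻¹ ⟨x, hx⟩ ⟨y, hy⟩, chi_xor]

theorem maskN_lt (M : Mdl D g s) (n : ↥(Nm S)) (m : ℕ) : maskN M n m < 2048 := mask_lt _

theorem Mdl.mask_wt (M : Mdl D g s) (n : ↥(Nm S)) (m : ℕ) : wt (maskN M n m) = wt m := by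
  classical
  refine Finset.card_equiv (Equiv.ofBijective _ (M.perm_bij n⁻¹)) fun v => ?_
  simp only [Finset.mem_filter, Finset.mem_univ, true_and, Equiv.ofBijective_apply, M.perm_z, M.mask_spec]

/-- The number of a vector. -/
noncomputable def numW (x : LargeFischer.W11) : Fin 2048 := (bv_surj x).choose

theorem bv_numW (x : LargeFischer.W11) : LargeFischer.bv (numW x).val = x := (bv_surj x).choose_spec

theorem numW_bv {k : ℕ} (hk : k < 2048) : (numW (LargeFischer.bv k)).val = k :=
  LargeFischer.bv_inj (numW _).isLt hk (bv_numW _)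

theorem numW_add (x y : LargeFischer.W11) : (numW (x + y)).val = (numW x).val ^^^ (numW y).val :=
  LargeFischer.bv_inj (numW _).isLt (Nat.xor_lt_two_pow (n := 11) (numW x).isLt (numW y).isLt)
    (by rw [LargeFischer.bv_xor, bv_numW, bv_numW, bv_numW])

/-- The induced map of the cocode. -/
noncomputable def tauN (M : Mdl D g s) (n : ↥(Nm S)) : LargeFischer.W11 →+ LargeFischer.W11 :=
  AddMonoidHom.mk' (fun x => LargeFischer.bv (appL dInv (maskN M n (appL dMap (numW x).val)))) fun x y => by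
    rw [← LargeFischer.bv_xor, ← appL_xor, numW_add, appL_xor]
    congr 2
    refine mask_ext (maskN_lt M _ _) (Nat.xor_lt_two_pow (n := 11) (maskN_lt M _ _) (maskN_lt M _ _)) fun v hv => ?_
    rw [chi_xor_left, show v = (⟨v, hv⟩ : Fin 2048).val from rfl, M.mask_spec, M.mask_spec, M.mask_spec, chi_xor_left]

theorem Mdl.tau_apply (M : Mdl D g s) (n : ↥(Nm S)) (x : LargeFischer.W11) :
    tauN M n x = LargeFischer.bv (appL dInv (maskN M n (appL dMap (numW x).val))) := rfl

theorem Mdl.tau_mul (M : Mdl D g s) (n m : ↥(Nm S)) (x : LargeFischer.W11) :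
    tauN M (n * m) x = tauN M n (tauN M m x) := by
  rw [M.tau_apply, M.tau_apply n, M.tau_apply m, numW_bv (appL_lt map_lt.2.1 _),
    (map_inv (maskN_lt M _ _)).2]
  congr 2
  refine mask_ext (maskN_lt M _ _) (maskN_lt M _ _) fun v hv => ?_
  rw [show v = (⟨v, hv⟩ : Fin 2048).val from rfl, M.mask_spec, M.mask_spec, M.mask_spec, mul_inv_rev, M.perm_mul]

theorem Mdl.tau_one (M : Mdl D g s) (x : LargeFischer.W11) : tauN M 1 x = x := by
  have hd : appL dMap (numW x).val < 2048 := appL_lt map_lt.1 _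
  rw [M.tau_apply, show maskN M 1 (appL dMap (numW x).val) = appL dMap (numW x).val from
    mask_ext (maskN_lt M _ _) hd fun v hv => by
      rw [show v = (⟨v, hv⟩ : Fin 2048).val from rfl, M.mask_spec, inv_one, M.perm_one],
    (map_inv (numW x).isLt).1, bv_numW]

theorem Mdl.tau_inj (M : Mdl D g s) (n : ↥(Nm S)) : Function.Injective (tauN M n) :=
  Function.LeftInverse.injective (g := tauN M n⁻¹) fun x => by
    rw [← M.tau_mul, inv_mul_cancel, M.tau_one]

theorem Mdl.tau_duad (M : Mdl D g s) (n : ↥(Nm S)) (i j : GolayPt) (h : i ≠ j) :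
    LargeFischer.IsDuad (tauN M n (LargeFischer.pt i + LargeFischer.pt j)) := by
  have hz := fun n v (hv : v < 2048) => M.zinv n hv
  have hd : LargeFischer.IsDuad (LargeFischer.bv (numW (LargeFischer.pt i + LargeFischer.pt j)).val) := by
    rw [bv_numW]; exact ⟨i, j, h, rfl⟩
  rw [wt_duad hz (numW _).isLt] at hd
  rw [M.tau_apply, wt_duad hz (appL_lt map_lt.2.1 _), (map_inv (maskN_lt M _ _)).2, M.mask_wt, hd]

/-- The permutation of the points. -/
noncomputable def piN (M : Mdl D g s) (n : ↥(Nm S)) : Equiv.Perm GolayPt :=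
  (LargeFischer.exists_perm (M.tau_inj n) (M.tau_duad n)).choose

theorem Mdl.pi_mem (M : Mdl D g s) (n : ↥(Nm S)) : piN M n ∈ Cfsg.M24 :=
  (LargeFischer.exists_perm (M.tau_inj n) (M.tau_duad n)).choose_spec.1

theorem Mdl.pi_spec (M : Mdl D g s) (n : ↥(Nm S)) (i j : GolayPt) :
    tauN M n (LargeFischer.pt i + LargeFischer.pt j) =
      LargeFischer.pt (piN M n i) + LargeFischer.pt (piN M n j) :=
  (LargeFischer.exists_perm (M.tau_inj n) (M.tau_duad n)).choose_spec.2 i j

/-- The homomorphism to the automorphism group of the code. -/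
noncomputable def homN (M : Mdl D g s) : ↥(Nm S) →* ↥Cfsg.M24 :=
  MonoidHom.mk' (fun n => ⟨piN M n, M.pi_mem n⟩) fun n m => Subtype.ext <|
    LargeFischer.perm_unique fun i j => by
      show _ = LargeFischer.pt ((piN M n * piN M m) i) + LargeFischer.pt ((piN M n * piN M m) j)
      rw [← M.pi_spec, M.tau_mul, M.pi_spec, M.pi_spec]
      rfl

theorem Mdl.hom_ker (M : Mdl D g s) : (homN M).ker = (Au S).subgroupOf (Nm S) := by
  ext n
  rw [MonoidHom.mem_ker, Subgroup.mem_subgroupOf]
  constructor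
  · intro h
    have hp : piN M n = 1 := congrArg Subtype.val h
    have ht : ∀ x, tauN M n x = x := by
      intro x
      have := LargeFischer.span_duads (K := (tauN M n).eqLocus (AddMonoidHom.id _)) (fun i => by
        show tauN M n _ = _
        rw [M.pi_spec, hp]
        rfl) x
      exact this
    have hm : ∀ m, m < 2048 → maskN M n m = m := fun m hm => by
      have h1 := ht (LargeFischer.bv (appL dInv m))
      rw [M.tau_apply, numW_bv (appL_lt map_lt.2.1 _), (map_inv hm).2] at h1
      have h2 := LargeFischer.bv_inj (appL_lt map_lt.2.1 _) (appL_lt map_lt.2.1 _) h1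
      rw [← (map_inv (maskN_lt M _ _)).2, h2, (map_inv hm).2]
    have hfix : ∀ v, permN M n⁻¹ v = v := fun v => Fin.ext <| point_ext (permN M n⁻¹ v).isLt v.isLt fun m hlt => by
      rw [← M.mask_spec, hm m hlt]
    have hcent : ((n⁻¹ : ↥(Nm S)) : G) ∈ Au S := by
      refine Subgroup.mem_centralizer_iff.2 fun a ha => ?_
      have haA : a ∈ Au S := Subgroup.mem_centralizer_iff.2 fun b hb => Uset_comm hb ha
      obtain ⟨v, rfl⟩ := D.psi_surj s haA
      have h1 := M.perm_spec n⁻¹ v
      rw [hfix] at h1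
      exact (mul_inv_eq_iff_eq_mul.1 h1).symm
    rw [Subgroup.coe_inv] at hcent
    exact inv_mem_iff.1 hcent
  · intro h
    refine Subtype.ext (LargeFischer.perm_unique fun i j => ?_)
    show LargeFischer.pt (piN M n i) + LargeFischer.pt (piN M n j) = _
    rw [← M.pi_spec, M.tau_apply]
    have hd : appL dMap (numW (LargeFischer.pt i + LargeFischer.pt j)).val < 2048 := appL_lt map_lt.1 _
    rw [show maskN M n (appL dMap (numW (LargeFischer.pt i + LargeFischer.pt j)).val) =
        appL dMap (numW (LargeFischer.pt i + LargeFischer.pt j)).val from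
      mask_ext (maskN_lt M _ _) hd fun v hv => by
        rw [show v = (⟨v, hv⟩ : Fin 2048).val from rfl, M.mask_spec]
        congr 1
        refine congrArg Fin.val (D.psi_inj s ?_)
        rw [← M.perm_spec, Subgroup.coe_inv, inv_inv, D.Au_comm M.good (inv_mem h) (D.psi_mem s v)]
        group,
      (map_inv (numW _).isLt).1, bv_numW]
    rfl

theorem Mdl.normal (M : Mdl D g s) : ((Au S).subgroupOf (Nm S)).Normal := by
  rw [← M.hom_ker]; infer_instance

theorem Mdl.hom_surj (M : Mdl D g s) : Function.Surjective (homN M) := by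
  rw [← MonoidHom.range_eq_top]
  refine Subgroup.eq_top_of_card_eq _ (le_antisymm (Subgroup.card_le_card_group _) ?_)
  have h1 := (homN M).ker.card_mul_index
  rw [Subgroup.index_ker, M.hom_ker,
    Nat.card_congr (Subgroup.subgroupOfEquivOfLe (Subgroup.le_normalizer (H := Au S))).toEquiv, D.card_Au] at h1
  have h2 := M.card_ge
  rw [Compute.card_m24]
  omega

theorem Mdl.quotient_iso (M : Mdl D g s) :
    ∃ _ : ((Au S).subgroupOf (Nm S)).Normal, Nonempty (↥(Nm S) ⧸ (Au S).subgroupOf (Nm S) ≃* ↥Cfsg.M24) := by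
  refine ⟨M.normal, ?_⟩
  have hn := M.normal
  exact ⟨(QuotientGroup.quotientMulEquivOfEq M.hom_ker.symm).trans
    (QuotientGroup.quotientKerEquivOfSurjective _ M.hom_surj)⟩

theorem Mdl.card_Nm (M : Mdl D g s) : Nat.card ↥(Nm S) = 2048 * 244823040 := by
  have h1 := (homN M).ker.card_mul_index
  rw [Subgroup.index_ker, MonoidHom.range_eq_top.2 M.hom_surj, Subgroup.card_top, M.hom_ker,
    Nat.card_congr (Subgroup.subgroupOfEquivOfLe (Subgroup.le_normalizer (H := Au S))).toEquiv, D.card_Au,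
    Compute.card_m24] at h1
  exact h1.symm

end Cfsg.Agent.CoOneGolay
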