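import Cfsg.Agent.CoOneType.Main

/-!
Lifts of the eight coordinate vectors, and the canonical lifts of the lines they span.
-/

set_option autoImplicit false

open Cfsg Cfsg.Agent.ThreeTrans.OrthCohom Cfsg.Agent.Classical.Quad QuadraticMap Cfsg.Agent.LargeExtra
open Cfsg.Agent.CoOneType Cfsg.Agent.CoOneType.CoOne

namespace Cfsg.Agent.CoOneGolay

/-- The eight coordinate vectors. -/
abbrev un (i : Fin 8) : V := dc (2 ^ i.val)

/-- The transvection of the line through `p` and `v`. -/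
noncomputable def tl (p v y : V) : V := y + Bp y v • p + Bp y p • (v + qP 4 v • p)

theorem ne4 : ∀ {i j : Fin 8}, j ≠ i + 4 → i ≠ j + 4 := by decide

theorem add44 : ∀ j : Fin 8, j = j + 4 + 4 := by decide

theorem ne4' : ∀ {i j : Fin 8}, i ≠ j → i ≠ j + 4 + 4 ∧ j + 4 ≠ i + 4 := by decide

theorem un_code : ∀ i : Fin 8, 2 ^ i.val < 256 ∧ qn (2 ^ i.val) = false ∧
    ∀ j : Fin 8, Bn (2 ^ i.val) (2 ^ j.val) = decide (j = i + 4) := by decide +kernel

theorem q_un (i : Fin 8) : qP 4 (un i) = 0 := by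
  rw [q_dc (un_code i).1, (un_code i).2.1]; rfl

theorem B_un (i j : Fin 8) : Bp (un i) (un j) = bz (decide (j = i + 4)) := by
  rw [Bp_dc (un_code i).1 (un_code j).1, (un_code i).2.2 j]

theorem B_un_zero {i j : Fin 8} (h : j ≠ i + 4) : Bp (un i) (un j) = 0 := by
  rw [B_un, decide_eq_false h]; rfl

theorem un_ne {i : Fin 8} : un i ≠ 0 := fun e => by
  have h := dc_inj (un_code i).1 (by norm_num) (e.trans dc_zero.symm)
  exact absurd h (pow_pos (by norm_num) _).ne'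

theorem un_inj {i j : Fin 8} (e : un i = un j) : i = j :=
  Fin.ext (Nat.pow_right_injective (le_refl 2) (dc_inj (un_code i).1 (un_code j).1 e))

theorem perp2_code : ∀ i j : Fin 8, ∀ d : Fin 256,
    (∀ l : Fin 8, l ≠ i + 4 → l ≠ j + 4 → Bn (2 ^ l.val) d.val = false) →
    d.val = 0 ∨ d.val = 2 ^ i.val ∨ d.val = 2 ^ j.val ∨ d.val = 2 ^ i.val ^^^ 2 ^ j.val := by
  decide +kernel

/-- The perpendicular space of the vectors perpendicular to two coordinate vectors. -/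
theorem perp2 {i j : Fin 8} {d : V}
    (h : ∀ l : Fin 8, l ≠ i + 4 → l ≠ j + 4 → Bp (un l) d = 0) :
    d = 0 ∨ d = un i ∨ d = un j ∨ d = un i + un j := by
  rcases perp2_code i j (cd d) (fun l h1 h2 => by
      rw [← bz_eq_zero, ← Bp_dc (un_code l).1 (cd d).isLt, dc_cd]; exact h l h1 h2)
    with e | e | e | e <;> rw [← dc_cd d, e]
  · exact Or.inl dc_zero
  · exact Or.inr (Or.inl rfl)
  · exact Or.inr (Or.inr (Or.inl rfl))
  · exact Or.inr (Or.inr (Or.inr (dc_xor _ _)))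

theorem tl_map (g : O) (p v y : V) : g.1 (tl p v y) = tl (g.1 p) (g.1 v) (g.1 y) := by
  simp only [tl, map_add, map_smul, polar_g, g.2 v]

theorem tl_swap {p v : V} (hp : qP 4 p = 0) (hv : qP 4 v = 0) (y : V) : tl p v y = tl v p y := by
  simp only [tl, hp, hv, zero_smul, add_zero]
  abel

variable {G : Type*} [Group G] [Finite G] {z : G}

/-- Lifts of the coordinate vectors. -/
structure Frm (S : CoOne z) (w : G) : Type _ where
  F : S.Fr w
  E : Fin 8 → G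
  E_mem : ∀ i, E i ∈ oc z
  E_pr : ∀ i, S.pr (E i) = un i
  E_conj : ∀ i, ∃ c : G, c * z = z * c ∧ c * w * c⁻¹ = E i
  E_zero : E 0 = w

variable {S : CoOne z} {w : G}

/-- An element of `oc z` above a singular vector is conjugate to `w` inside the centraliser. -/
theorem exists_carry (F : S.Fr w) {a : G} (ha : a ∈ oc z) (h0 : S.pr a ≠ 0) (hq : qP 4 (S.pr a) = 0) :
    ∃ c : G, c * z = z * c ∧ c * w * c⁻¹ = a := by
  obtain ⟨r, hr, hre⟩ := move_e h0 hq
  obtain ⟨c, hc, rfl⟩ := S.act_surj r hr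
  have hci := (Commute.inv_left hc).eq
  have hm : c * a * c⁻¹ ∈ oc z := S.nrm hc ha
  have hp : S.pr (c * a * c⁻¹) = dc 1 := by rw [S.act_spec c hc a ha, hre]
  rcases S.pr_eq F.mem hm (F.pr_eq.trans hp.symm) with e | e
  · exact ⟨c⁻¹, hci, by rw [← e]; group⟩
  · obtain ⟨y, hy, hye⟩ := S.pr_surj (dc 16)
    have hyw := k_conj_y F hy (by rw [hye, B16e])
    refine ⟨c⁻¹ * y, (Commute.mul_left hci (S.comm hy)).eq, ?_⟩
    calc c⁻¹ * y * w * (c⁻¹ * y)⁻¹ = c⁻¹ * (y * w * y⁻¹) * c := by group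
      _ = a := by rw [hyw, ← e]; group

theorem exists_frm (F : S.Fr w) : Nonempty (Frm S w) := by
  classical
  choose a ha hae using fun i : Fin 8 => S.pr_surj (un i)
  refine ⟨⟨F, fun i => if i = 0 then w else a i, fun i => ?_, fun i => ?_, fun i => ?_, if_pos rfl⟩⟩
  · split_ifs
    exacts [F.mem, ha i]
  · split_ifs with h
    · rw [F.pr_eq, h]; rfl
    · exact hae i
  · split_ifs
    · exact ⟨1, by rw [one_mul, mul_one], by group⟩
    · exact exists_carry F (ha i) (by rw [hae]; exact un_ne) (by rw [hae]; exact q_un i)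

namespace Frm

variable (D : Frm S w)
include D

theorem E_sq (i : Fin 8) : D.E i * D.E i = 1 := by
  rw [S.pr_sq _ (D.E_mem i), D.E_pr, q_un, zp_zero]

theorem E_comm {i j : Fin 8} (h : j ≠ i + 4) : D.E i * D.E j = D.E j * D.E i :=
  (S.commute_iff (D.E_mem i) (D.E_mem j)).2 (by rw [D.E_pr, D.E_pr, B_un_zero h])

theorem E_z (i : Fin 8) : D.E i * z = z * D.E i := S.comm (D.E_mem i)

theorem act_base {i : Fin 8} {c : G} (hc : c * z = z * c) (hcw : c * w * c⁻¹ = D.E i) :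
    (S.act c).1 (dc 1) = un i := by
  rw [← D.F.pr_eq, ← S.act_spec c hc w D.F.mem, hcw, D.E_pr]

theorem carry (i : Fin 8) : ∃ c : G, c * z = z * c ∧ c * w * c⁻¹ = D.E i ∧ (S.act c).1 (dc 1) = un i := by
  obtain ⟨c, h1, h2⟩ := D.E_conj i
  exact ⟨c, h1, h2, D.act_base h1 h2⟩

theorem z_mem (i : Fin 8) : z ∈ oc (D.E i) := by
  obtain ⟨c, h1, h2, -⟩ := D.carry i
  have := conj_mem_oc (g := c) (zmem_oc D.F)
  rwa [h2, h1, mul_inv_cancel_right] at this

theorem self_mem (i : Fin 8) : D.E i ∈ oc (D.E i) := by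
  obtain ⟨c, -, h2, -⟩ := D.carry i
  have := conj_mem_oc (g := c) (mem_oc_self (wset D.F).ord)
  rwa [h2] at this

theorem comm_at {i : Fin 8} {x : G} (hx : x ∈ oc (D.E i)) : x * D.E i = D.E i * x :=
  Subgroup.mem_centralizer_singleton_iff.1 (oc_le _ hx)

theorem inter_at {i : Fin 8} {k : G} (hk : k ∈ oc z) (hk' : k ∈ oc (D.E i)) :
    k = 1 ∨ k = z ∨ k = D.E i ∨ k = D.E i * z := by
  obtain ⟨c, h1, h2, -⟩ := D.carry i
  have hci := (Commute.inv_left h1).eq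
  have h3 : c⁻¹ * k * c ∈ oc z := by
    have := S.nrm hci hk
    rwa [inv_inv] at this
  have h4 : c⁻¹ * k * c ∈ oc w := by
    have := conj_mem_oc (g := c⁻¹) hk'
    rwa [show c⁻¹ * D.E i * c⁻¹⁻¹ = w by rw [← h2]; group, inv_inv] at this
  have hk2 : k = c * (c⁻¹ * k * c) * c⁻¹ := by group
  rcases inter D.F h3 h4 with e | e | e | e <;> rw [hk2, e]
  · exact Or.inl (by group)
  · exact Or.inr (Or.inl (by rw [h1, mul_inv_cancel_right]))
  · exact Or.inr (Or.inr (Or.inl h2))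
  · exact Or.inr (Or.inr (Or.inr (by
      calc c * (w * z) * c⁻¹ = c * w * c⁻¹ * (c * z * c⁻¹) := by group
        _ = D.E i * z := by rw [h2, h1, mul_inv_cancel_right])))

/-- An element of `oc (E i)` realising a transvection, seen in the standard frame. -/
theorem pull {i : Fin 8} {c x : G} {v : V} (hc : c * z = z * c) (hcw : c * w * c⁻¹ = D.E i)
    (hv : Bp v (un i) = 0) (hx : x ∈ oc (D.E i)) (hxz : x * z = z * x)
    (hact : ∀ y, (S.act x).1 y = tl (un i) v y) :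
    c⁻¹ * x * c ∈ oc w ∧ c⁻¹ * x * c * z = z * (c⁻¹ * x * c) ∧
      Bp ((S.act c)⁻¹.1 v) (dc 1) = 0 ∧
      ∀ y, (S.act (c⁻¹ * x * c)).1 y = sg ((S.act c)⁻¹.1 v) y := by
  have hci := (Commute.inv_left hc).eq
  have hce := D.act_base hc hcw
  have hinv : (S.act c)⁻¹.1 (un i) = dc 1 := by rw [← hce, oG_inv_apply]
  refine ⟨?_, ?_, ?_, fun y => ?_⟩
  · have := conj_mem_oc (g := c⁻¹) hx
    rwa [show c⁻¹ * D.E i * c⁻¹⁻¹ = w by rw [← hcw]; group, inv_inv] at this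
  · exact (Commute.mul_left (Commute.mul_left hci hxz) hc).eq
  · rw [← polar_g (S.act c), oG_apply_inv, hce, hv]
  · rw [S.act_mul (Commute.mul_left hci hxz).eq hc, S.act_mul hci hxz, S.act_inv hc, oG_mul_apply,
      oG_mul_apply, hact, tl_map, hinv, oG_inv_apply]
    rfl

theorem sq_at {i : Fin 8} {x : G} {v : V} (hv : Bp v (un i) = 0) (hx : x ∈ oc (D.E i))
    (hxz : x * z = z * x) (hact : ∀ y, (S.act x).1 y = tl (un i) v y) :
    x * x = zp (D.E i) (qP 4 v) := by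
  obtain ⟨c, hc, hcw, -⟩ := D.carry i
  obtain ⟨h1, h2, h3, h4⟩ := D.pull hc hcw hv hx hxz hact
  have e := sq_X D.F h1 h2 h3 h4
  rw [((S.act c)⁻¹).2 v] at e
  have hx2 : x * x = c * (c⁻¹ * x * c * (c⁻¹ * x * c)) * c⁻¹ := by group
  rw [hx2, e]
  rcases zmod_cases (qP 4 v) with r | r <;> rw [r]
  · rw [zp_zero, zp_zero]; group
  · rw [zp_one, zp_one, hcw]

theorem mix_at {i : Fin 8} {x b : G} {v : V} (hv : Bp v (un i) = 0) (hx : x ∈ oc (D.E i))
    (hxz : x * z = z * x) (hact : ∀ y, (S.act x).1 y = tl (un i) v y) (hb : b ∈ oc z)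
    (hbp : Bp (S.pr b) (un i) = 0) :
    b * x * b⁻¹ * x⁻¹ = zp (D.E i) (Bp (S.pr b) v) * zp z (Bp (S.pr b) v) := by
  obtain ⟨c, hc, hcw, -⟩ := D.carry i
  obtain ⟨h1, h2, h3, h4⟩ := D.pull hc hcw hv hx hxz hact
  have hci := (Commute.inv_left hc).eq
  have hbm : c⁻¹ * b * c ∈ oc z := by
    have := S.nrm hci hb
    rwa [inv_inv] at this
  have hbpr : S.pr (c⁻¹ * b * c) = (S.act c)⁻¹.1 (S.pr b) := by
    rw [show c⁻¹ * b * c = c⁻¹ * b * c⁻¹⁻¹ by rw [inv_inv], S.act_spec _ hci b hb, S.act_inv hc]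
  have hinv : (S.act c)⁻¹.1 (un i) = dc 1 := by rw [← D.act_base hc hcw, oG_inv_apply]
  have e := mix D.F hbm (by rw [hbpr, ← hinv, polar_g, hbp]) h1 h2 h3 h4
  rw [hbpr, polar_g] at e
  have hb2 : b * x * b⁻¹ * x⁻¹ =
      c * (c⁻¹ * b * c * (c⁻¹ * x * c) * (c⁻¹ * b * c)⁻¹ * (c⁻¹ * x * c)⁻¹) * c⁻¹ := by group
  rw [hb2, e]
  rcases zmod_cases (Bp (S.pr b) v) with r | r <;> rw [r]
  · rw [zp_zero, zp_zero, zp_zero]; group
  · rw [zp_one, zp_one, zp_one, ← hcw, show c * (w * z) * c⁻¹ = c * w * c⁻¹ * (c * z * c⁻¹) by group,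
      mul_inv_eq_of_eq_mul hc]

theorem perp_comm_at {i : Fin 8} {x b : G} {v : V} (hv : Bp v (un i) = 0) (hx : x ∈ oc (D.E i))
    (hxz : x * z = z * x) (hact : ∀ y, (S.act x).1 y = tl (un i) v y) (hb : b ∈ oc z)
    (hbp : Bp (S.pr b) (un i) = 0) (hbv : Bp (S.pr b) v = 0) : b * x = x * b := by
  have e := D.mix_at hv hx hxz hact hb hbp
  rw [hbv, zp_zero, zp_zero, one_mul] at e
  exact mul_inv_eq_iff_eq_mul.1 (mul_inv_eq_one.1 e)

theorem exists_at {i : Fin 8} {v : V} (hv : Bp v (un i) = 0) :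
    ∃ x, x ∈ oc (D.E i) ∧ x * z = z * x ∧ ∀ y, (S.act x).1 y = tl (un i) v y := by
  obtain ⟨c, hc, hcw, hce⟩ := D.carry i
  obtain ⟨b, hb, hbz, hbu⟩ := exists_sg D.F (v := (S.act c)⁻¹.1 v)
    (by rw [← polar_g (S.act c), oG_apply_inv, hce, hv])
  have hci := (Commute.inv_left hc).eq
  refine ⟨c * b * c⁻¹, ?_, (Commute.mul_left (Commute.mul_left hc hbz) hci).eq, fun y => ?_⟩
  · have := conj_mem_oc (g := c) hb
    rwa [hcw] at this
  · obtain ⟨u, rfl⟩ := (S.act c).1.surjective y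
    rw [(conj_facts (S := S) hc hbz).2, oG_mul_apply, oG_mul_apply, oG_inv_apply, hbu,
      show sg ((S.act c)⁻¹.1 v) u = tl (dc 1) ((S.act c)⁻¹.1 v) u from rfl, tl_map, hce, oG_apply_inv]

/-- Two elements of one frame: the commutator. -/
theorem comm_two {i : Fin 8} {x x' : G} {v v' : V} (hv : Bp v (un i) = 0) (hv' : Bp v' (un i) = 0)
    (hq : qP 4 v = 0) (hq' : qP 4 v' = 0)
    (hx : x ∈ oc (D.E i)) (hxz : x * z = z * x) (hact : ∀ y, (S.act x).1 y = tl (un i) v y)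
    (hx' : x' ∈ oc (D.E i)) (hxz' : x' * z = z * x') (hact' : ∀ y, (S.act x').1 y = tl (un i) v' y) :
    x * x' = zp (D.E i) (Bp v v') * (x' * x) := by
  obtain ⟨c, hc, hcw, hce⟩ := D.carry i
  obtain ⟨-, -, h3, -⟩ := D.pull hc hcw hv hx hxz hact
  obtain ⟨-, -, h3', -⟩ := D.pull hc hcw hv' hx' hxz' hact'
  have hpact : ∀ y, (S.act (x * x')).1 y = tl (un i) (v + v') y := fun y => by
    obtain ⟨u, rfl⟩ := (S.act c).1.surjective y
    have key : ∀ t r : V, tl (un i) t ((S.act c).1 r) = (S.act c).1 (sg ((S.act c)⁻¹.1 t) r) :=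
      fun t r => by
        rw [show sg ((S.act c)⁻¹.1 t) r = tl (dc 1) ((S.act c)⁻¹.1 t) r from rfl, tl_map, hce,
          oG_apply_inv]
    rw [S.act_mul hxz hxz', oG_mul_apply, hact', hact, key, key, key, sg_comp h3 h3', map_add]
  have e := D.sq_at (by rw [Bp_add_left, hv, hv', add_zero]) (mul_mem hx hx')
    (Commute.mul_left hxz hxz').eq hpact
  rw [q_add, hq, hq', zero_add, zero_add] at e
  have s1 : x * x = 1 := by rw [D.sq_at hv hx hxz hact, hq, zp_zero]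
  have s2 : x' * x' = 1 := by rw [D.sq_at hv' hx' hxz' hact', hq', zp_zero]
  calc x * x' = x * x' * (x * x') * (x' * x') * (x' * x) * (x' * x')⁻¹ := by
        rw [s2]; simp only [mul_one, inv_one]
        calc x * x' = x * x' * (x * (x' * x') * x) := by rw [s2, mul_one, s1, mul_one]
          _ = x * x' * (x * x') * (x' * x) := by group
    _ = zp (D.E i) (Bp v v') * (x' * x) := by rw [e, s2]; group

/-- A lift of the line through two coordinate vectors. -/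
def IsLine (i j : Fin 8) (x : G) : Prop :=
  x ∈ oc (D.E i) ∧ x ∈ oc (D.E j) ∧ x * z = z * x ∧ ∀ y, (S.act x).1 y = tl (un i) (un j) y

theorem line_symm {i j : Fin 8} {x : G} (h : D.IsLine i j x) : D.IsLine j i x :=
  ⟨h.2.1, h.1, h.2.2.1, fun y => by rw [h.2.2.2, tl_swap (q_un i) (q_un j)]⟩

theorem line_mul_z {i j : Fin 8} {x : G} (h : D.IsLine i j x) : D.IsLine i j (x * z) :=
  ⟨mul_mem h.1 (D.z_mem i), mul_mem h.2.1 (D.z_mem j), (Commute.mul_left h.2.2.1 (Commute.refl z)).eq,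
    fun y => by rw [S.act_mul h.2.2.1 rfl, S.act_inner S.zmem, mul_one, h.2.2.2]⟩

theorem exists_line {i j : Fin 8} (hij : i ≠ j) (hp : j ≠ i + 4) : ∃ x, D.IsLine i j x := by
  have hji : i ≠ j + 4 := ne4 hp
  have hB : Bp (un j) (un i) = 0 := B_un_zero hji
  have hB' : Bp (un i) (un j) = 0 := B_un_zero hp
  obtain ⟨x, hx, hxz, hxa⟩ := D.exists_at hB
  obtain ⟨x', hx', hxz', hxa'⟩ := D.exists_at hB'
  have hxi := (Commute.inv_left hxz).eq
  have hkz : x⁻¹ * x' * z = z * (x⁻¹ * x') := (Commute.mul_left hxi hxz').eq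
  have hk : x⁻¹ * x' ∈ oc z := S.act_ker _ hkz (ext_oG fun y => by
    rw [S.act_mul hxi hxz', S.act_inv hxz, oG_mul_apply, hxa', oG_one_apply,
      tl_swap (q_un j) (q_un i), ← hxa, oG_inv_apply])
  have hperp : ∀ l : Fin 8, l ≠ i + 4 → l ≠ j + 4 → Bp (un l) (S.pr (x⁻¹ * x')) = 0 := by
    intro l hl hl'
    have hli : Bp (un l) (un i) = 0 := B_un_zero (ne4 hl)
    have hlj : Bp (un l) (un j) = 0 := B_un_zero (ne4 hl')
    have c1 := D.perp_comm_at hB hx hxz hxa (D.E_mem l) (by rw [D.E_pr]; exact hli)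
      (by rw [D.E_pr]; exact hlj)
    have c2 := D.perp_comm_at hB' hx' hxz' hxa' (D.E_mem l) (by rw [D.E_pr]; exact hlj)
      (by rw [D.E_pr]; exact hli)
    have := (S.commute_iff (D.E_mem l) hk).1 (Commute.mul_right (Commute.inv_right c1) c2).eq
    rwa [D.E_pr] at this
  have hEz : ∀ t : ZMod 2, zp z t ∈ oc (D.E i) := fun t => by
    rcases zmod_cases t with rfl | rfl
    · rw [zp_zero]; exact one_mem _
    · rw [zp_one]; exact D.z_mem i
  have hact_k : ∀ {k : G}, k ∈ oc z → ∀ y, (S.act (x * k)).1 y = tl (un i) (un j) y := fun {k} hk y => by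
    rw [S.act_mul hxz (S.comm hk), S.act_inner hk, mul_one, hxa]
  suffices ∃ k, k ∈ oc z ∧ k ∈ oc (D.E i) ∧ x * k ∈ oc (D.E j) by
    obtain ⟨k, k1, k2, k3⟩ := this
    exact ⟨x * k, mul_mem hx k2, k3, (Commute.mul_left hxz (S.comm k1)).eq, hact_k k1⟩
  rcases perp2 hperp with e | e | e | e
  · refine ⟨x⁻¹ * x', hk, ?_, by rwa [mul_inv_cancel_left]⟩
    rcases S.pr_ker _ hk e with e' | e' <;> rw [e']
    exacts [one_mem _, D.z_mem i]
  · refine ⟨x⁻¹ * x', hk, ?_, by rwa [mul_inv_cancel_left]⟩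
    rcases S.pr_eq (D.E_mem i) hk ((D.E_pr i).trans e.symm) with e' | e' <;> rw [e']
    exacts [D.self_mem i, mul_mem (D.self_mem i) (D.z_mem i)]
  · obtain ⟨t, ht⟩ : ∃ t, x⁻¹ * x' = zp z t * D.E j := by
      rcases S.pr_eq (D.E_mem j) hk ((D.E_pr j).trans e.symm) with e' | e' <;> rw [e']
      · exact ⟨0, by rw [zp_zero, one_mul]⟩
      · exact ⟨1, by rw [zp_one, D.E_z]⟩
    refine ⟨zp z t, S.zp_mem t, hEz t, ?_⟩
    have e2 : x * zp z t = x' * (D.E j)⁻¹ := by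
      rw [← mul_inv_cancel_left x x', ht]; group
    rw [e2]
    exact mul_mem hx' (inv_mem (D.self_mem j))
  · obtain ⟨t, ht⟩ : ∃ t, x⁻¹ * x' = D.E i * zp z t * D.E j := by
      rcases S.pr_eq (mul_mem (D.E_mem i) (D.E_mem j)) hk
        ((by rw [S.pr_mul _ (D.E_mem i) _ (D.E_mem j), D.E_pr, D.E_pr] :
          S.pr (D.E i * D.E j) = un i + un j).trans e.symm) with e' | e' <;> rw [e']
      · exact ⟨0, by rw [zp_zero, mul_one]⟩
      · exact ⟨1, by rw [zp_one, mul_assoc, D.E_z, ← mul_assoc]⟩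
    refine ⟨D.E i * zp z t, mul_mem (D.E_mem i) (S.zp_mem t), mul_mem (D.self_mem i) (hEz t), ?_⟩
    have e2 : x * (D.E i * zp z t) = x' * (D.E j)⁻¹ := by
      rw [← mul_inv_cancel_left x x', ht]; group
    rw [e2]
    exact mul_mem hx' (inv_mem (D.self_mem j))

/-- Line lifts are determined modulo `z`. -/
theorem line_unique {i j : Fin 8} (hij : i ≠ j) {x y : G} (hx : D.IsLine i j x) (hy : D.IsLine i j y) :
    y = x ∨ y = x * z := by
  obtain ⟨x1, x2, x3, x4⟩ := hx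
  obtain ⟨y1, y2, y3, y4⟩ := hy
  have hxi := (Commute.inv_left x3).eq
  have hk : x⁻¹ * y ∈ oc z := S.act_ker _ (Commute.mul_left hxi y3).eq (ext_oG fun u => by
    rw [S.act_mul hxi y3, S.act_inv x3, oG_mul_apply, y4, oG_one_apply, ← x4, oG_inv_apply])
  have hcases : x⁻¹ * y = 1 ∨ x⁻¹ * y = z := by
    have hp : ∀ l : Fin 8, x⁻¹ * y ∈ oc (D.E l) → S.pr (x⁻¹ * y) = 0 ∨ S.pr (x⁻¹ * y) = un l := fun l hl => by
      rcases D.inter_at hk hl with e | e | e | e <;> rw [e]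
      · exact Or.inl S.pr_one
      · exact Or.inl S.pr_z
      · exact Or.inr (D.E_pr l)
      · exact Or.inr (by rw [S.pr_mul _ (D.E_mem l) _ S.zmem, S.pr_z, D.E_pr, add_zero])
    refine S.pr_ker _ hk ?_
    rcases hp i (mul_mem (inv_mem x1) y1) with e | e
    · exact e
    rcases hp j (mul_mem (inv_mem x2) y2) with e' | e'
    · exact e'
    · exact absurd (un_inj (e.symm.trans e')) hij
  rcases hcases with e | e
  · exact Or.inl (inv_mul_eq_one.1 e).symm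
  · exact Or.inr (inv_mul_eq_iff_eq_mul.1 e)

theorem line_sq {i j : Fin 8} (hp : j ≠ i + 4) {x : G} (h : D.IsLine i j x) : x * x = 1 := by
  rw [D.sq_at (B_un_zero (ne4 hp)) h.1 h.2.2.1 h.2.2.2, q_un, zp_zero]

theorem line_E {i j l : Fin 8} (hp : j ≠ i + 4) (h1 : l ≠ i + 4) (h2 : l ≠ j + 4) {x : G}
    (h : D.IsLine i j x) : D.E l * x = x * D.E l :=
  D.perp_comm_at (B_un_zero (ne4 hp)) h.1 h.2.2.1 h.2.2.2 (D.E_mem l)
    (by rw [D.E_pr]; exact B_un_zero (ne4 h1))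
    (by rw [D.E_pr]; exact B_un_zero (ne4 h2))

/-- Moving the lift of a partner. -/
theorem line_move {i j : Fin 8} (hij : i ≠ j) (hp : j ≠ i + 4) {x : G} (h : D.IsLine i j x) :
    D.E (j + 4) * x * (D.E (j + 4))⁻¹ = D.E i * z * x ∧
      x * D.E (j + 4) * x⁻¹ = D.E i * z * D.E (j + 4) := by
  have e := D.mix_at (B_un_zero (ne4 hp)) h.1 h.2.2.1 h.2.2.2 (D.E_mem (j + 4))
    (by rw [D.E_pr]; exact B_un_zero (ne4' hij).1)
  rw [D.E_pr, B_un, decide_eq_true (add44 j), show bz true = 1 from rfl,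
    zp_one, zp_one] at e
  refine ⟨mul_inv_eq_iff_eq_mul.1 e, ?_⟩
  have hk : (D.E i * z)⁻¹ = D.E i * z := inv_eq_of_mul_eq_one_right (by
    calc D.E i * z * (D.E i * z) = D.E i * (z * D.E i) * z := by group
      _ = D.E i * D.E i * (z * z) := by rw [← D.E_z]; group
      _ = 1 := by rw [D.E_sq, S.zz, one_mul])
  calc x * D.E (j + 4) * x⁻¹ = (D.E (j + 4) * x * (D.E (j + 4))⁻¹ * x⁻¹)⁻¹ * D.E (j + 4) := by group
    _ = D.E i * z * D.E (j + 4) := by rw [e, hk]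

/-- Lines through a common coordinate vector commute when perpendicular. -/
theorem line_comm {i j k : Fin 8} (hj : j ≠ i + 4) (hk : k ≠ i + 4) (hjk : k ≠ j + 4) {x y : G}
    (hx : D.IsLine i j x) (hy : D.IsLine i k y) : x * y = y * x := by
  rw [D.comm_two (B_un_zero (ne4 hj)) (B_un_zero (ne4 hk)) (q_un j) (q_un k)
    hx.1 hx.2.2.1 hx.2.2.2 hy.1 hy.2.2.1 hy.2.2.2, B_un_zero hjk, zp_zero, one_mul]

/-- Lines through a common coordinate vector with partners as second vectors. -/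
theorem line_comm_partner {i j : Fin 8} (hj : j ≠ i + 4) (hij : i ≠ j) {x y : G}
    (hx : D.IsLine i j x) (hy : D.IsLine i (j + 4) y) : y * x * y⁻¹ = D.E i * x := by
  have e := D.comm_two (B_un_zero (ne4' hij).1) (B_un_zero (ne4 hj)) (q_un (j + 4))
    (q_un j) hy.1 hy.2.2.1 hy.2.2.2 hx.1 hx.2.2.1 hx.2.2.2
  rw [B_un, decide_eq_true (add44 j), show bz true = 1 from rfl, zp_one] at e
  rw [e]; group

end Frm

end Cfsg.Agent.CoOneGolay
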