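import Cfsg.Agent.CoOneGolay.Classes

/-!
A group of order `2^10` in the normaliser meeting the centraliser trivially.
-/

set_option autoImplicit false
set_option maxHeartbeats 1000000

open Cfsg Cfsg.Agent.ThreeTrans.OrthCohom Cfsg.Agent.Classical.Quad QuadraticMap Cfsg.Agent.LargeExtra
open Cfsg.Agent.CoOneType Cfsg.Agent.CoOneType.CoOne

namespace Cfsg.Agent.CoOneGolay

/-- One factor on codes. -/
def tf (p v : ℕ) (b : Bool) (y : ℕ) : ℕ := if b then tln p v y else y

/-- A product of the six root elements on codes. -/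
def uniAct (t : Fin 64) (y : ℕ) : ℕ :=
  tf 1 32 (t.val.testBit 0) (tf 2 64 (t.val.testBit 1) (tf 4 128 (t.val.testBit 2)
    (tf 1 64 (t.val.testBit 3) (tf 2 128 (t.val.testBit 4) (tf 1 128 (t.val.testBit 5) y)))))

theorem uni_code : ∀ t t' : Fin 64, (∀ u : Fin 16, uniAct t u.val = uniAct t' u.val) → t = t' := by
  decide +kernel

theorem four_bools : ∀ p q r s : Bool, ∃ u : Fin 16, u.val.testBit 0 = p ∧ u.val.testBit 1 = q ∧
    u.val.testBit 2 = r ∧ u.val.testBit 3 = s := by decide +kernel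

theorem tf_lt : ∀ p v : Fin 8, ∀ b : Bool, ∀ y : Fin 256, tf (2 ^ p.val) (2 ^ v.val) b y.val < 256 := by
  intro p v b y
  cases b
  exacts [y.isLt, tln_lt p v y]

theorem high_code : ∀ u : Fin 16, (∀ i : Fin 4, Bn (16 * u.val) (2 ^ i.val) = false) → u = 0 := by decide +kernel

theorem high_sum : ∀ u : Fin 16, ((((if u.val.testBit 0 then 16 else 0) ^^^ (if u.val.testBit 1 then 32 else 0)) ^^^
    (if u.val.testBit 2 then 64 else 0)) ^^^ (if u.val.testBit 3 then 128 else 0)) = 16 * u.val := by decide +kernel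

theorem idx_facts : gI 0 = 0 ∧ gJ 0 = 1 ∧ gI 1 = 1 ∧ gJ 1 = 2 ∧ gI 2 = 2 ∧ gJ 2 = 3 := by decide

theorem move_codes : (∀ y : Fin 256, (y.val = 1 → tln 2 64 y.val = 1) ∧ (y.val = 32 → tln 2 64 y.val = 96)) ∧
    (∀ y : Fin 256, (y.val = 2 → tln 4 128 y.val = 2) ∧ (y.val = 64 → tln 4 128 y.val = 192) ∧
      (y.val = 1 → tln 4 128 y.val = 1)) ∧
    (∀ y : Fin 256, (y.val = 1 → tln 2 128 y.val = 1) ∧ (y.val = 32 → tln 2 128 y.val = 160)) := by
  decide +kernel

theorem R34_code : ∀ u : Fin 16, g2n 34 136 u.val < 256 ∧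
    Bn (g2n 34 136 u.val) 1 = false ∧ Bn (g2n 34 136 u.val) 32 = false ∧
    Bn (g2n 34 136 u.val) 4 = false ∧ Bn (g2n 34 136 u.val) 128 = false := by decide +kernel

theorem R68_code : ∀ u : Fin 16, g2n 68 136 u.val < 256 ∧
    Bn (g2n 68 136 u.val) 1 = false ∧ Bn (g2n 68 136 u.val) 64 = false ∧
    Bn (g2n 68 136 u.val) 2 = false ∧ Bn (g2n 68 136 u.val) 128 = false := by decide +kernel

section abstract

variable {H : Type*} [Group H]

/-- A normal form. -/
def nfP (x y v c d e : H) (a b g h i k : Bool) : H :=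
  ex x a * ex y b * ex v g * ex c h * ex d i * ex e k

theorem ex_comm {a b : H} (h : a * b = b * a) (p : Bool) : a * ex b p = ex b p * a := by
  cases p
  · exact Commute.one_right a
  · exact h

theorem ex_not {a : H} (h : a * a = 1) (p : Bool) : a * ex a p = ex a (!p) := by
  cases p <;> simp [ex, h]

theorem ex_xor {a : H} (h : a * a = 1) (p q : Bool) : ex a p * ex a q = ex a (p != q) := by
  cases p <;> cases q <;> simp [ex, h]

variable {x y v c d e : H}

/-- The normal forms are closed under the generators. -/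
theorem nfP_step (hx : x * x = 1) (hy : y * y = 1) (hv : v * v = 1) (hc : c * c = 1) (hd : d * d = 1)
    (he : e * e = 1) (hyx : y * x = x * y * c) (hvx : v * x = x * v) (hvy : v * y = y * v * d)
    (hcy : c * y = y * c) (hcv : c * v = v * c * e) (hdv : d * v = v * d) (hcd : c * d = d * c)
    (hec : e * c = c * e) (hed : e * d = d * e) (a b g h i k : Bool) :
    (∃ a' b' g' h' i' k', x * nfP x y v c d e a b g h i k = nfP x y v c d e a' b' g' h' i' k') ∧
    (∃ a' b' g' h' i' k', y * nfP x y v c d e a b g h i k = nfP x y v c d e a' b' g' h' i' k') ∧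
    (∃ a' b' g' h' i' k', v * nfP x y v c d e a b g h i k = nfP x y v c d e a' b' g' h' i' k') := by
  refine ⟨⟨!a, b, g, h, i, k, ?_⟩, ?_, ?_⟩
  · unfold nfP
    rw [← ex_not hx a]
    group
  · refine ⟨a, !b, g, (a != h), i, ((a && g) != k), ?_⟩
    have e1 : y * ex x a = ex x a * y * ex c a := by
      cases a
      · simp [ex]
      · exact hyx
    have e2 : ex c a * ex v g = ex v g * ex c a * ex e (a && g) := by
      cases a <;> cases g <;> simp [ex, hcv]
    have e3 : ex e (a && g) * ex c h = ex c h * ex e (a && g) := by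
      cases h
      · simp [ex]
      · exact (ex_comm hec.symm _).symm
    have e4 : ex e (a && g) * ex d i = ex d i * ex e (a && g) := by
      cases i
      · simp [ex]
      · exact (ex_comm hed.symm _).symm
    have e5 : ex c a * ex y b = ex y b * ex c a := by
      cases b
      · simp [ex]
      · exact (ex_comm hcy.symm _).symm
    unfold nfP
    calc y * (ex x a * ex y b * ex v g * ex c h * ex d i * ex e k)
        = y * ex x a * (ex y b * ex v g * ex c h * ex d i * ex e k) := by group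
      _ = ex x a * y * (ex c a * ex y b) * (ex v g * ex c h * ex d i * ex e k) := by rw [e1]; group
      _ = ex x a * (y * ex y b) * (ex c a * ex v g) * (ex c h * ex d i * ex e k) := by rw [e5]; group
      _ = ex x a * ex y (!b) * ex v g * ex c a * (ex e (a && g) * ex c h) * (ex d i * ex e k) := by
        rw [e2, ex_not hy]; group
      _ = ex x a * ex y (!b) * ex v g * (ex c a * ex c h) * (ex e (a && g) * ex d i) * ex e k := by
        rw [e3]; group
      _ = ex x a * ex y (!b) * ex v g * (ex c a * ex c h) * ex d i * (ex e (a && g) * ex e k) := by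
        rw [e4]; group
      _ = _ := by rw [ex_xor hc, ex_xor he]
  · refine ⟨a, b, !g, h, (b != i), k, ?_⟩
    have e1 : v * ex x a = ex x a * v := ex_comm hvx a
    have e2 : v * ex y b = ex y b * v * ex d b := by
      cases b
      · simp [ex]
      · exact hvy
    have e3 : ex d b * ex v g = ex v g * ex d b := by
      cases g
      · simp [ex]
      · exact (ex_comm hdv.symm _).symm
    have e4 : ex d b * ex c h = ex c h * ex d b := by
      cases h
      · simp [ex]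
      · exact (ex_comm hcd _).symm
    unfold nfP
    calc v * (ex x a * ex y b * ex v g * ex c h * ex d i * ex e k)
        = v * ex x a * (ex y b * ex v g * ex c h * ex d i * ex e k) := by group
      _ = ex x a * (v * ex y b) * (ex v g * ex c h * ex d i * ex e k) := by rw [e1]; group
      _ = ex x a * ex y b * v * (ex d b * ex v g) * (ex c h * ex d i * ex e k) := by rw [e2]; group
      _ = ex x a * ex y b * (v * ex v g) * (ex d b * ex c h) * (ex d i * ex e k) := by rw [e3]; group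
      _ = ex x a * ex y b * ex v (!g) * ex c h * (ex d b * ex d i) * ex e k := by rw [e4, ex_not hv]; group
      _ = _ := by rw [ex_xor hd]

end abstract

variable {G : Type*} [Group G] [Finite G] {z : G} {S : CoOne z} {w : G}

namespace Frm

variable (D : Frm S w)
include D

/-- The adjusted moving lines. -/
noncomputable def Tp (n : Fin 6) : G := D.T n * D.E (gI n)

/-- Products of the high lifts. -/
noncomputable def hiU (u : ℕ) : G :=
  ex (D.E 4) (u.testBit 0) * ex (D.E 5) (u.testBit 1) * ex (D.E 6) (u.testBit 2) * ex (D.E 7) (u.testBit 3)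

theorem Tp_basic (n : Fin 6) : D.Tp n * z = z * D.Tp n ∧ D.Tp n * D.Tp n = 1 ∧ D.Tp n ∈ oc (D.E (gI n)) ∧
    (∀ y, (S.act (D.Tp n)).1 y = tl (un (gI n)) (un (gJ n + 4)) y) ∧
    ∀ l : Fin 8, l ≠ gI n + 4 → l ≠ gJ n + 4 + 4 → D.E l * D.Tp n = D.Tp n * D.E l := by
  obtain ⟨h1, h2, h3, h4, h5⟩ := gen_facts n
  have hT := D.T_spec n
  have hEi : D.E (gI n) * D.T n = D.T n * D.E (gI n) :=
    D.line_E h5 (low_facts _ _ h1 h1) (by rw [← add44]; exact h3) hT
  refine ⟨(Commute.mul_left hT.2.2.1 (D.E_z _)).eq, ?_, mul_mem hT.1 (D.self_mem _), fun y => ?_,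
    fun l l1 l2 => (Commute.mul_right (D.line_E h5 l1 l2 hT) (D.E_comm ?_)).eq⟩
  · calc D.T n * D.E (gI n) * (D.T n * D.E (gI n)) = D.T n * (D.E (gI n) * D.T n) * D.E (gI n) := by group
      _ = (D.T n * D.T n) * (D.E (gI n) * D.E (gI n)) := by rw [hEi]; group
      _ = 1 := by rw [D.line_sq h5 hT, D.E_sq, one_mul]
  · rw [Tp, S.act_mul hT.2.2.1 (D.E_z _), S.act_inner (D.E_mem _), mul_one, hT.2.2.2]
  · exact ne4 l1

theorem Tp_move (n : Fin 6) :
    D.Tp n * D.E (gI n + 4) * (D.Tp n)⁻¹ = D.E (gJ n + 4) * D.E (gI n + 4) := by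
  obtain ⟨h1, h2, h3, h4, h5⟩ := gen_facts n
  have hm : D.E (gI n) * D.E (gI n + 4) * (D.E (gI n))⁻¹ = D.E (gI n + 4) * z := by
    have e := S.commutator_eq (D.E_mem (gI n)) (D.E_mem (gI n + 4))
    rw [D.E_pr, D.E_pr, B_un, decide_eq_true rfl, show bz true = 1 from rfl, zp_one, mul_inv_eq_iff_eq_mul] at e
    rw [e, D.E_z]
  have hT := (D.line_move (i := gJ n + 4) (j := gI n) (Ne.symm h4) (ne4 h5) (D.line_symm (D.T_spec n))).2
  calc D.Tp n * D.E (gI n + 4) * (D.Tp n)⁻¹
      = D.T n * (D.E (gI n) * D.E (gI n + 4) * (D.E (gI n))⁻¹) * (D.T n)⁻¹ := by rw [Tp]; group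
    _ = D.T n * D.E (gI n + 4) * (D.T n)⁻¹ * (D.T n * z * (D.T n)⁻¹) := by rw [hm]; group
    _ = D.E (gJ n + 4) * z * D.E (gI n + 4) * z := by
      rw [hT, mul_inv_eq_of_eq_mul (D.T_spec n).2.2.1]
    _ = D.E (gJ n + 4) * (z * (D.E (gI n + 4) * z)) := by group
    _ = _ := by rw [D.E_z, ← mul_assoc z z, S.zz, one_mul]

variable (hgood : D.X 2 * D.X 3 = D.X 3 * D.X 2)
include hgood

/-- Elements centralising the image of the standard family commute. -/
theorem family_comm {a b : ℕ} (ha : a < 256) (hb : b < 256) (hqa : qn a = true) (hqb : qn b = true) {x y : G}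
    (hxz : x * z = z * x) (hyz : y * z = z * y)
    (hx : ∀ u : Fin 16, ∀ t : G, t ∈ oc z → S.pr t = dc (g2n a b u.val) → t * x = x * t)
    (hy : ∀ u : Fin 16, ∀ t : G, t ∈ oc z → S.pr t = dc (g2n a b u.val) → t * y = y * t) : x * y = y * x := by
  obtain ⟨r, hr, hrx⟩ := exists_rrn ha hb hqa hqb
  obtain ⟨c, hc, rfl⟩ := S.act_surj r hr
  have hm : ∀ {x : G}, x * z = z * x →
      (∀ u : Fin 16, ∀ t : G, t ∈ oc z → S.pr t = dc (g2n a b u.val) → t * x = x * t) → c⁻¹ * x * c ∈ Au S := by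
    intro x _ hx
    refine Subgroup.mem_centralizer_iff.2 ?_
    rintro t ⟨ht, u, hu⟩
    have e := hx u (c * t * c⁻¹) (S.nrm hc ht) (by rw [S.act_spec c hc t ht, hu, hrx _ (by omega)])
    calc t * (c⁻¹ * x * c) = c⁻¹ * (c * t * c⁻¹ * x) * c := by group
      _ = c⁻¹ * x * c * t := by rw [e]; group
  have e := D.Au_comm hgood (hm hxz hx) (hm hyz hy)
  calc x * y = c * (c⁻¹ * x * c * (c⁻¹ * y * c)) * c⁻¹ := by group
    _ = y * x := by rw [e]; group

/-- The relations. -/
theorem relations : ∃ c d e : G,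
    (c * z = z * c ∧ d * z = z * d ∧ e * z = z * e) ∧
    c * c = 1 ∧ d * d = 1 ∧ e * e = 1 ∧ D.Tp 1 * D.Tp 0 = D.Tp 0 * D.Tp 1 * c ∧
    D.Tp 2 * D.Tp 0 = D.Tp 0 * D.Tp 2 ∧ D.Tp 2 * D.Tp 1 = D.Tp 1 * D.Tp 2 * d ∧
    c * D.Tp 1 = D.Tp 1 * c ∧ c * D.Tp 2 = D.Tp 2 * c * e ∧ d * D.Tp 2 = D.Tp 2 * d ∧ c * d = d * c ∧
    e * c = c * e ∧ e * d = d * e ∧
    (∀ y, (S.act c).1 y = tl (un 0) (un 6) y) ∧ (∀ y, (S.act d).1 y = tl (un 1) (un 7) y) ∧
    (∀ y, (S.act e).1 y = tl (un 0) (un 7) y) := by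
  obtain ⟨i0, j0, i1, j1, i2, j2⟩ := idx_facts
  obtain ⟨x1, x2, x3, x4, x5⟩ := D.Tp_basic 0
  obtain ⟨y1, y2, y3, y4, y5⟩ := D.Tp_basic 1
  obtain ⟨v1, v2, v3, v4, v5⟩ := D.Tp_basic 2
  rw [i0] at x3 x4 x5; rw [j0] at x4 x5
  rw [i1] at y3 y4 y5; rw [j1] at y4 y5
  rw [i2] at v3 v4 v5; rw [j2] at v4 v5
  set x := D.Tp 0
  set y := D.Tp 1
  set v := D.Tp 2
  have hxw : x ∈ oc (D.E 0) := x3
  have hy0 : D.E 0 * y = y * D.E 0 := y5 0 (by decide) (by decide)
  have hv0 : D.E 0 * v = v * D.E 0 := v5 0 (by decide) (by decide)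
  have hv1 : D.E 1 * v = v * D.E 1 := v5 1 (by decide) (by decide)
  have yi : y⁻¹ = y := inv_eq_of_mul_eq_one_right y2
  have vi : v⁻¹ = v := inv_eq_of_mul_eq_one_right v2
  have hmul : ∀ {a b : G}, a * z = z * a → b * z = z * b → a * b * z = z * (a * b) :=
    fun h1 h2 => (Commute.mul_left h1 h2).eq
  have hconj : ∀ {i : Fin 8} {t a : G}, D.E i * t = t * D.E i → a ∈ oc (D.E i) → t * a * t⁻¹ ∈ oc (D.E i) :=
    fun {i t a} h ha => by
      have := conj_mem_oc (g := t) ha
      rwa [← h, mul_inv_cancel_right] at this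
  have actconj : ∀ {t a : G} {p q : V}, t * z = z * t → a * z = z * a → (∀ r, (S.act a).1 r = tl p q r) →
      ∀ r, (S.act (t * a * t⁻¹)).1 r = tl ((S.act t).1 p) ((S.act t).1 q) r := by
    intro t a p q ht ha hA r
    obtain ⟨u, rfl⟩ := (S.act t).1.surjective r
    rw [(conj_facts (S := S) ht ha).2, oG_mul_apply, oG_mul_apply, oG_inv_apply, hA, tl_map]
  obtain ⟨m1, m2, m3⟩ := move_codes
  -- sums in a frame
  have addat : ∀ {i : Fin 8} {a b : G} {p q : V}, Bp p (un i) = 0 → Bp q (un i) = 0 → qP 4 p = 0 → qP 4 q = 0 →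
      Bp p q = 0 → a ∈ oc (D.E i) → a * z = z * a → (∀ r, (S.act a).1 r = tl (un i) p r) →
      b ∈ oc (D.E i) → b * z = z * b → (∀ r, (S.act b).1 r = tl (un i) q r) →
      a * b = b * a ∧ a * b * (a * b) = 1 ∧ ∀ r, (S.act (a * b)).1 r = tl (un i) (p + q) r := by
    intro i a b p q hp hq qp qq hpq ha haz haA hb hbz hbA
    have hab := D.comm_two hp hq qp qq ha haz haA hb hbz hbA
    rw [hpq, zp_zero, one_mul] at hab
    have hact : ∀ r, (S.act (a * b)).1 r = tl (un i) (p + q) r := fun r => by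
      rw [S.act_mul haz hbz, oG_mul_apply, hbA, haA]
      simp only [tl, qp, qq, q_add, hpq, zero_smul, add_zero, Bp_add_left, Bp_smul_left, Bp_self,
        Bp_add_right, Bp_comm (un i) p, Bp_comm q p, hp, hq, mul_zero]
      simp only [add_smul, smul_add]
      abel
    refine ⟨hab, ?_, hact⟩
    rw [D.sq_at (by rw [Bp_add_left, hp, hq, add_zero]) (mul_mem ha hb) (hmul haz hbz) hact, q_add, qp, qq, hpq,
      add_zero, add_zero, zp_zero]
  have hd8 : ∀ (a b : Fin 8) (m : ℕ), m < 256 → tl (un a) (un b) (dc m) = dc (tln (2 ^ a.val) (2 ^ b.val) m) :=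
    fun a b m hm => tl_dc a b hm
  have hq : ∀ {m : ℕ}, m < 256 → qn m = false → qP 4 (dc m) = 0 := fun h e => by rw [q_dc h, e]; rfl
  have hB : ∀ {m k : ℕ}, m < 256 → k < 256 → Bn m k = false → Bp (dc m) (dc k) = 0 := fun h h' e => by
    rw [Bp_dc h h', e]; rfl
  have hy96 : (S.act y).1 (dc 32) = dc 96 ∧ (S.act y).1 (dc 1) = dc 1 := by
    constructor <;> rw [y4, hd8 _ _ _ (by norm_num)]
    · exact congrArg dc ((m1 ⟨32, by norm_num⟩).2 rfl)
    · exact congrArg dc ((m1 ⟨1, by norm_num⟩).1 rfl)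
  have hv192 : (S.act v).1 (dc 64) = dc 192 ∧ (S.act v).1 (dc 2) = dc 2 ∧ (S.act v).1 (dc 1) = dc 1 := by
    refine ⟨?_, ?_, ?_⟩ <;> rw [v4, hd8 _ _ _ (by norm_num)]
    · exact congrArg dc ((m2 ⟨64, by norm_num⟩).2.1 rfl)
    · exact congrArg dc ((m2 ⟨2, by norm_num⟩).1 rfl)
    · exact congrArg dc ((m2 ⟨1, by norm_num⟩).2.2 rfl)
  -- `c`
  have hyx : y * x * y ∈ oc (D.E 0) := by have := hconj hy0 hxw; rwa [yi] at this
  have hyxz : y * x * y * z = z * (y * x * y) := hmul (hmul y1 x1) y1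
  have hyxA : ∀ r, (S.act (y * x * y)).1 r = tl (un 0) (dc 96) r := fun r => by
    have h := actconj y1 x1 x4 r
    rw [yi, show (S.act y).1 (un (0 : Fin 8)) = un 0 from hy96.2,
      show (S.act y).1 (un ((1 : Fin 8) + 4)) = dc 96 from hy96.1] at h
    exact h
  obtain ⟨cc1, cc2, cc3⟩ := addat (p := un (1 + 4)) (q := dc 96) (B_un_zero (by decide))
    (hB (by norm_num) (by norm_num) rfl) (q_un _) (hq (by norm_num) rfl)
    (hB (un_code _).1 (by norm_num) rfl) hxw x1 x4 hyx hyxz hyxA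
  have hcA : ∀ r, (S.act (x * (y * x * y))).1 r = tl (un 0) (un 6) r := fun r => by
    rw [cc3, show un (1 + 4) + dc 96 = dc (2 ^ ((1 : Fin 8) + 4).val ^^^ 96) from (dc_xor _ _).symm]
    rfl
  set c := x * (y * x * y) with hc
  have hcm : c ∈ oc (D.E 0) := mul_mem hxw hyx
  have hcz : c * z = z * c := hmul x1 hyxz
  -- `d`
  have hvy : v * y * v ∈ oc (D.E 1) := by have := hconj hv1 y3; rwa [vi] at this
  have hvyz : v * y * v * z = z * (v * y * v) := hmul (hmul v1 y1) v1
  have hvyA : ∀ r, (S.act (v * y * v)).1 r = tl (un 1) (dc 192) r := fun r => by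
    have h := actconj v1 y1 y4 r
    rw [vi, show (S.act v).1 (un (1 : Fin 8)) = un 1 from hv192.2.1,
      show (S.act v).1 (un ((2 : Fin 8) + 4)) = dc 192 from hv192.1] at h
    exact h
  obtain ⟨dd1, dd2, dd3⟩ := addat (p := un (2 + 4)) (q := dc 192) (B_un_zero (by decide))
    (hB (by norm_num) (by norm_num) rfl) (q_un _) (hq (by norm_num) rfl)
    (hB (un_code _).1 (by norm_num) rfl) y3 y1 y4 hvy hvyz hvyA
  have hdA : ∀ r, (S.act (y * (v * y * v))).1 r = tl (un 1) (un 7) r := fun r => by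
    rw [dd3, show un (2 + 4) + dc 192 = dc (2 ^ ((2 : Fin 8) + 4).val ^^^ 192) from (dc_xor _ _).symm]
    rfl
  set d := y * (v * y * v) with hd
  have hdm : d ∈ oc (D.E 1) := mul_mem y3 hvy
  have hdz : d * z = z * d := hmul y1 hvyz
  -- `e`
  have hvc : v * c * v ∈ oc (D.E 0) := by have := hconj hv0 hcm; rwa [vi] at this
  have hvcz : v * c * v * z = z * (v * c * v) := hmul (hmul v1 hcz) v1
  have hvcA : ∀ r, (S.act (v * c * v)).1 r = tl (un 0) (dc 192) r := fun r => by
    have h := actconj v1 hcz hcA r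
    rw [vi, show (S.act v).1 (un (0 : Fin 8)) = un 0 from hv192.2.2,
      show (S.act v).1 (un (6 : Fin 8)) = dc 192 from hv192.1] at h
    exact h
  obtain ⟨ee1, ee2, ee3⟩ := addat (p := un 6) (q := dc 192) (B_un_zero (by decide))
    (hB (by norm_num) (by norm_num) rfl) (q_un _) (hq (by norm_num) rfl)
    (hB (un_code _).1 (by norm_num) rfl) hcm hcz hcA hvc hvcz hvcA
  have heA : ∀ r, (S.act (c * (v * c * v))).1 r = tl (un 0) (un 7) r := fun r => by
    rw [ee3, show un 6 + dc 192 = dc (2 ^ (6 : Fin 8).val ^^^ 192) from (dc_xor _ _).symm]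
    rfl
  set e := c * (v * c * v) with he
  have hem : e ∈ oc (D.E 0) := mul_mem hcm hvc
  have hez : e * z = z * e := hmul hcz hvcz
  -- skew lines of one family
  have perp : ∀ {i : Fin 8} {a : G} {p : ℕ}, p < 256 → Bn p (2 ^ i.val) = false → a ∈ oc (D.E i) →
      a * z = z * a → (∀ r, (S.act a).1 r = tl (un i) (dc p) r) →
      ∀ m : ℕ, m < 256 → Bn m (2 ^ i.val) = false → Bn m p = false → ∀ t, t ∈ oc z → S.pr t = dc m → t * a = a * t := by
    intro i a p hp hpi ha haz hA m hm h1 h2 t ht hpt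
    refine D.perp_comm_at (hB hp (un_code i).1 hpi) ha haz hA ht ?_ ?_ <;> rw [hpt]
    exacts [hB hm (un_code i).1 h1, hB hm hp h2]
  have hxv : v * x = x * v := D.family_comm hgood (a := 34) (b := 136) (by norm_num) (by norm_num) rfl rfl v1 x1
    (fun u => perp (i := 2) (p := 128) (by norm_num) rfl v3 v1 v4 _ (R34_code u).1 (R34_code u).2.2.2.1 (R34_code u).2.2.2.2)
    (fun u => perp (i := 0) (p := 32) (by norm_num) rfl hxw x1 x4 _ (R34_code u).1 (R34_code u).2.1 (R34_code u).2.2.1)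
  have hcd : c * d = d * c := D.family_comm hgood (a := 68) (b := 136) (by norm_num) (by norm_num) rfl rfl hcz hdz
    (fun u => perp (i := 0) (p := 64) (by norm_num) rfl hcm hcz hcA _ (R68_code u).1 (R68_code u).2.1 (R68_code u).2.2.1)
    (fun u => perp (i := 1) (p := 128) (by norm_num) rfl hdm hdz hdA _ (R68_code u).1 (R68_code u).2.2.2.1 (R68_code u).2.2.2.2)
  have hed : e * d = d * e := D.family_comm hgood (a := 68) (b := 136) (by norm_num) (by norm_num) rfl rfl hez hdz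
    (fun u => perp (i := 0) (p := 128) (by norm_num) rfl hem hez heA _ (R68_code u).1 (R68_code u).2.1 (R68_code u).2.2.2.2)
    (fun u => perp (i := 1) (p := 128) (by norm_num) rfl hdm hdz hdA _ (R68_code u).1 (R68_code u).2.2.2.1 (R68_code u).2.2.2.2)
  have hec : e * c = c * e := by
    rw [he]
    calc c * (v * c * v) * c = c * (v * c * v * c) := by group
      _ = c * (c * (v * c * v)) := by rw [← ee1]
  have cc1' : x * (y * x * y) = y * x * y * x := cc1
  have dd1' : y * (v * y * v) = v * y * v * y := dd1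
  refine ⟨c, d, e, ⟨hcz, hdz, hez⟩, cc2, dd2, ee2, ?_, hxv, ?_, ?_, ?_, ?_, hcd, hec, hed, hcA, hdA, heA⟩
  · have e1 : x * y * c = y * x * (y * y) := by
      calc x * y * c = x * (y * (x * (y * x * y))) := by rw [hc]; group
        _ = x * (y * ((y * x * y) * x)) := by rw [cc1']
        _ = x * ((y * y) * x * y * x) := by group
        _ = (x * x) * y * x := by rw [y2]; group
        _ = y * x * (y * y) := by rw [x2, y2]; group
    rw [e1, y2, mul_one]
  · have e1 : y * v * d = v * y * (v * v) := by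
      calc y * v * d = y * (v * (y * (v * y * v))) := by rw [hd]; group
        _ = y * (v * ((v * y * v) * y)) := by rw [dd1']
        _ = y * ((v * v) * y * v * y) := by group
        _ = (y * y) * v * y := by rw [v2]; group
        _ = v * y * (v * v) := by rw [y2, v2]; group
    rw [e1, v2, mul_one]
  · calc c * y = x * y * x * (y * y) := by rw [hc]; group
      _ = (y * y) * x * y * x := by rw [y2, mul_one, one_mul]
      _ = y * ((y * x * y) * x) := by group
      _ = y * c := by rw [← cc1]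
  · calc c * v = v * (c * c) * (v * c * v) := by rw [cc2, mul_one, ← mul_assoc, ← mul_assoc, v2, one_mul]
      _ = v * c * e := by rw [he]; group
  · calc d * v = y * v * y * (v * v) := by rw [hd]; group
      _ = (v * v) * y * v * y := by rw [v2, mul_one, one_mul]
      _ = v * ((v * y * v) * y) := by group
      _ = v * d := by rw [← dd1]

omit hgood in
theorem hiU_mem (u : ℕ) : D.hiU u ∈ oc z := by
  have h : ∀ (i : Fin 8) (b : Bool), ex (D.E i) b ∈ oc z := fun i b => by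
    cases b
    exacts [one_mem _, D.E_mem i]
  exact mul_mem (mul_mem (mul_mem (h _ _) (h _ _)) (h _ _)) (h _ _)

omit hgood in
theorem hiU_pr (u : Fin 16) : S.pr (D.hiU u.val) = dc (16 * u.val) := by
  have h : ∀ (i : Fin 8) (b : Bool), ex (D.E i) b ∈ oc z ∧
      S.pr (ex (D.E i) b) = dc (if b then 2 ^ i.val else 0) := fun i b => by
    cases b
    · exact ⟨one_mem _, by rw [show ex (D.E i) false = 1 from rfl, S.pr_one]; exact dc_zero.symm⟩
    · exact ⟨D.E_mem i, D.E_pr i⟩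
  rw [hiU, S.pr_mul _ (mul_mem (mul_mem (h _ _).1 (h _ _).1) (h _ _).1) _ (h _ _).1,
    S.pr_mul _ (mul_mem (h _ _).1 (h _ _).1) _ (h _ _).1, S.pr_mul _ (h _ _).1 _ (h _ _).1,
    (h _ _).2, (h _ _).2, (h _ _).2, (h _ _).2, ← dc_xor, ← dc_xor, ← dc_xor, ← high_sum u]
  rfl

omit hgood in
theorem hiU_zero : D.hiU 0 = 1 := by simp [hiU, ex]

omit hgood in
theorem hiU_basis : ∀ i : Fin 4, D.hiU (2 ^ i.val) = D.E (⟨i.val, lt_trans i.isLt (by norm_num)⟩ + 4) := by
  intro i
  fin_cases i <;> simp [hiU, ex, Nat.testBit] <;> rfl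

omit hgood in
theorem hiU_mul (u v : Fin 16) : ∃ w : Fin 16, D.hiU u.val * D.hiU v.val = D.hiU w.val := by
  obtain ⟨w, h0, h1, h2, h3⟩ := four_bools (u.val.testBit 0 != v.val.testBit 0) (u.val.testBit 1 != v.val.testBit 1)
    (u.val.testBit 2 != v.val.testBit 2) (u.val.testBit 3 != v.val.testBit 3)
  have hc : ∀ (i j : Fin 8) (b b' : Bool), j ≠ i + 4 → Commute (ex (D.E i) b) (ex (D.E j) b') :=
    fun i j b b' h => by
      cases b
      · exact Commute.one_left _
      cases b'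
      · exact Commute.one_right _
      exact D.E_comm h
  refine ⟨w, ?_⟩
  simp only [hiU, h0, h1, h2, h3, ← ex_xor (D.E_sq _)]
  rw [Commute.mul_mul_mul_comm (.mul_right (.mul_right (hc _ _ _ _ (by decide)) (hc _ _ _ _ (by decide)))
      (hc _ _ _ _ (by decide))),
    Commute.mul_mul_mul_comm (.mul_right (hc _ _ _ _ (by decide)) (hc _ _ _ _ (by decide))),
    Commute.mul_mul_mul_comm (hc _ _ _ _ (by decide))]

omit hgood in
theorem hiU_conj (n : Fin 6) (u : Fin 16) :
    ∃ w : Fin 16, D.Tp n * D.hiU u.val * (D.Tp n)⁻¹ = D.hiU w.val := by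
  obtain ⟨h1, h2, -⟩ := gen_facts n
  let P : G → Prop := fun x => ∃ w : Fin 16, x = D.hiU w.val
  have hone : P 1 := ⟨0, D.hiU_zero.symm⟩
  have hmul : ∀ {x y}, P x → P y → P (x * y) := fun {x y} ⟨a, ha⟩ ⟨b, hb⟩ => by
    obtain ⟨c, hc⟩ := D.hiU_mul a b
    exact ⟨c, by rw [ha, hb, hc]⟩
  have hE : ∀ i : Fin 8, i.val < 4 → P (D.E (i + 4)) := fun i hi =>
    ⟨⟨2 ^ i.val, Nat.pow_lt_pow_right (by norm_num : 1 < 2) hi⟩, (D.hiU_basis ⟨i.val, hi⟩).symm⟩
  have hf : ∀ i : Fin 8, i.val < 4 → ∀ b, P (MulAut.conj (D.Tp n) (ex (D.E (i + 4)) b)) := fun i hi b => by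
    cases b
    · show P (MulAut.conj (D.Tp n) 1)
      rw [map_one]; exact hone
    show P (D.Tp n * D.E (i + 4) * (D.Tp n)⁻¹)
    by_cases e : i = gI n
    · subst e
      rw [D.Tp_move n]
      exact hmul (hE _ h2) (hE _ h1)
    · rw [← (D.Tp_basic n).2.2.2.2 (i + 4) (fun h => e (add_right_cancel h))
        (fun h => low_facts i (gJ n) hi h2 (h.trans (add44 _).symm).symm), mul_inv_cancel_right]
      exact hE i hi
  obtain ⟨w, hw⟩ : P (MulAut.conj (D.Tp n) (D.hiU u.val)) := by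
    rw [hiU, map_mul, map_mul, map_mul]
    exact hmul (hmul (hmul (hf 0 (by decide) _) (hf 1 (by decide) _)) (hf 2 (by decide) _)) (hf 3 (by decide) _)
  exact ⟨w, hw⟩

omit hgood in
theorem fix_low {k : G} (hk : k ∈ Au S) (u : Fin 16) : (S.act k).1 (dc u.val) = dc u.val := by
  obtain ⟨h1, h2⟩ := D.phiU_spec u
  have e := Subgroup.mem_centralizer_iff.1 hk _ (mem_Uset u.isLt h1 h2)
  have := S.act_spec k (Au_z hk) _ h1
  rwa [← e, mul_inv_cancel_right, h2, eq_comm] at this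

/-- A subgroup of order `2^10` in the normaliser, meeting the centraliser trivially. -/
theorem exists_small (hN : ∀ n : Fin 10, genEl D n ∈ Subgroup.normalizer (Au S : Set G)) :
    ∃ A : Subgroup G, A ≤ Subgroup.normalizer (Au S : Set G) ∧ A ⊓ Au S = ⊥ ∧ Nat.card A = 1024 := by
  classical
  obtain ⟨i0, j0, i1, j1, i2, j2⟩ := idx_facts
  obtain ⟨c, d, e, ⟨hcz, hdz, hez⟩, cc, dd, ee, ryx, rvx, rvy, rcy, rcv, rdv, rcd, rec, red, cA, dA, eA⟩ :=
    D.relations hgood
  obtain ⟨x1, x2, -, x4, -⟩ := D.Tp_basic 0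
  obtain ⟨y1, y2, -, y4, -⟩ := D.Tp_basic 1
  obtain ⟨v1, v2, -, v4, -⟩ := D.Tp_basic 2
  rw [i0, j0] at x4
  rw [i1, j1] at y4
  rw [i2, j2] at v4
  let el : Fin 16 × Fin 64 → G := fun p => D.hiU p.1.val *
    nfP (D.Tp 0) (D.Tp 1) (D.Tp 2) c d e (p.2.val.testBit 0) (p.2.val.testBit 1) (p.2.val.testBit 2)
      (p.2.val.testBit 3) (p.2.val.testBit 4) (p.2.val.testBit 5)
  let gens : Set G := {D.E (0 + 4), D.E (1 + 4), D.E (2 + 4), D.E (3 + 4), D.Tp 0, D.Tp 1, D.Tp 2}
  have el0 : el (0, 0) = 1 := by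
    show D.hiU 0 * _ = 1
    simp [D.hiU_zero, nfP, ex]
  have hhi : ∀ (i : Fin 4) (p : Fin 16 × Fin 64),
      ∃ q, D.E (⟨i.val, lt_trans i.isLt (by norm_num)⟩ + 4) * el p = el q := fun i p => by
    obtain ⟨w, hw⟩ := D.hiU_mul ⟨2 ^ i.val, Nat.pow_lt_pow_right (by norm_num : 1 < 2) i.isLt⟩ p.1
    refine ⟨(w, p.2), ?_⟩
    simp only [el]
    rw [← D.hiU_basis, ← mul_assoc, hw]
  have hlo : ∀ p : Fin 16 × Fin 64, (∃ q, D.Tp 0 * el p = el q) ∧ (∃ q, D.Tp 1 * el p = el q) ∧
      (∃ q, D.Tp 2 * el p = el q) := fun p => by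
    obtain ⟨sx, sy, sv⟩ := nfP_step x2 y2 v2 cc dd ee ryx rvx rvy rcy rcv rdv rcd rec red (p.2.val.testBit 0)
      (p.2.val.testBit 1) (p.2.val.testBit 2) (p.2.val.testBit 3) (p.2.val.testBit 4) (p.2.val.testBit 5)
    have go : ∀ n : Fin 6, (∃ a b g h i k, D.Tp n * nfP (D.Tp 0) (D.Tp 1) (D.Tp 2) c d e (p.2.val.testBit 0)
        (p.2.val.testBit 1) (p.2.val.testBit 2) (p.2.val.testBit 3) (p.2.val.testBit 4) (p.2.val.testBit 5) =
          nfP (D.Tp 0) (D.Tp 1) (D.Tp 2) c d e a b g h i k) → ∃ q, D.Tp n * el p = el q := by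
      rintro n ⟨a, b, g, h, i, k, hk⟩
      obtain ⟨t, t0, t1, t2, t3, t4, t5⟩ := six_bits a b g h i k
      obtain ⟨w, hw⟩ := D.hiU_conj n p.1
      refine ⟨(w, t), ?_⟩
      simp only [el]
      rw [t0, t1, t2, t3, t4, t5, ← hk, ← hw]
      group
    exact ⟨go 0 sx, go 1 sy, go 2 sv⟩
  have hgen : ∀ a ∈ gens, a⁻¹ = a ∧ ∀ p, ∃ q, a * el p = el q := by
    intro a ha
    simp only [gens, Set.mem_insert_iff, Set.mem_singleton_iff] at ha
    rcases ha with rfl | rfl | rfl | rfl | rfl | rfl | rfl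
    · exact ⟨inv_eq_of_mul_eq_one_right (D.E_sq _), hhi 0⟩
    · exact ⟨inv_eq_of_mul_eq_one_right (D.E_sq _), hhi 1⟩
    · exact ⟨inv_eq_of_mul_eq_one_right (D.E_sq _), hhi 2⟩
    · exact ⟨inv_eq_of_mul_eq_one_right (D.E_sq _), hhi 3⟩
    · exact ⟨inv_eq_of_mul_eq_one_right x2, fun p => (hlo p).1⟩
    · exact ⟨inv_eq_of_mul_eq_one_right y2, fun p => (hlo p).2.1⟩
    · exact ⟨inv_eq_of_mul_eq_one_right v2, fun p => (hlo p).2.2⟩
  set A := Subgroup.closure gens with hA
  have hin : ∀ a ∈ A, ∃ p, a = el p := by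
    intro a ha
    induction ha using Subgroup.closure_induction_left with
    | one => exact ⟨(0, 0), el0.symm⟩
    | mul_left a ha b _ ih =>
      obtain ⟨p, rfl⟩ := ih
      exact (hgen a ha).2 p
    | inv_mul_cancel a ha b _ ih =>
      obtain ⟨p, rfl⟩ := ih
      rw [(hgen a ha).1]
      exact (hgen a ha).2 p
  have hg : ∀ {a}, a ∈ gens → a ∈ A := fun h => Subgroup.subset_closure h
  have hx : D.Tp 0 ∈ A := hg (by simp [gens])
  have hy : D.Tp 1 ∈ A := hg (by simp [gens])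
  have hv : D.Tp 2 ∈ A := hg (by simp [gens])
  have hcA : c ∈ A := by
    rw [show c = (D.Tp 0 * D.Tp 1)⁻¹ * (D.Tp 1 * D.Tp 0) by rw [ryx]; group]
    exact mul_mem (inv_mem (mul_mem hx hy)) (mul_mem hy hx)
  have hdA : d ∈ A := by
    rw [show d = (D.Tp 1 * D.Tp 2)⁻¹ * (D.Tp 2 * D.Tp 1) by rw [rvy]; group]
    exact mul_mem (inv_mem (mul_mem hy hv)) (mul_mem hv hy)
  have heA : e ∈ A := by
    rw [show e = (D.Tp 2 * c)⁻¹ * (c * D.Tp 2) by rw [rcv]; group]
    exact mul_mem (inv_mem (mul_mem hv hcA)) (mul_mem hcA hv)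
  have hex : ∀ {a} (_ : a ∈ A) (b : Bool), ex a b ∈ A := fun h b => by
    cases b
    exacts [one_mem _, h]
  have hel : ∀ p, el p ∈ A := fun p => mul_mem
    (mul_mem (mul_mem (mul_mem (hex (hg (by simp [gens])) _) (hex (hg (by simp [gens])) _))
      (hex (hg (by simp [gens])) _)) (hex (hg (by simp [gens])) _))
    (mul_mem (mul_mem (mul_mem (mul_mem (mul_mem (hex hx _) (hex hy _)) (hex hv _)) (hex hcA _)) (hex hdA _)) (hex heA _))
  -- the action on the low part
  have hexz : ∀ {a : G}, a * z = z * a → ∀ b, ex a b * z = z * ex a b := fun h b => by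
    cases b
    exacts [(Commute.one_left z).eq, h]
  have hstep : ∀ {a : G} {i j : Fin 8}, (∀ r, (S.act a).1 r = tl (un i) (un j) r) →
      ∀ b y, y < 256 → (S.act (ex a b)).1 (dc y) = dc (tf (2 ^ i.val) (2 ^ j.val) b y) ∧
        tf (2 ^ i.val) (2 ^ j.val) b y < 256 := fun {a i j} h b y hy => by
    refine ⟨?_, tf_lt i j b ⟨y, hy⟩⟩
    cases b
    · show (S.act 1).1 (dc y) = dc y
      rw [S.act_one, oG_one_apply]
    · show (S.act a).1 (dc y) = dc (tln (2 ^ i.val) (2 ^ j.val) y)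
      rw [h, tl_dc i j hy]
  have hact : ∀ (p : Fin 16 × Fin 64) (u : Fin 16), (S.act (el p)).1 (dc u.val) = dc (uniAct p.2 u.val) ∧
      uniAct p.2 u.val < 256 := by
    intro p u
    have hu : u.val < 256 := lt_trans u.isLt (by norm_num)
    obtain ⟨a1, l1⟩ := hstep eA (p.2.val.testBit 5) _ hu
    obtain ⟨a2, l2⟩ := hstep dA (p.2.val.testBit 4) _ l1
    obtain ⟨a3, l3⟩ := hstep cA (p.2.val.testBit 3) _ l2
    obtain ⟨a4, l4⟩ := hstep v4 (p.2.val.testBit 2) _ l3
    obtain ⟨a5, l5⟩ := hstep y4 (p.2.val.testBit 1) _ l4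
    obtain ⟨a6, l6⟩ := hstep x4 (p.2.val.testBit 0) _ l5
    refine ⟨?_, l6⟩
    have z1 := hexz x1 (p.2.val.testBit 0)
    have z2 := (Commute.mul_left z1 (hexz y1 (p.2.val.testBit 1))).eq
    have z3 := (Commute.mul_left z2 (hexz v1 (p.2.val.testBit 2))).eq
    have z4 := (Commute.mul_left z3 (hexz hcz (p.2.val.testBit 3))).eq
    have z5 := (Commute.mul_left z4 (hexz hdz (p.2.val.testBit 4))).eq
    have z6 := (Commute.mul_left z5 (hexz hez (p.2.val.testBit 5))).eq
    simp only [el, nfP]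
    rw [S.act_mul (S.comm (D.hiU_mem _)) z6, S.act_inner (D.hiU_mem _), one_mul,
      S.act_mul z5 (hexz hez _), S.act_mul z4 (hexz hdz _), S.act_mul z3 (hexz hcz _),
      S.act_mul z2 (hexz v1 _), S.act_mul z1 (hexz y1 _)]
    simp only [oG_mul_apply]
    rw [a1, a2, a3, a4, a5, a6]
    rfl
  have hinj : Function.Injective el := by
    intro p q hpq
    have ht : p.2 = q.2 := uni_code _ _ fun u =>
      dc_inj (hact p u).2 (hact q u).2 (by rw [← (hact p u).1, hpq, (hact q u).1])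
    have hu : D.hiU p.1.val = D.hiU q.1.val := by
      simp only [el, ht] at hpq
      exact mul_right_cancel hpq
    have := dc_inj (by omega) (by omega) ((D.hiU_pr p.1).symm.trans ((congrArg S.pr hu).trans (D.hiU_pr q.1)))
    exact Prod.ext (Fin.ext (by omega)) ht
  refine ⟨A, ?_, ?_, ?_⟩
  · refine (Subgroup.closure_le _).2 fun a ha => ?_
    have hE : ∀ i : Fin 4, D.E (⟨i.val, lt_trans i.isLt (by norm_num)⟩ + 4) ∈ Subgroup.normalizer (Au S : Set G) :=
      fun i => by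
        have h := hN ⟨6 + i.val, by omega⟩
        rw [genEl, dif_neg (by simp only; omega)] at h
        convert h using 3
        exact Fin.ext (by simp only; omega)
    have hT : ∀ n : Fin 6, D.Tp n ∈ Subgroup.normalizer (Au S : Set G) := fun n => by
      have h := hN ⟨n.val, lt_trans n.isLt (by norm_num)⟩
      rw [genEl, dif_pos n.isLt] at h
      exact mul_mem h (Subgroup.le_normalizer (D.E_Au (gen_facts n).1))
    simp only [gens, Set.mem_insert_iff, Set.mem_singleton_iff] at ha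
    rcases ha with rfl | rfl | rfl | rfl | rfl | rfl | rfl
    exacts [hE 0, hE 1, hE 2, hE 3, hT 0, hT 1, hT 2]
  · rw [eq_bot_iff]
    rintro a ⟨ha, hk⟩
    obtain ⟨⟨u, t⟩, rfl⟩ := hin a ha
    have ht : t = 0 := uni_code _ _ fun r => dc_inj (hact (u, t) r).2 (hact (0, 0) r).2 (by
      rw [← (hact (u, t) r).1, ← (hact (0, 0) r).1, el0, S.act_one, oG_one_apply]
      exact D.fix_low hk r)
    subst ht
    have hu : el (u, 0) = D.hiU u.val := by simp [el, nfP, ex]
    rw [hu] at hk ⊢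
    have : u = 0 := high_code u fun i => by
      have hi8 : i.val < 8 := lt_trans i.isLt (by norm_num)
      have h := (S.commute_iff (D.E_mem ⟨i.val, hi8⟩) (D.hiU_mem u.val)).1
        (Subgroup.mem_centralizer_iff.1 hk _ (D.E_Uset i.isLt))
      rw [Bp_comm, D.E_pr, D.hiU_pr, Bp_dc (by omega) (un_code _).1] at h
      exact (bz_eq_zero _).1 h
    subst this
    exact Subgroup.mem_bot.2 D.hiU_zero
  · rw [← Nat.card_congr (Equiv.ofBijective (fun p => (⟨el p, hel p⟩ : ↥A))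
      ⟨fun p q h => hinj (congrArg Subtype.val h), fun ⟨a, ha⟩ => by
        obtain ⟨p, rfl⟩ := hin a ha
        exact ⟨p, rfl⟩⟩), Nat.card_prod, Nat.card_fin, Nat.card_fin]

end Frm

end Cfsg.Agent.CoOneGolay
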