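import Cfsg.Agent.CoOneGolay.Iso
import Cfsg.Agent.CoOneGolay.Split
import Cfsg.Agent.Core.Gaschutz

/-!
The complement.
-/

set_option autoImplicit false

open Cfsg Cfsg.Agent.ThreeTrans.OrthCohom Cfsg.Agent.Classical.Quad QuadraticMap Cfsg.Agent.LargeExtra
open Cfsg.Agent.CoOneType Cfsg.Agent.CoOneType.CoOne

namespace Cfsg.Agent.CoOneGolay

variable {G : Type*} [Group G] [Finite G] {z : G} {S : CoOne z} {w : G} {D : Frm S w} {g : G} {s : ℕ}

/-- The normaliser splits over the centraliser. -/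
theorem Mdl.split (M : Mdl D g s) : ∃ K : Subgroup ↥(Nm S), ((Au S).subgroupOf (Nm S)).IsComplement' K := by
  obtain ⟨A, hAN, hAK, hA⟩ := D.exists_small M.good M.gen_mem
  set K := (Au S).subgroupOf (Nm S) with hK
  have hn : K.Normal := M.normal
  have hc : IsMulCommutative K := ⟨⟨fun a b =>
    Subtype.ext (Subtype.ext (D.Au_comm M.good a.2 b.2))⟩⟩
  set A' := A.subgroupOf (Nm S) with hA'
  have hAK' : A' ⊓ K = ⊥ := by
    rw [eq_bot_iff]
    rintro x ⟨h1, h2⟩
    have h : (x : G) ∈ A ⊓ Au S := ⟨h1, h2⟩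
    rw [hAK] at h
    exact Subgroup.mem_bot.2 (Subtype.ext (Subgroup.mem_bot.1 h))
  have hKc : Nat.card K = 2048 := by
    rw [hK, Nat.card_congr (Subgroup.subgroupOfEquivOfLe (Subgroup.le_normalizer (H := Au S))).toEquiv, D.card_Au]
  have hKi : K.index = 244823040 := by
    have h := K.card_mul_index
    rw [hKc, M.card_Nm] at h
    omega
  have hrel : K.relIndex (K ⊔ A') = 1024 := by
    rw [sup_comm, Subgroup.relIndex_sup_right, ← Subgroup.inf_relIndex_right, inf_comm, hAK',
      Subgroup.relIndex_bot_left, hA', Nat.card_congr (Subgroup.subgroupOfEquivOfLe hAN).toEquiv, hA]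
  have hUi : (K ⊔ A').index = 239085 := by
    have h := Subgroup.relIndex_mul_index (le_sup_left : K ≤ K ⊔ A')
    rw [hrel, hKi] at h
    omega
  exact Core.gaschutz_exists (K := K) (U := K ⊔ A') le_sup_left (by rw [hKc, hUi]; norm_num) le_sup_right hAK' rfl

end Cfsg.Agent.CoOneGolay
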