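import Cfsg.Agent.CoOneGolay.Classes

/-!
A lower bound for the order of the normaliser.
-/

set_option autoImplicit false

open Cfsg Cfsg.Agent.ThreeTrans.OrthCohom Cfsg.Agent.Classical.Quad QuadraticMap Cfsg.Agent.LargeExtra
open Cfsg.Agent.CoOneType Cfsg.Agent.CoOneType.CoOne

namespace Cfsg.Agent.CoOneGolay

/-- Words in the generators. -/
def words : List (List (Fin 10)) :=
  [[0], [1], [2], [3], [4], [5], [6], [7], [8], [9], [0, 1, 0, 1], [1, 2, 1, 2],
    [0, 1, 2, 1, 2, 0, 2, 1, 2, 1], [0, 1, 0, 1, 2, 0, 1, 0, 1, 2]]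

/-- Words fixing the first lifts. -/
def wordsFix (i : ℕ) : List (List (Fin 10)) :=
  words.filter fun w => (List.range i).all fun j => runW finalIm w (2 ^ (1 + j)) == 2 ^ (1 + j)

/-- One round of the closure. -/
def grow (ws : List (List (Fin 10))) (l : List ℕ) : List ℕ :=
  (l ++ ws.flatMap fun w => l.map fun v => runW finalIm w v).eraseDups

/-- The reachable codes. -/
def reach (i : ℕ) : ℕ → List ℕ
  | 0 => [2 ^ (1 + i)]
  | k + 1 => grow (wordsFix i) (reach i k)

theorem reach_sizes : ((reach 0 7).toFinset.card = 30 ∧ (reach 1 6).toFinset.card = 28 ∧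
    (reach 2 5).toFinset.card = 24 ∧ (reach 3 4).toFinset.card = 16) := by decide +kernel

theorem zTab_card : Fintype.card {v : Fin 2048 // zTab.testBit v.val = true} = 759 := by decide +kernel

theorem fix_z : ∀ n : Fin 10, appL (finalIm n) 1 = 1 := by decide +kernel

theorem runW_lt {M : Fin 10 → List ℕ} (hM : ∀ n, ∀ x ∈ M n, x < 2048) :
    ∀ (w : List (Fin 10)) (v : ℕ), v < 2048 → runW M w v < 2048 := by
  intro w
  induction w with
  | nil => intro v hv; exact hv
  | cons n w ih => intro v _; exact ih _ (appL_lt (hM n) v)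

variable {G : Type*} [Group G] [Finite G] {z : G} {S : CoOne z} {w : G}

/-- An orbit inside a chain of centralisers. -/
theorem orbit_bound (K : Subgroup G) (x : G) {ι : Type*} [Fintype ι] (f : ι → G) (hf : Function.Injective f)
    (h : ∀ a, ∃ c ∈ K, c * x * c⁻¹ = f a) :
    Fintype.card ι * Nat.card ↥(K ⊓ Subgroup.centralizer ({x} : Set G)) ≤ Nat.card K := by
  rw [card_conj_orbit K x {y | ∃ c ∈ K, c * x * c⁻¹ = y} fun y => Iff.rfl, ← Nat.card_eq_fintype_card]
  exact Nat.mul_le_mul_right _ (Nat.card_le_card_of_injective (fun a => (⟨f a, h a⟩ :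
    {y | ∃ c ∈ K, c * x * c⁻¹ = y})) fun a b e => hf (congrArg Subtype.val e))

variable {D : Frm S w} {g : G} {s : ℕ}

/-- The chain of centralisers of the low lifts. -/
def chainK (D : Frm S w) (s : ℕ) : ℕ → Subgroup G
  | 0 => Nm S ⊓ Subgroup.centralizer ({z} : Set G)
  | i + 1 => chainK D s i ⊓ Subgroup.centralizer ({D.psi s (2 ^ (1 + i))} : Set G)

theorem mem_chainK (h : ℕ) {c : G} : c ∈ chainK D s h ↔ (c ∈ Nm S ∧ c * z = z * c) ∧
    ∀ j, j < h → c * D.psi s (2 ^ (1 + j)) = D.psi s (2 ^ (1 + j)) * c := by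
  induction h with
  | zero =>
    simp [chainK, Subgroup.mem_inf, Subgroup.mem_centralizer_singleton_iff]
  | succ h ih =>
    rw [chainK, Subgroup.mem_inf, ih, Subgroup.mem_centralizer_singleton_iff]
    constructor
    · rintro ⟨⟨a, b⟩, c'⟩
      refine ⟨a, fun j hj => ?_⟩
      rcases Nat.lt_succ_iff_lt_or_eq.1 hj with e | rfl
      exacts [b j e, c']
    · rintro ⟨a, b⟩
      exact ⟨⟨a, fun j hj => b j (by omega)⟩, b h (by omega)⟩

theorem Mdl.word (M : Mdl D g s) : ∀ wd : List (Fin 10), ∃ c ∈ Nm S,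
    ∀ v, v < 2048 → c * D.psi s v * c⁻¹ = D.psi s (runW finalIm wd v) := by
  intro wd
  induction wd with
  | nil => exact ⟨1, one_mem _, fun v _ => by rw [one_mul, inv_one, mul_one]; rfl⟩
  | cons n wd ih =>
    obtain ⟨c, hc, hca⟩ := ih
    refine ⟨c * genEl D n, mul_mem hc (M.gen_mem n), fun v hv => ?_⟩
    rw [show runW finalIm (n :: wd) v = runW finalIm wd (appL (finalIm n) v) from rfl,
      ← hca _ (appL_lt (final_lt n) v), ← M.gen n v hv]
    group

theorem Mdl.reach_conj (M : Mdl D g s) (i : ℕ) (hi : i < 4) : ∀ k, ∀ v ∈ reach i k,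
    v < 2048 ∧ ∃ c ∈ chainK D s i, c * D.psi s (2 ^ (1 + i)) * c⁻¹ = D.psi s v := by
  have hp : ∀ j, j < 4 → 2 ^ (1 + j) < 2048 := fun j hj =>
    lt_of_le_of_lt (Nat.pow_le_pow_right (by norm_num) (by omega : 1 + j ≤ 4)) (by norm_num)
  intro k
  induction k with
  | zero =>
    intro v hv
    rw [reach, List.mem_singleton] at hv
    subst hv
    exact ⟨hp i hi, 1, one_mem _, by group⟩
  | succ k ih =>
    intro v hv
    rw [reach, grow, List.mem_eraseDups, List.mem_append, List.mem_flatMap] at hv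
    rcases hv with h | ⟨wd, hw, hm⟩
    · exact ih v h
    obtain ⟨u, hu, rfl⟩ := List.mem_map.1 hm
    obtain ⟨hult, c, hc, hce⟩ := ih u hu
    obtain ⟨d, hd, hde⟩ := M.word wd
    refine ⟨runW_lt final_lt wd u hult, d * c, mul_mem ?_ hc, by rw [← hde u hult, ← hce]; group⟩
    have hfix : ∀ x, x < 2048 → runW finalIm wd x = x → d * D.psi s x = D.psi s x * d := fun x hx e =>
      mul_inv_eq_iff_eq_mul.1 (by rw [hde x hx, e])
    refine (mem_chainK i).2 ⟨⟨hd, ?_⟩, fun j hj => hfix _ (hp j (by omega)) ?_⟩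
    · have := hfix 1 (by norm_num) (by
        clear hw hde hfix hm hult hu ih
        induction wd with
        | nil => rfl
        | cons n wd ih' =>
          show runW finalIm wd (appL (finalIm n) 1) = 1
          rw [fix_z, ih'])
      rwa [D.psi_one] at this
    · have h := (List.mem_filter.1 hw).2
      rw [List.all_eq_true] at h
      exact beq_iff_eq.1 (h j (List.mem_range.2 hj))

theorem Mdl.step_bound (M : Mdl D g s) (i k : ℕ) (hi : i < 4) :
    (reach i k).toFinset.card * Nat.card ↥(chainK D s (i + 1)) ≤ Nat.card ↥(chainK D s i) := by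
  classical
  have h := orbit_bound (chainK D s i) (D.psi s (2 ^ (1 + i)))
    (fun a : {v // v ∈ (reach i k).toFinset} => D.psi s a.1) (fun a b e => ?_)
    (fun a => (M.reach_conj i hi k a.1 (List.mem_toFinset.1 a.2)).2)
  · rw [Fintype.card_coe] at h
    exact h
  · have ha := (M.reach_conj i hi k a.1 (List.mem_toFinset.1 a.2)).1
    have hb := (M.reach_conj i hi k b.1 (List.mem_toFinset.1 b.2)).1
    exact Subtype.ext (congrArg Fin.val (D.psi_inj s (v := ⟨_, ha⟩) (v' := ⟨_, hb⟩) e))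

theorem Mdl.Au_le_chain (M : Mdl D g s) (i : ℕ) : Au S ≤ chainK D s i := fun c hc =>
  (mem_chainK i).2 ⟨⟨Subgroup.le_normalizer hc, Au_z hc⟩, fun j _ => D.Au_comm M.good hc (D.psi_mem s _)⟩

/-- The order of the normaliser is at least that of the split extension. -/
theorem Mdl.card_ge (M : Mdl D g s) : 244823040 * 2048 ≤ Nat.card ↥(Nm S) := by
  classical
  obtain ⟨r0, r1, r2, r3⟩ := reach_sizes
  have h0 := M.step_bound 0 7 (by norm_num)
  have h1 := M.step_bound 1 6 (by norm_num)
  have h2 := M.step_bound 2 5 (by norm_num)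
  have h3 := M.step_bound 3 4 (by norm_num)
  rw [r0] at h0; rw [r1] at h1; rw [r2] at h2; rw [r3] at h3
  have h4 : 2048 ≤ Nat.card ↥(chainK D s 4) := by
    rw [← D.card_Au]
    exact Nat.card_le_card_of_injective _ (Subgroup.inclusion_injective (M.Au_le_chain 4))
  have hk : 322560 * 2048 ≤ Nat.card ↥(chainK D s 0) := by
    calc 322560 * 2048 = 30 * (28 * (24 * (16 * 2048))) := by norm_num
      _ ≤ 30 * (28 * (24 * (16 * Nat.card ↥(chainK D s 4)))) := by gcongr
      _ ≤ 30 * (28 * (24 * Nat.card ↥(chainK D s 3))) := by gcongr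
      _ ≤ 30 * (28 * Nat.card ↥(chainK D s 2)) := by gcongr
      _ ≤ 30 * Nat.card ↥(chainK D s 1) := by gcongr
      _ ≤ Nat.card ↥(chainK D s 0) := h0
  have hz := orbit_bound (Nm S) z (fun a : {v : Fin 2048 // zTab.testBit v.val = true} => D.psi s a.1.val)
    (fun a b e => Subtype.ext (D.psi_inj s e))
    (fun a => M.orbit a.1.val a.1.isLt a.2)
  rw [zTab_card] at hz
  calc 244823040 * 2048 = 759 * (322560 * 2048) := by norm_num
    _ ≤ 759 * Nat.card ↥(chainK D s 0) := Nat.mul_le_mul_left _ hk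
    _ ≤ Nat.card ↥(Nm S) := hz

end Cfsg.Agent.CoOneGolay
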