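import Cfsg.Agent.CoOneGolay.Gens

/-!
Fixing the signs: the ten generators act by the tabled matrices.
-/

set_option autoImplicit false

open Cfsg Cfsg.Agent.ThreeTrans.OrthCohom Cfsg.Agent.Classical.Quad QuadraticMap Cfsg.Agent.LargeExtra
open Cfsg.Agent.CoOneType Cfsg.Agent.CoOneType.CoOne

namespace Cfsg.Agent.CoOneGolay

/-- Parity of six bits. -/
def pty6 (x : ℕ) : Bool :=
  (((x.testBit 0 != x.testBit 1) != x.testBit 2) != (x.testBit 3 != x.testBit 4)) != x.testBit 5

/-- A change of sign of the line lifts. -/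
def gau (s v : ℕ) : ℕ := v ^^^ (if pty6 (s &&& (v >>> 5)) then 1 else 0)

/-- The targets of the two moved lines. -/
def mTarget : Fin 6 → ℕ × ℕ := ![(1, 2), (0, 4), (1, 3), (2, 4), (1, 5), (3, 4)]

/-- The signs after a change of the lifts. -/
def shiftSign (n : Fin 6) (s m : ℕ) : ℕ :=
  m ^^^ ((if s.testBit (mTarget n).1 then 1 else 0) ^^^ (if s.testBit (mTarget n).2 then 2 else 0))

/-- Applying a word. -/
def runW (M : Fin 10 → List ℕ) (w : List (Fin 10)) (v : ℕ) : ℕ := w.foldl (fun x n => appL (M n) x) v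

/-- Generators from signs. -/
def mkIm (a b c d e f : ℕ) : Fin 10 → List ℕ :=
  ![sgnIm 0 a, sgnIm 1 b, sgnIm 2 c, sgnIm 3 d, sgnIm 4 e, sgnIm 5 f, baseIm 6, baseIm 7, baseIm 8, baseIm 9]

theorem pty6_xor (a b : ℕ) : pty6 (a ^^^ b) = (pty6 a != pty6 b) := by
  simp only [pty6, Nat.testBit_xor]
  generalize a.testBit 0 = a0
  generalize a.testBit 1 = a1
  generalize a.testBit 2 = a2
  generalize a.testBit 3 = a3
  generalize a.testBit 4 = a4
  generalize a.testBit 5 = a5
  cases a0 <;> cases a1 <;> cases a2 <;> cases a3 <;> cases a4 <;> cases a5 <;> simp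

theorem gau_xor (s x y : ℕ) : gau s (x ^^^ y) = gau s x ^^^ gau s y := by
  simp only [gau, Nat.shiftRight_xor_distrib, Nat.and_xor_distrib_left, pty6_xor]
  rcases pty6 (s &&& x >>> 5) with _ | _ <;> rcases pty6 (s &&& y >>> 5) with _ | _ <;>
    simp [Nat.xor_assoc, Nat.xor_comm, Nat.xor_left_comm]

theorem mk_ok : ∀ n : Fin 6, ∀ m : Fin 8, (∀ x ∈ sgnIm n m.val, x < 2048) ∧ appL (sgnIm n m.val) 1 = 1 := by
  decide +kernel

theorem shift_lt : ∀ n : Fin 6, ∀ s : Fin 64, ∀ m : Fin 8, shiftSign n s.val m.val < 8 := by decide +kernel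

theorem gau_flag (s : ℕ) (P : Prop) [Decidable P] : gau s (if P then 1 else 0) = if P then 1 else 0 := by
  split_ifs <;> simp [gau, pty6, Nat.shiftRight_eq_div_pow]

theorem appL_zero' (l : List ℕ) : appL l 0 = 0 := by
  have := appL_xor l 1 1
  rwa [Nat.xor_self, Nat.xor_self] at this

theorem gau_pow_code : ∀ s : Fin 64, ∀ k : Fin 11,
    gau s.val (2 ^ k.val) = 2 ^ k.val ^^^ (if 5 ≤ k.val ∧ s.val.testBit (k.val - 5) = true then 1 else 0) := by
  decide +kernel

theorem gau_pow {s : Fin 64} {k : Fin 11} :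
    gau s.val (2 ^ k.val) = 2 ^ k.val ^^^ (if 5 ≤ k.val ∧ s.val.testBit (k.val - 5) = true then 1 else 0) :=
  gau_pow_code s k

theorem sgn_shift : ∀ n : Fin 6, ∀ s : Fin 64, ∀ m : Fin 8, ∀ k : Fin 11,
    (if (List.range 3).any (fun j => (shiftSign n s.val m.val).testBit j && (tpos n).getD j 0 == k.val) then 1 else 0) =
      (if (List.range 3).any (fun j => m.val.testBit j && (tpos n).getD j 0 == k.val) then 1 else 0) ^^^
        (if (List.range 3).any (fun j => (shiftSign n s.val 0).testBit j && (tpos n).getD j 0 == k.val) then 1 else 0) := by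
  have key : ∀ n : Fin 6, ∀ m d : Fin 8, ∀ k : Fin 11,
      (if (List.range 3).any (fun j => (m.val ^^^ d.val).testBit j && (tpos n).getD j 0 == k.val) then 1 else 0) =
        (if (List.range 3).any (fun j => m.val.testBit j && (tpos n).getD j 0 == k.val) then 1 else 0) ^^^
          (if (List.range 3).any (fun j => d.val.testBit j && (tpos n).getD j 0 == k.val) then 1 else 0) := by
    decide +kernel
  intro n s m k
  have e : shiftSign n s.val m.val = m.val ^^^ shiftSign n s.val 0 := by simp [shiftSign]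
  rw [e]
  exact key n m ⟨shiftSign n s.val 0, shift_lt n s 0⟩ k

theorem gauge_small : ∀ n : Fin 6, ∀ s : Fin 64, ∀ k : Fin 11,
    gau s.val ((baseIm ⟨n.val, by omega⟩).getD k.val 0) ^^^
        (if 5 ≤ k.val ∧ s.val.testBit (k.val - 5) = true then 1 else 0) =
      (baseIm ⟨n.val, by omega⟩).getD k.val 0 ^^^
        (if (List.range 3).any (fun j => (shiftSign n s.val 0).testBit j && (tpos n).getD j 0 == k.val) then 1 else 0) := by
  decide +kernel

theorem gauge_code : ∀ n : Fin 6, ∀ s : Fin 64, ∀ m : Fin 8, ∀ k : Fin 11,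
    gau s.val (appL (sgnIm n m.val) (gau s.val (2 ^ k.val))) =
      appL (sgnIm n (shiftSign n s.val m.val)) (2 ^ k.val) := by
  intro n s m k
  rw [gau_pow, appL_xor, (basis_appL k n m).1, (basis_appL k n ⟨_, shift_lt n s m⟩).1, gau_xor, gau_xor,
    sgn_shift n s m k]
  have h := gauge_small n s k
  have hf := gau_flag s.val
  rw [show appL (sgnIm n m.val) (if 5 ≤ k.val ∧ s.val.testBit (k.val - 5) = true then 1 else 0) =
    if 5 ≤ k.val ∧ s.val.testBit (k.val - 5) = true then 1 else 0 by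
      split_ifs
      exacts [(mk_ok n m).2, appL_zero' _], hf, hf]
  rw [Nat.xor_assoc, Nat.xor_comm (if (List.range 3).any _ = true then 1 else 0) (if 5 ≤ k.val ∧ _ then 1 else 0),
    ← Nat.xor_assoc, h, Nat.xor_assoc]
  congr 1
  exact Nat.xor_comm _ _

theorem gauge_Y : ∀ i : Fin 4, ∀ s : Fin 64, ∀ k : Fin 11,
    gau s.val (appL (baseIm ⟨6 + i.val, by omega⟩) (gau s.val (2 ^ k.val))) =
      appL (baseIm ⟨6 + i.val, by omega⟩) (2 ^ k.val) := by decide +kernel

/-- The gauge conditions. -/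
def gaugeOK (a b c d e : ℕ) : Bool :=
  !a.testBit 0 && !a.testBit 1 && !b.testBit 0 && !c.testBit 1 && !d.testBit 1 && !e.testBit 1

theorem gauge_choice : ∀ a b c d e : Fin 8, ∀ s : Fin 64,
    s.val.testBit 0 = b.val.testBit 0 → s.val.testBit 1 = a.val.testBit 0 → s.val.testBit 2 = a.val.testBit 1 →
    s.val.testBit 3 = c.val.testBit 1 → s.val.testBit 4 = d.val.testBit 1 → s.val.testBit 5 = e.val.testBit 1 →
    gaugeOK (shiftSign 0 s.val a.val) (shiftSign 1 s.val b.val) (shiftSign 2 s.val c.val)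
      (shiftSign 3 s.val d.val) (shiftSign 4 s.val e.val) = true := by
  intro a b c d e s h0 h1 h2 h3 h4 h5
  simp only [gaugeOK, shiftSign, Nat.testBit_xor]
  simp [mTarget, h0, h1, h2, h3, h4, h5]
  refine ⟨⟨⟨⟨⟨?_, ?_⟩, ?_⟩, ?_⟩, ?_⟩, ?_⟩ <;>
    (repeat' split) <;> simp_all [Nat.testBit]

/-- The loops single out the signs. -/
def loopTest (a b c d e f : ℕ) : Bool :=
  (a == solSign 0 && b == solSign 1 && c == solSign 2 && d == solSign 3 && e == solSign 4 && f == solSign 5) ||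
    loops.any fun l => runW (mkIm a b c d e f) l.2 384 == runW (mkIm a b c d e f) l.1 384 ^^^ 1

theorem loops_decide : [0, 4].all (fun a => [0, 2, 4, 6].all fun b => [0, 1, 4, 5].all fun c =>
    [0, 1, 4, 5].all fun d => [0, 1, 4, 5].all fun e => (List.range 8).all fun f => loopTest a b c d e f) = true := by
  decide +kernel

theorem gauge_lists : ∀ a b c d e : Fin 8, gaugeOK a.val b.val c.val d.val e.val = true →
    a.val ∈ [0, 4] ∧ b.val ∈ [0, 2, 4, 6] ∧ c.val ∈ [0, 1, 4, 5] ∧ d.val ∈ [0, 1, 4, 5] ∧ e.val ∈ [0, 1, 4, 5] := by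
  intro a b c d e h
  simp only [gaugeOK, Bool.and_eq_true, Bool.not_eq_true'] at h
  obtain ⟨⟨⟨⟨⟨h1, h2⟩, h3⟩, h4⟩, h5⟩, h6⟩ := h
  have k1 : ∀ x : Fin 8, x.val.testBit 0 = false → x.val.testBit 1 = false → x.val ∈ [0, 4] := by decide +kernel
  have k2 : ∀ x : Fin 8, x.val.testBit 0 = false → x.val ∈ [0, 2, 4, 6] := by decide +kernel
  have k3 : ∀ x : Fin 8, x.val.testBit 1 = false → x.val ∈ [0, 1, 4, 5] := by decide +kernel
  exact ⟨k1 a h1 h2, k2 b h3, k3 c h4, k3 d h5, k3 e h6⟩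

theorem final_eq : ∀ n : Fin 10,
    mkIm (solSign 0) (solSign 1) (solSign 2) (solSign 3) (solSign 4) (solSign 5) n = finalIm n := by
  decide +kernel

theorem mk_mem : ∀ i : Fin 4, baseIm ⟨6 + i.val, by omega⟩ = finalIm ⟨6 + i.val, by omega⟩ := by decide +kernel

theorem Y_ok : ∀ i : Fin 4, (∀ x ∈ baseIm ⟨6 + i.val, by omega⟩, x < 2048) ∧
    appL (baseIm ⟨6 + i.val, by omega⟩) 1 = 1 := by decide +kernel

theorem Y_reach : ∀ u : Fin 32, ∃ a : Fin 16,
    runW (mkIm 0 0 0 0 0 0) (((List.range 4).filter fun i => a.val.testBit i).map fun i => Fin.ofNat 10 (6 + i))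
      (384 + u.val) ∈ [384, 385] := by decide +kernel

theorem s_act_code : ∀ y : Fin 256, sgn 8 (s0n y.val) = altn 12 y.val ∧ s0n y.val < 256 := by decide +kernel

theorem top_part : ∀ v : Fin 2048, v.val >>> 5 < 64 ∧
    (v.val >>> 5 = 12 → ∃ u : Fin 32, v.val = 384 + u.val) := by decide +kernel

theorem gau_lt {s v : ℕ} (hv : v < 2048) : gau s v < 2048 :=
  Nat.xor_lt_two_pow (n := 11) hv (by split_ifs <;> norm_num)

theorem gau_shift (s v : ℕ) : gau s v >>> 5 = v >>> 5 := by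
  rw [gau, Nat.shiftRight_xor_distrib]
  split_ifs <;> simp [Nat.shiftRight_eq_div_pow]

theorem gau_gau (s v : ℕ) : gau s (gau s v) = v := by
  conv_lhs => rw [gau, gau_shift, gau, Nat.xor_assoc, Nat.xor_self, Nat.xor_zero]

theorem runW_xor (M : Fin 10 → List ℕ) : ∀ (w : List (Fin 10)) (x y : ℕ),
    runW M w (x ^^^ y) = runW M w x ^^^ runW M w y := by
  intro w
  induction w with
  | nil => intro x y; rfl
  | cons n w ih =>
    intro x y
    show runW M w (appL (M n) (x ^^^ y)) = _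
    rw [appL_xor, ih]
    rfl

variable {G : Type*} [Group G] [Finite G] {z : G} {S : CoOne z} {w : G}

namespace Frm

variable (D : Frm S w)
include D

/-- Codes after the change of lifts. -/
noncomputable def psi (s v : ℕ) : G := D.phi (gau s v)

theorem psi_xor (hgood : D.X 2 * D.X 3 = D.X 3 * D.X 2) (s : ℕ) {x y : ℕ} (hx : x < 2048) (hy : y < 2048) :
    D.psi s (x ^^^ y) = D.psi s x * D.psi s y := by
  rw [psi, psi, psi, gau_xor, D.phi_xor hgood _ _ (gau_lt hx) (gau_lt hy)]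

theorem psi_mem (s v : ℕ) : D.psi s v ∈ Au S := D.phi_mem _

theorem psi_surj (s : ℕ) {c : G} (hc : c ∈ Au S) : ∃ v : Fin 2048, c = D.psi s v.val := by
  obtain ⟨v, hv⟩ := D.phi_surj hc
  exact ⟨⟨gau s v.val, gau_lt v.isLt⟩, by rw [psi, gau_gau]; exact hv⟩

theorem psi_inj (s : ℕ) {v v' : Fin 2048} (h : D.psi s v.val = D.psi s v'.val) : v = v' := by
  have := D.phi_inj (v := ⟨gau s v.val, gau_lt v.isLt⟩) (v' := ⟨gau s v'.val, gau_lt v'.isLt⟩) h
  have := congrArg (fun x : Fin 2048 => gau s x.val) this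
  simp only [gau_gau] at this
  exact Fin.ext this

theorem psi_one (s : ℕ) : D.psi s 1 = z := by
  rw [psi, show gau s 1 = 1 by simp [gau, pty6, Nat.shiftRight_eq_div_pow], D.phi_z]

end Frm

theorem mirror_code {g : G} {D : Frm S w} (M : Mir D g) {v : Fin 2048}
    (hs : g⁻¹ * D.X 3 * g = D.phi v.val) : v.val >>> 5 = 12 := by
  have hlt := (top_part v).1
  have h := altn_sep ⟨_, hlt⟩ ⟨12, by norm_num⟩ fun i => by
    have h16 : (16 <<< i.val : ℕ) < 256 := by revert i; decide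
    refine dc_inj (altn_lt ⟨_, hlt⟩ ⟨_, h16⟩) (altn_lt ⟨12, by norm_num⟩ ⟨_, h16⟩) ?_
    have hm := D.phi_mem v.val
    have hu := D.phiU_spec ⟨v.val >>> 1 % 16, Nat.mod_lt _ (by norm_num)⟩
    have hoc : ex z (v.val.testBit 0) * D.phiU (v.val >>> 1 % 16) ∈ oc z := by
      refine mul_mem ?_ hu.1
      cases v.val.testBit 0
      · exact one_mem _
      · exact S.zmem
    rw [← (s_act_code ⟨_, h16⟩).1, ← sg_dc (by norm_num) (s_act_code ⟨_, h16⟩).2, ← s0_dc h16, ← M.act, hs,
      show D.phi v.val = ex z (v.val.testBit 0) * D.phiU (v.val >>> 1 % 16) * D.phiX (v.val >>> 5) from rfl,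
      S.act_mul (S.comm hoc) (Au_z (D.phiX_mem _)), S.act_inner hoc, one_mul, D.act_phiX _ h16]
  exact congrArg Fin.val h

/-- The ten generators. -/
noncomputable def genEl (D : Frm S w) (n : Fin 10) : G :=
  if h : n.val < 6 then D.T ⟨n.val, h⟩ else D.E (⟨n.val - 6, by omega⟩ + 4)

/-- With suitable lifts the generators act by the tables. -/
theorem exists_final {D : Frm S w} {g : G} (M : Mir D g) :
    ∃ s : Fin 64, ∀ n : Fin 10, ∀ v, v < 2048 →
      genEl D n * D.psi s.val v * (genEl D n)⁻¹ = D.psi s.val (appL (finalIm n) v) := by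
  classical
  obtain ⟨hgood, hnorm⟩ := M.good
  choose m hm using D.T_conj hgood
  obtain ⟨s, h0, h1, h2, h3, h4, h5⟩ := six_bits ((m 1).val.testBit 0) ((m 0).val.testBit 0) ((m 0).val.testBit 1)
    ((m 2).val.testBit 1) ((m 3).val.testBit 1) ((m 4).val.testBit 1)
  have hok := gauge_choice (m 0) (m 1) (m 2) (m 3) (m 4) s h0 h1 h2 h3 h4 h5
  let m' : Fin 6 → Fin 8 := fun n => ⟨shiftSign n s.val (m n).val, shift_lt n s (m n)⟩
  let I : Fin 10 → List ℕ := mkIm (m' 0).val (m' 1).val (m' 2).val (m' 3).val (m' 4).val (m' 5).val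
  have hTI : ∀ n : Fin 6, ∀ v, v < 2048 →
      D.T n * D.psi s.val v * (D.T n)⁻¹ = D.psi s.val (appL (sgnIm n (m' n).val) v) := by
    intro n v hv
    rw [Frm.psi, Frm.psi, hm n _ (gau_lt hv)]
    congr 1
    refine bit_induction (P := fun v => appL (sgnIm n (m n).val) (gau s.val v) =
      gau s.val (appL (sgnIm n (m' n).val) v)) ?_ (fun x y _ _ hx hy => ?_) (fun k => ?_) hv
    · have e1 : gau s.val 0 = 0 := by simp [gau, pty6]
      have e2 : ∀ l : List ℕ, appL l 0 = 0 := fun l => by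
        have := appL_xor l 1 1
        rwa [Nat.xor_self, Nat.xor_self] at this
      rw [e1, e2, e2, e1]
    · rw [gau_xor, appL_xor, hx, hy, appL_xor, gau_xor]
    · have h := congrArg (gau s.val) (gauge_code n s (m n) k)
      rw [gau_gau] at h
      exact h
  have hYI : ∀ i : Fin 4, ∀ v, v < 2048 →
      D.E (⟨i.val, by omega⟩ + 4) * D.psi s.val v * (D.E (⟨i.val, by omega⟩ + 4))⁻¹ =
        D.psi s.val (appL (baseIm ⟨6 + i.val, by omega⟩) v) := by
    intro i v hv
    rw [Frm.psi, Frm.psi, D.Y_conj hgood i _ (gau_lt hv)]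
    congr 1
    refine bit_induction (P := fun v => appL (baseIm ⟨6 + i.val, by omega⟩) (gau s.val v) =
      gau s.val (appL (baseIm ⟨6 + i.val, by omega⟩) v)) ?_ (fun x y _ _ hx hy => ?_) (fun k => ?_) hv
    · have e1 : gau s.val 0 = 0 := by simp [gau, pty6]
      have e2 : ∀ l : List ℕ, appL l 0 = 0 := fun l => by
        have := appL_xor l 1 1
        rwa [Nat.xor_self, Nat.xor_self] at this
      rw [e1, e2, e1]
    · rw [gau_xor, appL_xor, hx, hy, appL_xor, gau_xor]
    · have h := congrArg (gau s.val) (gauge_Y i s k)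
      rw [gau_gau] at h
      exact h
  have hI : ∀ n : Fin 10, (∀ v, v < 2048 → genEl D n * D.psi s.val v * (genEl D n)⁻¹ = D.psi s.val (appL (I n) v)) ∧
      (∀ x ∈ I n, x < 2048) ∧ appL (I n) 1 = 1 := by
    intro n
    by_cases h : n.val < 6
    · obtain ⟨k, rfl⟩ : ∃ k : Fin 6, n = ⟨k.val, lt_trans k.isLt (by norm_num)⟩ := ⟨⟨n.val, h⟩, rfl⟩
      have e : I ⟨k.val, by omega⟩ = sgnIm k (m' k).val := by fin_cases k <;> rfl
      rw [e]
      refine ⟨fun v hv => ?_, (mk_ok k (m' k)).1, (mk_ok k (m' k)).2⟩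
      rw [genEl, dif_pos h]
      exact hTI k v hv
    · obtain ⟨i, rfl⟩ : ∃ i : Fin 4, n = ⟨6 + i.val, Nat.add_lt_add_left i.isLt 6⟩ :=
        ⟨⟨n.val - 6, by omega⟩, Fin.ext (by simp only; omega)⟩
      have e : I ⟨6 + i.val, by omega⟩ = baseIm ⟨6 + i.val, by omega⟩ := by fin_cases i <;> rfl
      rw [e]
      refine ⟨fun v hv => ?_, (Y_ok i).1, (Y_ok i).2⟩
      rw [genEl, dif_neg h, show (⟨(⟨6 + i.val, by omega⟩ : Fin 10).val - 6, by simp only; omega⟩ : Fin 8) =
        ⟨i.val, by omega⟩ from Fin.ext (by simp only; omega)]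
      exact hYI i v hv
  let P : ℕ → Prop := fun v => IsConj z (D.psi s.val v)
  have hrun : ∀ (l : List (Fin 10)) (v : ℕ), v < 2048 →
      runW I l v < 2048 ∧ (P (runW I l v) ↔ P v) := by
    intro l
    induction l with
    | nil => exact fun v hv => ⟨hv, Iff.rfl⟩
    | cons n l ih =>
      intro v hv
      obtain ⟨e1, e2, -⟩ := hI n
      obtain ⟨a1, a2⟩ := ih (appL (I n) v) (appL_lt e2 v)
      refine ⟨a1, a2.trans ?_⟩
      have hc : IsConj (D.psi s.val v) (D.psi s.val (appL (I n) v)) := isConj_iff.2 ⟨genEl D n, e1 v hv⟩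
      exact ⟨fun h => h.trans hc.symm, fun h => h.trans hc⟩
  have hone : ∀ (l : List (Fin 10)) (v : ℕ), runW I l (v ^^^ 1) = runW I l v ^^^ 1 := by
    intro l v
    rw [runW_xor]
    congr 1
    induction l with
    | nil => rfl
    | cons n l ih =>
      show runW I l (appL (I n) 1) = 1
      rw [(hI n).2.2, ih]
  -- exactly one lift of the rank four vector
  have hex : (P 384 ∧ ¬ P 385) ∨ (P 385 ∧ ¬ P 384) := by
    have hX : g⁻¹ * D.X 3 * g ∈ Au S := hnorm _ (D.X_Au 3)
    obtain ⟨v, hv⟩ := D.psi_surj s.val hX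
    have h12 : v.val >>> 5 = 12 := by
      rw [← gau_shift s.val]
      exact mirror_code M (v := ⟨gau s.val v.val, gau_lt v.isLt⟩) hv
    obtain ⟨u, hu⟩ := (top_part v).2 h12
    have hP : P v.val := by
      show IsConj z (D.psi s.val v.val)
      rw [← hv]
      exact M.conj
    have hnP : ¬ P (v.val ^^^ 1) := by
      show ¬ IsConj z (D.psi s.val (v.val ^^^ 1))
      rw [D.psi_xor hgood s.val v.isLt (by norm_num), ← hv, D.psi_one]
      exact M.nconj
    obtain ⟨a, ha⟩ := Y_reach u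
    have hY : ∀ (l : List ℕ) (v : ℕ), (∀ i ∈ l, i < 4) →
        runW (mkIm 0 0 0 0 0 0) (l.map fun i => Fin.ofNat 10 (6 + i)) v =
          runW I (l.map fun i => Fin.ofNat 10 (6 + i)) v := by
      intro l
      induction l with
      | nil => intros; rfl
      | cons i l ih =>
        intro v hl
        have hi : i < 4 := hl i List.mem_cons_self
        have e : (mkIm 0 0 0 0 0 0) (Fin.ofNat 10 (6 + i)) = I (Fin.ofNat 10 (6 + i)) := by
          interval_cases i <;> rfl
        show runW _ _ (appL _ v) = runW _ _ (appL _ v)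
        rw [e]
        exact ih _ fun j hj => hl j (List.mem_cons_of_mem _ hj)
    rw [hY _ _ fun i hi => List.mem_range.1 (List.mem_filter.1 hi).1, ← hu] at ha
    set l := ((List.range 4).filter fun i => a.val.testBit i).map fun i => Fin.ofNat 10 (6 + i)
    have h1 := (hrun l v.val v.isLt).2.2 hP
    have h2 : ¬ P (runW I l v.val ^^^ 1) := fun h =>
      hnP ((hrun l _ (Nat.xor_lt_two_pow (n := 11) v.isLt (by norm_num))).2.1 (by rw [hone]; exact h))
    simp only [List.mem_cons, List.not_mem_nil, or_false] at ha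
    rcases ha with e | e <;> rw [e] at h1 h2
    · exact Or.inl ⟨h1, h2⟩
    · exact Or.inr ⟨h1, h2⟩
  have hbad : ¬ ∃ l ∈ loops, runW I l.2 384 = runW I l.1 384 ^^^ 1 := by
    rintro ⟨l, -, e⟩
    have a := (hrun l.2 384 (by norm_num)).2
    rw [e, ← hone] at a
    have b := (hrun l.1 385 (by norm_num)).2
    rw [show (385 : ℕ) = 384 ^^^ 1 from rfl] at b
    have hiff : P 385 ↔ P 384 := b.symm.trans a
    rcases hex with ⟨p, q⟩ | ⟨p, q⟩
    · exact q (hiff.2 p)
    · exact q (hiff.1 p)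
  have hsol : (m' 0).val = solSign 0 ∧ (m' 1).val = solSign 1 ∧ (m' 2).val = solSign 2 ∧
      (m' 3).val = solSign 3 ∧ (m' 4).val = solSign 4 ∧ (m' 5).val = solSign 5 := by
    obtain ⟨la, lb, lc, ld, le'⟩ := gauge_lists (m' 0) (m' 1) (m' 2) (m' 3) (m' 4) hok
    have h := loops_decide
    simp only [List.all_eq_true] at h
    have h6 := h _ la _ lb _ lc _ ld _ le' (m' 5).val (List.mem_range.2 (m' 5).isLt)
    simp only [loopTest, Bool.or_eq_true, Bool.and_eq_true, beq_iff_eq, List.any_eq_true] at h6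
    rcases h6 with ⟨⟨⟨⟨⟨a, b⟩, c⟩, d⟩, e⟩, f⟩ | h6
    · exact ⟨a, b, c, d, e, f⟩
    · exact absurd h6 hbad
  refine ⟨s, fun n v hv => ?_⟩
  obtain ⟨a, b, c, d, e, f⟩ := hsol
  rw [(hI n).1 v hv, ← final_eq n]
  simp only [I, a, b, c, d, e, f]

end Cfsg.Agent.CoOneGolay
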