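import Cfsg.Agent.CoOneGolay.Line

/-!
The centraliser of the inverse image of a maximal totally singular subspace: eleven bits.
-/

set_option autoImplicit false

open Cfsg Cfsg.Agent.ThreeTrans.OrthCohom Cfsg.Agent.Classical.Quad QuadraticMap Cfsg.Agent.LargeExtra
open Cfsg.Agent.CoOneType Cfsg.Agent.CoOneType.CoOne

namespace Cfsg.Agent.CoOneGolay

/-- First index of a pair of the four low indices. -/
def pI : Fin 6 → Fin 8 := ![0, 0, 0, 1, 1, 2]

/-- Second index of a pair of the four low indices. -/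
def pJ : Fin 6 → Fin 8 := ![1, 2, 3, 2, 3, 3]

/-- A transvection on codes. -/
def tln (p v y : ℕ) : ℕ := (y ^^^ (if Bn y v then p else 0)) ^^^ (if Bn y p then v else 0)

/-- A power with a Boolean exponent. -/
def ex {G : Type*} [Group G] (g : G) (b : Bool) : G := if b then g else 1

/-- One factor of an element of the unipotent radical, on codes. -/
def stp (k : Fin 6) (b : Bool) (y : ℕ) : ℕ :=
  if b then tln (2 ^ (pI k).val) (2 ^ (pJ k).val) y else y

/-- An element of the unipotent radical, on codes. -/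
def altn (a y : ℕ) : ℕ :=
  stp 0 (a.testBit 0) (stp 1 (a.testBit 1) (stp 2 (a.testBit 2)
    (stp 3 (a.testBit 3) (stp 4 (a.testBit 4) (stp 5 (a.testBit 5) y)))))

theorem pair_facts : ∀ k : Fin 6, (pI k).val < 4 ∧ (pJ k).val < 4 ∧ pI k ≠ pJ k ∧ pJ k ≠ pI k + 4 := by
  decide +kernel

theorem low_facts : ∀ i j : Fin 8, i.val < 4 → j.val < 4 → j ≠ i + 4 := by decide

theorem U_perp : ∀ u : Fin 16, ∀ i : Fin 8, i.val < 4 → Bn u.val (2 ^ i.val) = false := by decide +kernel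

theorem stp_lt : ∀ k : Fin 6, ∀ b : Bool, ∀ y : Fin 256, stp k b y.val < 256 := by decide +kernel

theorem altn_lt : ∀ a : Fin 64, ∀ y : Fin 256, altn a.val y.val < 256 := fun _ y =>
  stp_lt 0 _ ⟨_, stp_lt 1 _ ⟨_, stp_lt 2 _ ⟨_, stp_lt 3 _ ⟨_, stp_lt 4 _ ⟨_, stp_lt 5 _ y⟩⟩⟩⟩⟩

theorem tln_lt (a b : Fin 8) (y : Fin 256) : tln (2 ^ a.val) (2 ^ b.val) y.val < 256 := by
  unfold tln
  exact xor_lt (xor_lt y.isLt (by split_ifs; exacts [(un_code a).1, by norm_num]))
    (by split_ifs; exacts [(un_code b).1, by norm_num])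

theorem tln_invol : ∀ a b : Fin 8, ∀ y : Fin 256, b ≠ a + 4 →
    y.val = tln (2 ^ a.val) (2 ^ b.val) (tln (2 ^ a.val) (2 ^ b.val) y.val) := by decide +kernel

theorem altn_low : ∀ a : Fin 64, ∀ u : Fin 16, altn a.val u.val = u.val := by decide +kernel

theorem altn_sep : ∀ a b : Fin 64, (∀ i : Fin 4, altn a.val (16 <<< i.val) = altn b.val (16 <<< i.val)) →
    a = b := by decide +kernel

theorem row_code : ∀ i : Fin 4, ∀ y : Fin 256,
    (∀ j : Fin 4, Bn y.val (2 ^ j.val) = decide (j = i)) → ∃ u : Fin 16, y.val = (16 <<< i.val) ^^^ u.val := by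
  decide +kernel

theorem sym_code : ∀ i j : Fin 4, ∀ u v : Fin 16,
    qn ((16 <<< i.val) ^^^ u.val) = false → Bn ((16 <<< i.val) ^^^ u.val) ((16 <<< j.val) ^^^ v.val) = false →
    u.val.testBit i.val = false ∧ u.val.testBit j.val = v.val.testBit i.val := by decide +kernel

/-- The index of a pair. -/
def pIdx : Fin 4 → Fin 4 → ℕ := ![![6, 0, 1, 2], ![0, 6, 3, 4], ![1, 3, 6, 5], ![2, 4, 5, 6]]

theorem alt_code : ∀ i : Fin 4, ∀ a : Fin 64, ∀ u : Fin 16,
    (∀ j : Fin 4, u.val.testBit j.val = a.val.testBit (pIdx i j)) → altn a.val (16 <<< i.val) = (16 <<< i.val) ^^^ u.val := by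
  decide +kernel

theorem six_bits : ∀ b0 b1 b2 b3 b4 b5 : Bool, ∃ a : Fin 64, a.val.testBit 0 = b0 ∧ a.val.testBit 1 = b1 ∧
    a.val.testBit 2 = b2 ∧ a.val.testBit 3 = b3 ∧ a.val.testBit 4 = b4 ∧ a.val.testBit 5 = b5 := by
  intro b0 b1 b2 b3 b4 b5
  refine ⟨⟨b0.toNat + 2 * b1.toNat + 4 * b2.toNat + 8 * b3.toNat + 16 * b4.toNat + 32 * b5.toNat, ?_⟩, ?_⟩ <;>
    cases b0 <;> cases b1 <;> cases b2 <;> cases b3 <;> cases b4 <;> cases b5 <;> decide

theorem U_of_perp : ∀ y : Fin 256, (∀ j : Fin 4, Bn y.val (2 ^ j.val) = false) → y.val < 16 := by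
  decide +kernel

theorem basis_list : ∀ k ∈ [1, 2, 4, 8, 16, 32, 64, 128],
    k < 256 ∧ (k < 16 ∨ ∃ i : Fin 4, k = 16 <<< i.val) := by decide +kernel

theorem four_bits : ∀ u : Fin 16, u.val = (((if u.val.testBit 0 then 1 else 0) ^^^
    (if u.val.testBit 1 then 2 else 0)) ^^^ (if u.val.testBit 2 then 4 else 0)) ^^^
      (if u.val.testBit 3 then 8 else 0) := by decide +kernel

theorem parts : ∀ b : Bool, ∀ u : Fin 16, ∀ a : Fin 64,
    ((if b then 1 else 0) + 2 * u.val + 32 * a.val).testBit 0 = b ∧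
    ((if b then 1 else 0) + 2 * u.val + 32 * a.val) >>> 1 % 16 = u.val ∧
    ((if b then 1 else 0) + 2 * u.val + 32 * a.val) >>> 5 = a.val := by decide +kernel

theorem of_parts : ∀ v : Fin 2048,
    v.val = (if v.val.testBit 0 then 1 else 0) + 2 * (v.val >>> 1 % 16) + 32 * (v.val >>> 5) := by
  decide +kernel

theorem move_code : ∀ i j m : Fin 8, i.val < 4 → j.val < 4 → m.val < 4 → i ≠ j → i ≠ m → j ≠ m →
    ∀ y : Fin 256, tln (2 ^ i.val) (2 ^ (j + 4).val) (tln (2 ^ j.val) (2 ^ m.val)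
      (tln (2 ^ i.val) (2 ^ (j + 4).val) (tln (2 ^ j.val) (2 ^ m.val) y.val))) =
        tln (2 ^ i.val) (2 ^ m.val) y.val := by
  decide +kernel

variable {G : Type*} [Group G] [Finite G] {z : G}

/-- Elements of `oc z` above the standard maximal totally singular subspace. -/
def Uset (S : CoOne z) : Set G := {a | a ∈ oc z ∧ ∃ u : Fin 16, S.pr a = dc u.val}

/-- The centraliser of those elements. -/
def Au (S : CoOne z) : Subgroup G := Subgroup.centralizer (Uset S)

variable {S : CoOne z} {w : G}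

theorem tl_dc (i j : Fin 8) {y : ℕ} (hy : y < 256) :
    tl (un i) (un j) (dc y) = dc (tln (2 ^ i.val) (2 ^ j.val) y) := by
  rw [tl, q_un, zero_smul, add_zero, Bp_dc hy (un_code j).1, Bp_dc hy (un_code i).1, bz_smul, bz_smul,
    ← dc_xor, ← dc_xor]
  rfl

theorem mem_Uset {a : G} {u : ℕ} (hu : u < 16) (ha : a ∈ oc z) (hp : S.pr a = dc u) : a ∈ Uset S :=
  ⟨ha, ⟨u, hu⟩, hp⟩

theorem z_mem_Uset : z ∈ Uset S :=
  mem_Uset (u := 0) (by norm_num) S.zmem (by rw [S.pr_z, dc_zero])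

theorem Au_z {c : G} (hc : c ∈ Au S) : c * z = z * c :=
  (Subgroup.mem_centralizer_iff.1 hc z z_mem_Uset).symm

theorem Uset_comm {a b : G} (ha : a ∈ Uset S) (hb : b ∈ Uset S) : a * b = b * a := by
  obtain ⟨ha, u, hu⟩ := ha
  obtain ⟨hb, v, hv⟩ := hb
  refine (S.commute_iff ha hb).2 ?_
  rw [hu, hv, Bp_dc (by omega) (by omega), bz_eq_zero]
  exact (show ∀ u v : Fin 16, Bn u.val v.val = false by decide +kernel) u v

namespace Frm

variable (D : Frm S w)
include D

theorem E_Uset {i : Fin 8} (hi : i.val < 4) : D.E i ∈ Uset S :=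
  mem_Uset (u := 2 ^ i.val) (by revert i; decide) (D.E_mem i) (D.E_pr i)

theorem E_Au {i : Fin 8} (hi : i.val < 4) : D.E i ∈ Au S :=
  Subgroup.mem_centralizer_iff.2 fun a ha => Uset_comm ha (D.E_Uset hi)

omit D in
theorem zmem_Au : z ∈ Au S :=
  Subgroup.mem_centralizer_iff.2 fun a ha => Uset_comm ha z_mem_Uset

theorem line_Au {i j : Fin 8} (hi : i.val < 4) (hj : j.val < 4) {x : G} (hx : D.IsLine i j x) : x ∈ Au S := by
  refine Subgroup.mem_centralizer_iff.2 fun a ha => ?_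
  obtain ⟨ha, u, hu⟩ := ha
  refine D.perp_comm_at (B_un_zero (ne4 (low_facts i j hi hj))) hx.1 hx.2.2.1 hx.2.2.2 ha ?_ ?_ <;>
    rw [hu, Bp_dc (by omega) (un_code _).1, bz_eq_zero]
  exacts [U_perp u i hi, U_perp u j hj]

/-- The chosen lifts of the six lines. -/
noncomputable def X (k : Fin 6) : G :=
  (D.exists_line (pair_facts k).2.2.1 (pair_facts k).2.2.2).choose

theorem X_spec (k : Fin 6) : D.IsLine (pI k) (pJ k) (D.X k) :=
  (D.exists_line (pair_facts k).2.2.1 (pair_facts k).2.2.2).choose_spec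

theorem X_Au (k : Fin 6) : D.X k ∈ Au S :=
  D.line_Au (pair_facts k).1 (pair_facts k).2.1 (D.X_spec k)

/-- Products of the four low lifts. -/
noncomputable def phiU (u : ℕ) : G :=
  ex (D.E 0) (u.testBit 0) * ex (D.E 1) (u.testBit 1) * ex (D.E 2) (u.testBit 2) * ex (D.E 3) (u.testBit 3)

/-- Products of the six line lifts. -/
noncomputable def phiX (a : ℕ) : G :=
  ex (D.X 0) (a.testBit 0) * (ex (D.X 1) (a.testBit 1) * (ex (D.X 2) (a.testBit 2) *
    (ex (D.X 3) (a.testBit 3) * (ex (D.X 4) (a.testBit 4) * ex (D.X 5) (a.testBit 5)))))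

/-- Eleven bits to the group. -/
noncomputable def phi (v : ℕ) : G :=
  ex z (v.testBit 0) * D.phiU (v >>> 1 % 16) * D.phiX (v >>> 5)

theorem ex_mem {g : G} (hg : g ∈ Au S) (b : Bool) : ex g b ∈ Au S := by
  cases b
  · exact one_mem _
  · exact hg

theorem phiX_mem (a : ℕ) : D.phiX a ∈ Au S :=
  mul_mem (D.ex_mem (D.X_Au _) _) (mul_mem (D.ex_mem (D.X_Au _) _) (mul_mem (D.ex_mem (D.X_Au _) _)
    (mul_mem (D.ex_mem (D.X_Au _) _) (mul_mem (D.ex_mem (D.X_Au _) _) (D.ex_mem (D.X_Au _) _)))))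

theorem phiU_spec (u : Fin 16) : D.phiU u.val ∈ oc z ∧ S.pr (D.phiU u.val) = dc u.val := by
  have h : ∀ (i : Fin 8) (b : Bool), ex (D.E i) b ∈ oc z ∧
      S.pr (ex (D.E i) b) = dc (if b then 2 ^ i.val else 0) := fun i b => by
    cases b
    · exact ⟨one_mem _, by rw [show ex (D.E i) false = 1 from rfl, S.pr_one]; exact dc_zero.symm⟩
    · exact ⟨D.E_mem i, D.E_pr i⟩
  refine ⟨mul_mem (mul_mem (mul_mem (h 0 _).1 (h 1 _).1) (h 2 _).1) (h 3 _).1, ?_⟩
  rw [phiU, S.pr_mul _ (mul_mem (mul_mem (h 0 _).1 (h 1 _).1) (h 2 _).1) _ (h 3 _).1,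
    S.pr_mul _ (mul_mem (h 0 _).1 (h 1 _).1) _ (h 2 _).1, S.pr_mul _ (h 0 _).1 _ (h 1 _).1,
    (h 0 _).2, (h 1 _).2, (h 2 _).2, (h 3 _).2, ← dc_xor, ← dc_xor, ← dc_xor]
  exact congrArg dc (four_bits u).symm

theorem phiU_Uset (u : Fin 16) : D.phiU u.val ∈ Uset S :=
  ⟨(D.phiU_spec u).1, u, (D.phiU_spec u).2⟩

theorem act_X (k : Fin 6) (b : Bool) {y : ℕ} (hy : y < 256) :
    (S.act (ex (D.X k) b)).1 (dc y) = dc (stp k b y) := by
  cases b
  · rw [show ex (D.X k) false = 1 from rfl, S.act_one, oG_one_apply]; rfl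
  · rw [show ex (D.X k) true = D.X k from rfl, (D.X_spec k).2.2.2, tl_dc _ _ hy]; rfl

theorem act_phiX (a : ℕ) {y : ℕ} (hy : y < 256) :
    (S.act (D.phiX a)).1 (dc y) = dc (altn a y) := by
  have hz : ∀ k b, ex (D.X k) b * z = z * ex (D.X k) b := fun k b => Au_z (D.ex_mem (D.X_Au k) b)
  have hm : ∀ {c d : G}, c * z = z * c → d * z = z * d → c * d * z = z * (c * d) :=
    fun h1 h2 => (Commute.mul_left h1 h2).eq
  have l5 := stp_lt 5 (a.testBit 5) ⟨y, hy⟩
  have l4 := stp_lt 4 (a.testBit 4) ⟨_, l5⟩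
  have l3 := stp_lt 3 (a.testBit 3) ⟨_, l4⟩
  have l2 := stp_lt 2 (a.testBit 2) ⟨_, l3⟩
  have l1 := stp_lt 1 (a.testBit 1) ⟨_, l2⟩
  dsimp only at l5 l4 l3 l2 l1
  rw [phiX, S.act_mul (hz 0 _) (hm (hz 1 _) (hm (hz 2 _) (hm (hz 3 _) (hm (hz 4 _) (hz 5 _))))),
    S.act_mul (hz 1 _) (hm (hz 2 _) (hm (hz 3 _) (hm (hz 4 _) (hz 5 _)))),
    S.act_mul (hz 2 _) (hm (hz 3 _) (hm (hz 4 _) (hz 5 _))),
    S.act_mul (hz 3 _) (hm (hz 4 _) (hz 5 _)), S.act_mul (hz 4 _) (hz 5 _),
    oG_mul_apply, oG_mul_apply, oG_mul_apply, oG_mul_apply, oG_mul_apply,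
    D.act_X 5 _ hy, D.act_X 4 _ l5, D.act_X 3 _ l4, D.act_X 2 _ l3, D.act_X 1 _ l2, D.act_X 0 _ l1]
  rfl

theorem phi_mem (v : ℕ) : D.phi v ∈ Au S :=
  mul_mem (mul_mem (D.ex_mem zmem_Au _) (mul_mem (mul_mem (mul_mem (D.ex_mem (D.E_Au (by decide)) _)
    (D.ex_mem (D.E_Au (by decide)) _)) (D.ex_mem (D.E_Au (by decide)) _)) (D.ex_mem (D.E_Au (by decide)) _)))
    (D.phiX_mem _)

theorem exU_comm {c : G} (hc : c ∈ Au S) (b : Bool) (u : Fin 16) :
    Commute (ex z b * D.phiU u.val) c := by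
  refine Commute.mul_left ?_ ?_
  · cases b
    · exact Commute.one_left _
    · exact (Au_z hc).symm
  · exact Subgroup.mem_centralizer_iff.1 hc _ (D.phiU_Uset u)

/-- Every element of the centraliser has a code. -/
theorem phi_surj {c : G} (hc : c ∈ Au S) : ∃ v : Fin 2048, c = D.phi v.val := by
  classical
  have hcz := Au_z hc
  have hfix : ∀ u : Fin 16, (S.act c).1 (dc u.val) = dc u.val := fun u => by
    obtain ⟨a, ha, hae⟩ := S.pr_surj (dc u.val)
    rw [← hae, ← S.act_spec c hcz a ha, mul_inv_eq_of_eq_mul (Subgroup.mem_centralizer_iff.1 hc a ⟨ha, u, hae⟩).symm]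
  have hrow : ∀ i : Fin 4, ∃ u : Fin 16, (S.act c).1 (dc (16 <<< i.val)) = dc ((16 <<< i.val) ^^^ u.val) := by
    intro i
    have h16 : (16 <<< i.val : ℕ) < 256 := by revert i; decide
    obtain ⟨u, hu⟩ := row_code i (cd ((S.act c).1 (dc (16 <<< i.val)))) fun j => by
      have hj : 2 ^ j.val < 256 := by revert j; decide
      refine code_Bn hj ?_
      rw [← hfix ⟨2 ^ j.val, by revert j; decide⟩, polar_g, Bp_dc h16 hj]
      exact congrArg bz ((show ∀ i j : Fin 4, Bn (16 <<< i.val) (2 ^ j.val) = decide (j = i) by decide +kernel) i j)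
    exact ⟨u, by rw [← dc_cd ((S.act c).1 (dc (16 <<< i.val))), hu]⟩
  choose u hu using hrow
  have hlt : ∀ i : Fin 4, (16 <<< i.val) ^^^ (u i).val < 256 := fun i =>
    xor_lt (by revert i; decide) (by have := (u i).isLt; omega)
  have hsym : ∀ i j : Fin 4, (u i).val.testBit i.val = false ∧ (u i).val.testBit j.val = (u j).val.testBit i.val := by
    intro i j
    refine sym_code i j (u i) (u j) ?_ ?_
    · refine bz_inj _ _ ?_
      rw [← q_dc (hlt i), ← hu, (S.act c).2, q_dc (by revert i; decide)]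
      exact congrArg bz ((show ∀ i : Fin 4, qn (16 <<< i.val) = false by decide +kernel) i)
    · refine bz_inj _ _ ?_
      rw [← Bp_dc (hlt i) (hlt j), ← hu, ← hu, polar_g, Bp_dc (by revert i; decide) (by revert j; decide)]
      exact congrArg bz ((show ∀ i j : Fin 4, Bn (16 <<< i.val) (16 <<< j.val) = false by decide +kernel) i j)
  obtain ⟨a, e0, e1, e2, e3, e4, e5⟩ := six_bits ((u 0).val.testBit 1) ((u 0).val.testBit 2)
    ((u 0).val.testBit 3) ((u 1).val.testBit 2) ((u 1).val.testBit 3) ((u 2).val.testBit 3)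
  have hd : ∀ i, (u i).val.testBit i.val = false := fun i => (hsym i i).1
  have h6 : a.val.testBit 6 = false := Nat.testBit_lt_two_pow (by have := a.isLt; omega)
  have halt : ∀ i : Fin 4, altn a.val (16 <<< i.val) = (16 <<< i.val) ^^^ (u i).val := fun i => by
    refine alt_code i a (u i) fun j => ?_
    fin_cases i <;> fin_cases j <;>
      simp only [pIdx, e0, e1, e2, e3, e4, e5, h6, Matrix.cons_val_zero, Matrix.cons_val_one,
        Matrix.cons_val, Fin.isValue, Fin.zero_eta, Fin.mk_one, Fin.reduceFinMk, Fin.val_zero, Fin.val_one, Fin.val_two] <;>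
      first
        | exact hd _
        | rfl
        | exact (hsym 1 0).2
        | exact (hsym 2 0).2
        | exact (hsym 2 1).2
        | exact (hsym 3 0).2
        | exact (hsym 3 1).2
        | exact (hsym 3 2).2
  have hX := D.phiX_mem a.val
  have hXz := Au_z hX
  have hXi := (Commute.inv_left hXz).eq
  have hk : (D.phiX a.val)⁻¹ * c ∈ Au S := mul_mem (inv_mem hX) hc
  have hkz : (D.phiX a.val)⁻¹ * c ∈ oc z := by
    refine S.act_ker _ (Au_z hk) (ext_oG fun x => ?_)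
    have hag : ∀ k ∈ [1, 2, 4, 8, 16, 32, 64, 128], (S.act c).1 (dc k) = (S.act (D.phiX a.val)).1 (dc k) := by
      intro k hk
      obtain ⟨hk256, h | ⟨i, rfl⟩⟩ := basis_list k hk
      · rw [hfix ⟨k, h⟩, D.act_phiX _ hk256, altn_low a ⟨k, h⟩]
      · rw [hu, D.act_phiX _ hk256, halt]
    rw [S.act_mul hXi hcz, S.act_inv hXz, oG_mul_apply, oG_one_apply]
    have := ext_basis (f := ((S.act c).1 : V →ₗ[ZMod 2] V)) (g := ((S.act (D.phiX a.val)).1 : V →ₗ[ZMod 2] V))
      hag x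
    simp only [LinearEquiv.coe_coe] at this
    rw [this, oG_inv_apply]
  have hu0 : (cd (S.pr ((D.phiX a.val)⁻¹ * c))).val < 16 := U_of_perp _ fun j => by
    have hj : 2 ^ j.val < 256 := by revert j; decide
    refine code_Bn hj ?_
    obtain ⟨b, hb, hbe⟩ := S.pr_surj (dc (2 ^ j.val))
    rw [← hbe, (S.commute_iff hkz hb).1 (Subgroup.mem_centralizer_iff.1 hk b
      ⟨hb, ⟨2 ^ j.val, (show ∀ j : Fin 4, 2 ^ j.val < 16 by decide) j⟩, hbe⟩).symm]
    rfl
  obtain ⟨u0, hu0'⟩ : ∃ u0 : Fin 16, S.pr ((D.phiX a.val)⁻¹ * c) = dc u0.val := ⟨⟨_, hu0⟩, (dc_cd _).symm⟩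
  obtain ⟨b, hb⟩ : ∃ b : Bool, (D.phiX a.val)⁻¹ * c = ex z b * D.phiU u0.val := by
    obtain ⟨h1, h2⟩ := D.phiU_spec u0
    rcases S.pr_eq h1 hkz (h2.trans hu0'.symm) with e | e
    · exact ⟨false, by rw [e, show ex z false = 1 from rfl, one_mul]⟩
    · exact ⟨true, by rw [e, show ex z true = z from rfl, S.comm h1]⟩
  refine ⟨⟨(if b then 1 else 0) + 2 * u0.val + 32 * a.val, ?_⟩, ?_⟩
  · have := u0.isLt; have := a.isLt; cases b <;> simp <;> omega
  obtain ⟨p1, p2, p3⟩ := parts b u0 a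
  show c = D.phi _
  rw [phi, p1, p2, p3, (D.exU_comm hX b u0).eq, ← hb, mul_inv_cancel_left]

theorem phi_inj {v v' : Fin 2048} (h : D.phi v.val = D.phi v'.val) : v = v' := by
  have hzU : ∀ v : ℕ, ex z (v.testBit 0) * D.phiU (v >>> 1 % 16) ∈ oc z := fun v => by
    refine mul_mem ?_ (D.phiU_spec ⟨_, Nat.mod_lt _ (by norm_num)⟩).1
    cases v.testBit 0
    · exact one_mem _
    · exact S.zmem
  have hlt : ∀ v : Fin 2048, v.val >>> 5 < 64 := fun v => by
    rw [Nat.shiftRight_eq_div_pow]; have := v.isLt; omega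
  have ha : ∀ v : Fin 2048, ∀ y, y < 256 → (S.act (D.phi v.val)).1 (dc y) = dc (altn (v.val >>> 5) y) := by
    intro v y hy
    rw [phi, S.act_mul (S.comm (hzU v.val)) (Au_z (D.phiX_mem _)), S.act_inner (hzU v.val), one_mul,
      D.act_phiX _ hy]
  have ea : v.val >>> 5 = v'.val >>> 5 := by
    have := altn_sep ⟨_, hlt v⟩ ⟨_, hlt v'⟩ fun i => by
      have h16 : (16 <<< i.val : ℕ) < 256 := by revert i; decide
      refine dc_inj (altn_lt ⟨_, hlt v⟩ ⟨_, h16⟩) (altn_lt ⟨_, hlt v'⟩ ⟨_, h16⟩) ?_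
      rw [← ha v _ h16, ← ha v' _ h16, h]
    exact congrArg Fin.val this
  have hz' : ∀ b : Bool, ex z b ∈ oc z ∧ S.pr (ex z b) = 0 := fun b => by
    cases b
    · exact ⟨one_mem _, S.pr_one⟩
    · exact ⟨S.zmem, S.pr_z⟩
  rw [phi, phi, ea] at h
  have h' := mul_right_cancel h
  have hpu : ∀ v : ℕ, S.pr (ex z (v.testBit 0) * D.phiU (v >>> 1 % 16)) = dc (v >>> 1 % 16) := fun v => by
    obtain ⟨h1, h2⟩ := D.phiU_spec ⟨v >>> 1 % 16, Nat.mod_lt _ (by norm_num)⟩
    rw [S.pr_mul _ (hz' _).1 _ h1, (hz' _).2, zero_add, h2]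
  have eu : v.val >>> 1 % 16 = v'.val >>> 1 % 16 :=
    dc_inj ((Nat.mod_lt _ (by norm_num : 0 < 16)).trans (by norm_num))
      ((Nat.mod_lt _ (by norm_num : 0 < 16)).trans (by norm_num))
      (by rw [← hpu v.val, ← hpu v'.val, h'])
  rw [eu] at h'
  have eb : v.val.testBit 0 = v'.val.testBit 0 := by
    have := mul_right_cancel h'
    revert this
    cases v.val.testBit 0 <;> cases v'.val.testBit 0 <;> intro e
    · rfl
    · exact absurd e.symm S.zne
    · exact absurd e S.zne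
    · rfl
  exact Fin.ext (by rw [of_parts v, of_parts v', ea, eu, eb])

theorem card_Au : Nat.card ↥(Au S) = 2048 := by
  have e := Nat.card_eq_of_bijective (fun v : Fin 2048 => (⟨D.phi v.val, D.phi_mem _⟩ : ↥(Au S)))
    ⟨fun v v' h => D.phi_inj (congrArg Subtype.val h), fun c => by
      obtain ⟨v, hv⟩ := D.phi_surj c.2
      exact ⟨v, Subtype.ext hv.symm⟩⟩
  rw [← e, Nat.card_fin]

/-- Moving a line by a line: the commutator is a line. -/
theorem move_line {i j m : Fin 8} (hi : i.val < 4) (hj : j.val < 4) (hm : m.val < 4) (hij : i ≠ j) (him : i ≠ m)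
    (hjm : j ≠ m) {T x : G} (hT : D.IsLine i (j + 4) T) (hx : D.IsLine j m x) :
    D.IsLine i m (T * x * T⁻¹ * x⁻¹) := by
  have h1 : ∀ l : Fin 8, l.val < 4 → ∀ l' : Fin 8, l'.val < 4 → l' ≠ l → l' + 4 ≠ l + 4 ∧ l' ≠ l + 4 + 4 := by
    decide
  have hTi : i ≠ j + 4 + 4 := by rw [← add44]; exact hij
  have hTm : D.E m * T = T * D.E m := D.line_E (h1 i hi j hj hij.symm).1 (low_facts i m hi hm)
    (h1 j hj m hm hjm.symm).2 hT
  have hxi : D.E i * x = x * D.E i := D.line_E (low_facts j m hj hm) (low_facts j i hj hi) (low_facts m i hm hi) hx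
  obtain ⟨T1, -, T3, T4⟩ := hT
  obtain ⟨-, x2, x3, x4⟩ := hx
  have hTi' := (Commute.inv_left T3).eq
  have hxi' := (Commute.inv_left x3).eq
  refine ⟨?_, ?_, (Commute.mul_left (Commute.mul_left (Commute.mul_left T3 x3) hTi') hxi').eq, fun y => ?_⟩
  · have h := conj_mem_oc (g := x) (inv_mem T1)
    rw [← hxi, mul_inv_cancel_right] at h
    rw [show T * x * T⁻¹ * x⁻¹ = T * (x * T⁻¹ * x⁻¹) by group]
    exact mul_mem T1 h
  · have h := conj_mem_oc (g := T) x2
    rw [← hTm, mul_inv_cancel_right] at h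
    exact mul_mem h (inv_mem x2)
  · have hTx : T * x * T⁻¹ * z = z * (T * x * T⁻¹) := (Commute.mul_left (Commute.mul_left T3 x3) hTi').eq
    obtain ⟨u, rfl⟩ := (S.act T).1.surjective y
    rw [S.act_mul hTx hxi', S.act_mul (Commute.mul_left T3 x3).eq hTi', S.act_mul T3 x3, S.act_inv T3,
      S.act_inv x3, oG_mul_apply, oG_mul_apply, oG_mul_apply]
    have hinv : ∀ r, (S.act x)⁻¹.1 r = tl (un j) (un m) r := fun r => by
      refine (S.act x).1.injective ?_
      rw [oG_apply_inv, x4, ← dc_cd r, tl_dc _ _ (cd r).isLt, tl_dc _ _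
        (tln_lt j m (cd r))]
      exact congrArg dc (tln_invol
          j m (cd r) (low_facts j m hj hm))
    have hTinv : ∀ r, (S.act T)⁻¹.1 r = tl (un i) (un (j + 4)) r := fun r => by
      refine (S.act T).1.injective ?_
      rw [oG_apply_inv, T4, ← dc_cd r, tl_dc _ _ (cd r).isLt, tl_dc _ _
        (tln_lt i (j + 4) (cd r))]
      exact congrArg dc (tln_invol
          i (j + 4) (cd r) (h1 i hi j hj hij.symm).1)
    have hlt := tln_lt
    obtain ⟨r, hr⟩ := dc_surj ((S.act T).1 u)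
    rw [← hr]
    rw [hinv, tl_dc _ _ r.isLt, hTinv, tl_dc _ _ (hlt j m r), x4, tl_dc _ _ (hlt i (j + 4) ⟨_, hlt j m r⟩),
      T4, tl_dc _ _ (hlt j m ⟨_, hlt i (j + 4) ⟨_, hlt j m r⟩⟩), tl_dc _ _ r.isLt]
    exact congrArg dc (move_code i j m hi hj hm hij him hjm r)

/-- The three skew pairs commute as soon as one does. -/
theorem X_comm (hgood : D.X 2 * D.X 3 = D.X 3 * D.X 2) (k l : Fin 6) : D.X k * D.X l = D.X l * D.X k := by
  have shared : ∀ k l : Fin 6, k.val + l.val ≠ 5 → D.X k * D.X l = D.X l * D.X k := by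
    intro k l hkl
    have hc : pI k = pI l ∨ pI k = pJ l ∨ pJ k = pI l ∨ pJ k = pJ l :=
      (show ∀ k l : Fin 6, k.val + l.val ≠ 5 → pI k = pI l ∨ pI k = pJ l ∨ pJ k = pI l ∨ pJ k = pJ l by
        decide +kernel) k l hkl
    obtain ⟨i1, j1, -, -⟩ := pair_facts k
    obtain ⟨i2, j2, -, -⟩ := pair_facts l
    have h1 := D.X_spec k
    have h2 := D.X_spec l
    rcases hc with e | e | e | e
    · exact D.line_comm (low_facts _ _ i1 j1) (low_facts _ _ i1 j2) (low_facts _ _ j1 j2) h1 (e ▸ h2)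
    · exact D.line_comm (low_facts _ _ i1 j1) (low_facts _ _ i1 i2) (low_facts _ _ j1 i2) h1
        (e ▸ D.line_symm h2)
    · exact D.line_comm (low_facts _ _ j1 i1) (low_facts _ _ j1 j2) (low_facts _ _ i1 j2) (D.line_symm h1)
        (e ▸ h2)
    · exact D.line_comm (low_facts _ _ j1 i1) (low_facts _ _ j1 i2) (low_facts _ _ i1 i2) (D.line_symm h1)
        (e ▸ D.line_symm h2)
  have step : ∀ (i j : Fin 8) (a b c d : Fin 6), i.val < 4 → j.val < 4 → i ≠ j →
      (∀ x : G, D.IsLine (pI b) (pJ b) x → D.IsLine j (if pI b = j then pJ b else pI b) x) →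
      (∀ x : G, D.IsLine (pI d) (pJ d) x → D.IsLine j (if pI d = j then pJ d else pI d) x) →
      (∀ x : G, D.IsLine i (if pI b = j then pJ b else pI b) x → D.IsLine (pI a) (pJ a) x) →
      (∀ x : G, D.IsLine i (if pI d = j then pJ d else pI d) x → D.IsLine (pI c) (pJ c) x) →
      pI a ≠ pJ a → i ≠ (if pI b = j then pJ b else pI b) → i ≠ (if pI d = j then pJ d else pI d) →
      j ≠ (if pI b = j then pJ b else pI b) → j ≠ (if pI d = j then pJ d else pI d) →
      a.val + c.val ≠ 5 → b.val + d.val ≠ 5 → a.val + b.val ≠ 5 → c.val + d.val ≠ 5 →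
      D.X b * D.X c = D.X c * D.X b → D.X a * D.X d = D.X d * D.X a := by
    intro i j a b c d hi hj hij hb hd hA hC _ n1 n2 n3 n4 s1 s2 s3 s4 hbc
    obtain ⟨T, hT⟩ := D.exists_line (i := i) (j := j + 4)
      ((show ∀ i j : Fin 8, i.val < 4 → j.val < 4 → i ≠ j + 4 by decide) i j hi hj)
      (by intro e; exact hij (add_right_cancel e).symm)
    have hlow : ∀ k : Fin 6, ∀ j : Fin 8, (if pI k = j then pJ k else pI k).val < 4 := fun k j => by
      split_ifs
      exacts [(pair_facts k).2.1, (pair_facts k).1]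
    have hb' := hA _ (D.move_line hi hj (hlow b j) hij n1 n3 hT (hb _ (D.X_spec b)))
    have hd' := hC _ (D.move_line hi hj (hlow d j) hij n2 n4 hT (hd _ (D.X_spec d)))
    have hab : ∃ t : ZMod 2, T * D.X b * T⁻¹ = zp z t * (D.X a * D.X b) := by
      rcases D.line_unique (pair_facts a).2.2.1 (D.X_spec a) hb' with e | e
      · exact ⟨0, by rw [zp_zero, one_mul, ← e]; group⟩
      · refine ⟨1, ?_⟩
        rw [zp_one, ← mul_assoc, ← (D.X_spec a).2.2.1, ← e]; group
    have hcd : ∃ t : ZMod 2, T * D.X d * T⁻¹ = zp z t * (D.X c * D.X d) := by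
      rcases D.line_unique (pair_facts c).2.2.1 (D.X_spec c) hd' with e | e
      · exact ⟨0, by rw [zp_zero, one_mul, ← e]; group⟩
      · refine ⟨1, ?_⟩
        rw [zp_one, ← mul_assoc, ← (D.X_spec c).2.2.1, ← e]; group
    obtain ⟨t, ht⟩ := hab
    obtain ⟨t', ht'⟩ := hcd
    have hbd : Commute (T * D.X b * T⁻¹) (T * D.X d * T⁻¹) := by
      show T * D.X b * T⁻¹ * (T * D.X d * T⁻¹) = T * D.X d * T⁻¹ * (T * D.X b * T⁻¹)
      calc T * D.X b * T⁻¹ * (T * D.X d * T⁻¹) = T * (D.X b * D.X d) * T⁻¹ := by group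
        _ = _ := by rw [shared b d s2]; group
    rw [ht, ht'] at hbd
    have hzc : ∀ (t : ZMod 2) {x : G}, x * z = z * x → Commute (zp z t) x := fun t x hx => (S.comm_zp hx t).symm
    have hXz : ∀ k, D.X k * z = z * D.X k := fun k => (D.X_spec k).2.2.1
    have key : D.X a * D.X b * (D.X c * D.X d) = D.X c * D.X d * (D.X a * D.X b) := by
      have e1 := hbd.eq
      rw [show zp z t * (D.X a * D.X b) * (zp z t' * (D.X c * D.X d)) =
          zp z t * zp z t' * (D.X a * D.X b * (D.X c * D.X d)) by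
        rw [show zp z t * (D.X a * D.X b) * (zp z t' * (D.X c * D.X d)) =
          zp z t * (D.X a * D.X b * zp z t') * (D.X c * D.X d) by group,
          ((hzc t' (Commute.mul_left (hXz a) (hXz b)).eq).symm).eq]
        group,
        show zp z t' * (D.X c * D.X d) * (zp z t * (D.X a * D.X b)) =
          zp z t' * zp z t * (D.X c * D.X d * (D.X a * D.X b)) by
        rw [show zp z t' * (D.X c * D.X d) * (zp z t * (D.X a * D.X b)) =
          zp z t' * (D.X c * D.X d * zp z t) * (D.X a * D.X b) by group,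
          ((hzc t (Commute.mul_left (hXz c) (hXz d)).eq).symm).eq]
        group,
        show zp z t' * zp z t = zp z t * zp z t' by rw [← zp_add S.zz, ← zp_add S.zz, add_comm]] at e1
      exact mul_left_cancel e1
    have hac := shared a c s1
    have hab' := shared a b s3
    have hcd' := shared c d s4
    have hbd' := shared b d s2
    -- move `b` and `c` out
    have e2 : D.X b * D.X c * (D.X a * D.X d) = D.X b * D.X c * (D.X d * D.X a) := by
      have l : D.X a * D.X b * (D.X c * D.X d) = D.X b * D.X c * (D.X a * D.X d) := by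
        calc D.X a * D.X b * (D.X c * D.X d) = D.X a * D.X b * D.X c * D.X d := by group
          _ = D.X b * D.X a * D.X c * D.X d := by rw [hab']
          _ = D.X b * (D.X a * D.X c) * D.X d := by group
          _ = D.X b * D.X c * (D.X a * D.X d) := by rw [hac]; group
      have r : D.X c * D.X d * (D.X a * D.X b) = D.X b * D.X c * (D.X d * D.X a) := by
        calc D.X c * D.X d * (D.X a * D.X b) = D.X c * D.X d * (D.X b * D.X a) := by rw [hab']
          _ = D.X c * (D.X d * D.X b) * D.X a := by group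
          _ = D.X c * D.X b * (D.X d * D.X a) := by rw [← hbd']; group
          _ = _ := by rw [← hbc]
      rw [← l, ← r, key]
    exact mul_left_cancel e2
  have h14 : D.X 1 * D.X 4 = D.X 4 * D.X 1 :=
    step 0 1 1 3 2 4 (by decide) (by decide) (by decide) (fun x h => h) (fun x h => h)
      (fun x h => h) (fun x h => h) (by decide) (by decide) (by decide) (by decide) (by decide)
      (by decide) (by decide) (by decide) (by decide) hgood.symm
  have h05 : D.X 0 * D.X 5 = D.X 5 * D.X 0 :=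
    step 1 2 0 1 4 5 (by decide) (by decide) (by decide) (fun x h => D.line_symm h) (fun x h => h)
      (fun x h => D.line_symm h) (fun x h => h) (by decide) (by decide) (by decide) (by decide) (by decide)
      (by decide) (by decide) (by decide) (by decide) h14
  by_cases h : k.val + l.val = 5
  · fin_cases k <;> fin_cases l <;> first
      | (exfalso; revert h; decide)
      | exact h05
      | exact h05.symm
      | exact h14
      | exact h14.symm
      | exact hgood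
      | exact hgood.symm
  · exact shared k l h

variable (hgood : D.X 2 * D.X 3 = D.X 3 * D.X 2)
include hgood

theorem Au_comm {c d : G} (hc : c ∈ Au S) (hd : d ∈ Au S) : c * d = d * c := by
  have hex : ∀ {t g : G} (b : Bool), Commute t g → Commute t (ex g b) := fun {t g} b h => by
    cases b
    · exact Commute.one_right t
    · exact h
  have hgen : ∀ {t : G}, t ∈ Au S → (∀ k, Commute t (D.X k)) → ∀ v : ℕ, Commute t (D.phi v) := by
    intro t ht hX v
    refine Commute.mul_right ?_ ?_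
    · exact (D.exU_comm ht _ ⟨v >>> 1 % 16, Nat.mod_lt _ (by norm_num)⟩).symm
    · exact (hex _ (hX 0)).mul_right ((hex _ (hX 1)).mul_right ((hex _ (hX 2)).mul_right
        ((hex _ (hX 3)).mul_right ((hex _ (hX 4)).mul_right (hex _ (hX 5))))))
  obtain ⟨v, rfl⟩ := D.phi_surj hd
  refine (hgen hc (fun k => ?_) _).eq
  obtain ⟨u, rfl⟩ := D.phi_surj hc
  exact (hgen (D.X_Au k) (fun l => D.X_comm hgood k l) _).symm

theorem phi_xor (v v' : ℕ) (hv : v < 2048) (hv' : v' < 2048) :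
    D.phi (v ^^^ v') = D.phi v * D.phi v' := by
  have hE : ∀ {i : Fin 8}, i.val < 4 → D.E i ∈ Au S := fun h => D.E_Au h
  letI : CommGroup ↥(Au S) :=
    { (inferInstance : Group ↥(Au S)) with mul_comm := fun a b => Subtype.ext (D.Au_comm hgood a.2 b.2) }
  have hsq : ∀ g : G, g * g = 1 → ∀ a b : Bool, ex g (a != b) = ex g a * ex g b := by
    intro g hg a b
    cases a <;> cases b <;> simp [ex, hg]
  let gz : ↥(Au S) := ⟨z, zmem_Au⟩
  let ge : Fin 4 → ↥(Au S) := fun i => ⟨D.E ⟨i.val, by omega⟩, hE (by simp)⟩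
  let gx : Fin 6 → ↥(Au S) := fun k => ⟨D.X k, D.X_Au k⟩
  let ep : ↥(Au S) → Bool → ↥(Au S) := fun g b => ⟨ex (g : G) b, D.ex_mem g.2 b⟩
  have hep : ∀ g : ↥(Au S), (g : G) * g = 1 → ∀ a b, ep g (a != b) = ep g a * ep g b :=
    fun g hg a b => Subtype.ext (hsq _ hg a b)
  let P : ℕ → ↥(Au S) := fun v =>
    ep gz (v.testBit 0) * (ep (ge 0) ((v >>> 1 % 16).testBit 0) * ep (ge 1) ((v >>> 1 % 16).testBit 1) *
      ep (ge 2) ((v >>> 1 % 16).testBit 2) * ep (ge 3) ((v >>> 1 % 16).testBit 3)) *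
      (ep (gx 0) ((v >>> 5).testBit 0) * (ep (gx 1) ((v >>> 5).testBit 1) * (ep (gx 2) ((v >>> 5).testBit 2) *
        (ep (gx 3) ((v >>> 5).testBit 3) * (ep (gx 4) ((v >>> 5).testBit 4) * ep (gx 5) ((v >>> 5).testBit 5))))))
  have hP : ∀ v, (P v : G) = D.phi v := fun v => rfl
  have hbit : ∀ j : ℕ, j < 4 → ((v ^^^ v') >>> 1 % 16).testBit j =
      ((v >>> 1 % 16).testBit j != (v' >>> 1 % 16).testBit j) := fun j hj => by
    rw [show (16 : ℕ) = 2 ^ 4 from rfl, Nat.testBit_mod_two_pow, Nat.testBit_mod_two_pow,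
      Nat.testBit_mod_two_pow]
    simp [hj, Nat.testBit_shiftRight, Nat.testBit_xor]
  have hxb : ∀ j : ℕ, ((v ^^^ v') >>> 5).testBit j = ((v >>> 5).testBit j != (v' >>> 5).testBit j) :=
    fun j => by simp [Nat.testBit_shiftRight, Nat.testBit_xor]
  have sE : ∀ i : Fin 4, (ge i : G) * ge i = 1 := fun i => D.E_sq _
  have sX : ∀ k : Fin 6, (gx k : G) * gx k = 1 := fun k => D.line_sq (pair_facts k).2.2.2 (D.X_spec k)
  have : P (v ^^^ v') = P v * P v' := by
    simp only [P, hxb, hbit 0 (by norm_num), hbit 1 (by norm_num), hbit 2 (by norm_num), hbit 3 (by norm_num),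
      Nat.testBit_xor, hep gz S.zz, fun i => hep (ge i) (sE i), fun k => hep (gx k) (sX k)]
    ac_rfl
  rw [← hP, ← hP, ← hP, this]
  rfl

theorem Au_sq {c : G} (hc : c ∈ Au S) : c * c = 1 := by
  obtain ⟨v, rfl⟩ := D.phi_surj hc
  rw [← D.phi_xor hgood _ _ v.isLt v.isLt, Nat.xor_self]
  simp [phi, phiU, phiX, ex]

end Frm

end Cfsg.Agent.CoOneGolay
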